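import Cfsg.Agent.FGS.OrbitPowerSolvable

/-!
Groups in which all elements of `q`-power order have classes of prime power size.
-/

set_option linter.style.haveILetI false

namespace CfsgLib.FGS.BaerQ

open MulAction Subgroup Cfsg
open scoped IsMulCommutative

universe u

variable {G : Type u} [Group G] [Finite G] {q : ℕ} [hq : Fact q.Prime]

/-- Index of the centralizer of an element. -/
noncomputable abbrev cidx (x : G) : ℕ := (centralizer ({x} : Set G)).index

/-- Elements of `q`-power order. -/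
def IsQ (q : ℕ) (x : G) : Prop := ∃ k : ℕ, orderOf x = q ^ k

theorem cidx_conj (g x : G) : cidx (g * x * g⁻¹) = cidx x := by
  have e : (centralizer ({x} : Set G)).map (MulAut.conj g).toMonoidHom =
      centralizer ({g * x * g⁻¹} : Set G) := by
    ext c
    rw [Subgroup.mem_map_equiv, mem_centralizer_singleton_iff, mem_centralizer_singleton_iff]
    simp only [MulAut.conj_symm_apply]
    constructor
    · intro h
      have := congrArg (fun z => g * z * g⁻¹) h
      calc c * (g * x * g⁻¹) = g * (g⁻¹ * c * g * x) * g⁻¹ := by group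
        _ = g * (x * (g⁻¹ * c * g)) * g⁻¹ := this
        _ = g * x * g⁻¹ * c := by group
    · intro h
      calc g⁻¹ * c * g * x = g⁻¹ * (c * (g * x * g⁻¹)) * g := by group
        _ = g⁻¹ * (g * x * g⁻¹ * c) * g := by rw [h]
        _ = x * (g⁻¹ * c * g) := by group
  unfold cidx
  rw [← e]
  exact Subgroup.index_map_equiv _ (MulAut.conj g)

theorem isQ_of_mem {Q : Subgroup G} (hQ : IsPGroup q Q) {x : G} (hx : x ∈ Q) : IsQ q x := by
  obtain ⟨k, hk⟩ := IsPGroup.iff_orderOf.mp hQ ⟨x, hx⟩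
  exact ⟨k, by rwa [Subgroup.orderOf_mk] at hk⟩

theorem isQ_mul {Q : Subgroup G} (hQ : IsPGroup q Q) {x y : G} (hx : x ∈ Q) (hy : y ∈ Q) :
    IsQ q (x * y) := isQ_of_mem hQ (Q.mul_mem hx hy)

theorem exists_conj_mem (Q : Sylow q G) {x : G} (hx : IsQ q x) :
    ∃ g : G, g * x * g⁻¹ ∈ (Q : Subgroup G) := by
  obtain ⟨k, hk⟩ := hx
  have hz : IsPGroup q (zpowers x) := IsPGroup.of_card (by rw [Nat.card_zpowers, hk])
  obtain ⟨R, hR⟩ := hz.exists_le_sylow
  obtain ⟨g, rfl⟩ := MulAction.exists_smul_eq G R Q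
  exact ⟨g, by
    rw [Sylow.coe_subgroup_smul]
    exact ⟨x, hR (mem_zpowers x), rfl⟩⟩

/-- An element whose class has size prime to `q` is central in some Sylow `q`-subgroup. -/
theorem exists_sylow_le {x : G} (hx : ¬ q ∣ cidx x) :
    ∃ R : Sylow q G, (R : Subgroup G) ≤ centralizer ({x} : Set G) := by
  set C := centralizer ({x} : Set G)
  obtain ⟨S⟩ : Nonempty (Sylow q C) := inferInstance
  have hidx : ¬ q ∣ ((S : Subgroup C).map C.subtype).index := by
    rw [Subgroup.index_map_subtype]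
    intro hd
    rcases hq.out.dvd_mul.mp hd with h | h
    · exact S.not_dvd_index h
    · exact hx h
  exact ⟨(S.2.map C.subtype).toSylow hidx, map_subtype_le _⟩

theorem not_dvd_of_ne {r a : ℕ} (hr : r.Prime) (h : r ≠ q) : ¬ q ∣ r ^ a := fun hd =>
  h ((Nat.prime_dvd_prime_iff_eq hq.out hr).mp (hq.out.dvd_of_dvd_pow hd)).symm

/-- An element of class size prime to `q` centralises `O_q(G)`. -/
theorem commute_pCore {x u : G} (hx : ¬ q ∣ cidx x) (hu : u ∈ pCore q G) : Commute u x := by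
  obtain ⟨R, hR⟩ := exists_sylow_le hx
  exact mem_centralizer_singleton_iff.mp (hR (CfsgLib.Solvable.pCore_le_sylow R hu))

theorem mem_pCore_of_mem_fitting {H : Type u} [Group H] [Finite H] {y : H}
    (hy : y ∈ fittingSubgroup H) (hyq : IsQ q y) : y ∈ pCore q H := by
  have := CfsgLib.Solvable.fittingSubgroup_normal (G := H)
  have := CfsgLib.Solvable.fittingSubgroup_isNilpotent (G := H)
  obtain ⟨P⟩ : Nonempty (Sylow q (fittingSubgroup H)) := inferInstance
  have hPn : (P : Subgroup (fittingSubgroup H)).Normal := inferInstance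
  have := Sylow.unique_of_normal P hPn
  have hchar : (P : Subgroup (fittingSubgroup H)).Characteristic := P.characteristic_of_normal hPn
  obtain ⟨k, hk⟩ := hyq
  have hzp : IsPGroup q (zpowers (⟨y, hy⟩ : fittingSubgroup H)) :=
    IsPGroup.of_card (by rw [Nat.card_zpowers, Subgroup.orderOf_mk, hk])
  obtain ⟨P', hP'⟩ := hzp.exists_le_sylow
  rw [Subsingleton.elim P' P] at hP'
  have : ((P : Subgroup (fittingSubgroup H)).map (fittingSubgroup H).subtype).Normal :=
    CfsgLib.PLocal.normal_map_subtype _ _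
  exact CfsgLib.Solvable.le_pCore (P.2.map (fittingSubgroup H).subtype)
    ⟨_, hP' (mem_zpowers _), rfl⟩

instance pCore_normal' (p : ℕ) (H : Type u) [Group H] : (pCore p H).Normal :=
  CfsgLib.Solvable.pCore_normal p

theorem isQ_map {H : Type u} [Group H] (f : G →* H) {x : G} (hx : IsQ q x) : IsQ q (f x) := by
  obtain ⟨k, hk⟩ := hx
  obtain ⟨j, -, hj⟩ := (Nat.dvd_prime_pow hq.out).mp (hk ▸ orderOf_map_dvd f x)
  exact ⟨j, hj⟩

/-- Kazarin's theorem for a `q`-element. -/
theorem map_mem_pCore {x : G} (hx : IsQ q x) {r : ℕ} [Fact r.Prime] (hr : ∃ a, cidx x = r ^ a) :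
    QuotientGroup.mk' (pCore r G) x ∈ pCore q (G ⧸ pCore r G) := by
  obtain ⟨a, ha⟩ := hr
  exact mem_pCore_of_mem_fitting
    (CfsgLib.PrimePowerClass.mem_fitting_aux (Nat.card (G ⧸ pCore r G)) _ le_rfl _
      (CfsgLib.PrimePowerClass.pPow_of_dvd (a := a)
        (by rw [← ha]; exact CfsgLib.PrimePowerClass.index_dvd_quotient _ x))
      (CfsgLib.PLocal.pCore_quotient_pCore_eq_bot r G)) (isQ_map _ hx)

/-- A class of `q`-power size of a `q`-element lies in `O_q(G)`. -/
theorem mem_pCore_of_q {x : G} (hx : IsQ q x) (ha : ∃ a, cidx x = q ^ a) : x ∈ pCore q G := by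
  have h := map_mem_pCore hx ha
  rw [CfsgLib.PLocal.pCore_quotient_pCore_eq_bot, Subgroup.mem_bot] at h
  exact (QuotientGroup.eq_one_iff x).mp h

variable (hB : ∀ x : G, IsQ q x → ∃ r a : ℕ, r.Prime ∧ cidx x = r ^ a)

section CaseA

include hB

/-- Some non-central `q`-element has class of `q`-power size. -/
theorem caseA (Q : Sylow q G) {y : G} (hy : IsQ q y) {b : ℕ} (hb : 0 < b) (hyb : cidx y = q ^ b) :
    (Q : Subgroup G).Normal ∧ (∃ N : Subgroup G, N.Normal ∧ N.IsComplement' (Q : Subgroup G)) ∧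
      ∀ x : G, IsQ q x → ∃ a, cidx x = q ^ a := by
  classical
  set U := pCore q G with hU
  have hyU : y ∈ U := mem_pCore_of_q hy ⟨b, hyb⟩
  have hdich : ∀ x : G, IsQ q x → x ∈ U ∨ ∀ u ∈ U, Commute u x := by
    intro x hx
    obtain ⟨r, a, hr, ha⟩ := hB x hx
    by_cases hrq : r = q
    · exact Or.inl (mem_pCore_of_q hx ⟨a, hrq ▸ ha⟩)
    · exact Or.inr fun u hu => commute_pCore (ha ▸ not_dvd_of_ne hr hrq) hu
  have hyZ : ∃ u ∈ U, ¬ Commute u y := by
    by_contra hall
    push Not at hall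
    have hle : (Q : Subgroup G) ≤ centralizer ({y} : Set G) := fun x hx => by
      rw [mem_centralizer_singleton_iff]
      rcases hdich x (isQ_of_mem Q.2 hx) with h | h
      · exact hall x h
      · exact (h y hyU).symm
    exact Q.not_dvd_index ((hyb ▸ dvd_pow_self q hb.ne').trans (Subgroup.index_dvd_of_le hle))
  have hUp : IsPGroup q U := CfsgLib.Solvable.isPGroup_pCore q
  have hQU : (Q : Subgroup G) = U := by
    refine le_antisymm (fun x hx => ?_) (CfsgLib.Solvable.pCore_le_sylow Q)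
    by_contra hxU
    have hcx := (hdich x (isQ_of_mem Q.2 hx)).resolve_left hxU
    have hz := isQ_mul Q.2 hx (CfsgLib.Solvable.pCore_le_sylow Q hyU)
    rcases hdich _ hz with h | h
    · exact hxU (by simpa using U.mul_mem h (U.inv_mem hyU))
    · obtain ⟨u, hu, huy⟩ := hyZ
      apply huy
      have := (hcx u hu).inv_right.mul_right (h u hu)
      rwa [inv_mul_cancel_left] at this
  have hallU : ∀ x : G, IsQ q x → x ∈ U := by
    intro x hx
    obtain ⟨g, hg⟩ := exists_conj_mem Q hx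
    rw [hQU] at hg
    simpa [mul_assoc] using (inferInstance : U.Normal).conj_mem _ hg g⁻¹
  have hUidx : ¬ q ∣ U.index := hQU ▸ Q.not_dvd_index
  have hnoncentral : ∀ u ∈ U, (∃ w ∈ U, ¬ Commute w u) → ∃ a, cidx u = q ^ a := by
    intro u hu ⟨w, hw, hwu⟩
    obtain ⟨r, a, hr, ha⟩ := hB u (isQ_of_mem hUp hu)
    by_cases hrq : r = q
    · exact ⟨a, hrq ▸ ha⟩
    · exact absurd (commute_pCore (ha ▸ not_dvd_of_ne hr hrq) hw) hwu
  have := hUp.isNilpotent
  have hfix : ∀ h : G, (∃ s k : ℕ, s.Prime ∧ s ≠ q ∧ orderOf h = s ^ k) → ∀ u ∈ U, Commute u h := by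
    rintro h ⟨s, k, hs, hsq, hh⟩
    have : Fact s.Prime := ⟨hs⟩
    let C0 : Subgroup U := (centralizer ({h} : Set G)).subgroupOf U
    have hmeet : ∀ u : U, (∃ w : U, ¬ Commute w u) → ∃ v : U, v * u * v⁻¹ ∈ C0 := by
      rintro u ⟨w, hw⟩
      obtain ⟨a, ha⟩ := hnoncentral u u.2 ⟨w, w.2, fun e => hw (Subtype.ext e)⟩
      set C := centralizer ({(u : G)} : Set G) with hC
      have hsidx : ¬ s ∣ C.index := fun hd => by
        rw [show C.index = q ^ a from ha] at hd
        exact hsq ((Nat.prime_dvd_prime_iff_eq hs hq.out).mp (hs.dvd_of_dvd_pow hd))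
      obtain ⟨R, hR⟩ := exists_sylow_le (q := s) (x := (u : G)) hsidx
      obtain ⟨g, hg⟩ := exists_conj_mem R ⟨k, hh⟩
      have hgC := mem_centralizer_singleton_iff.mp (hR hg)
      have htop : U ⊔ C = ⊤ := by
        rw [← Subgroup.index_eq_one]
        refine Nat.eq_one_of_dvd_coprimes (Nat.Coprime.pow_right a (Nat.Coprime.symm
          (hq.out.coprime_iff_not_dvd.mpr hUidx))) (Subgroup.index_dvd_of_le le_sup_left) ?_
        exact (show C.index = q ^ a from ha) ▸ Subgroup.index_dvd_of_le le_sup_right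
      obtain ⟨v, hv, c, hc, hvc⟩ :=
        Subgroup.mem_sup_of_normal_left.mp (htop ▸ mem_top g⁻¹ : g⁻¹ ∈ U ⊔ C)
      refine ⟨⟨v, hv⟩, ?_⟩
      rw [Subgroup.mem_subgroupOf, mem_centralizer_singleton_iff]
      change v * (u : G) * v⁻¹ * h = h * (v * (u : G) * v⁻¹)
      have hcu : c * (u : G) * c⁻¹ = u := by
        rw [mul_inv_eq_iff_eq_mul]
        exact mem_centralizer_singleton_iff.mp hc
      have e : v * (u : G) * v⁻¹ = g⁻¹ * u * g := by
        calc v * (u : G) * v⁻¹ = v * (c * (u : G) * c⁻¹) * v⁻¹ := by rw [hcu]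
          _ = (v * c) * u * (v * c)⁻¹ := by group
          _ = g⁻¹ * u * g := by rw [hvc, inv_inv]
      rw [e]
      calc g⁻¹ * (u : G) * g * h = g⁻¹ * ((u : G) * (g * h * g⁻¹)) * g := by group
        _ = g⁻¹ * ((g * h * g⁻¹) * u) * g := by rw [hgC]
        _ = h * (g⁻¹ * u * g) := by group
    have hW : C0 ⊔ center U = ⊤ := by
      by_contra hW
      obtain ⟨M, hM, hle⟩ := (eq_top_or_exists_le_coatom (C0 ⊔ center U)).resolve_left hW
      have hMn : M.Normal := Subgroup.NormalizerCondition.normal_of_coatom _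
        Group.normalizerCondition_of_isNilpotent hM
      refine hM.1 (eq_top_iff.mpr fun u _ => ?_)
      by_cases hu : ∃ w : U, ¬ Commute w u
      · obtain ⟨v, hv⟩ := hmeet u hu
        simpa [mul_assoc] using hMn.conj_mem _ (hle (Subgroup.mem_sup_left hv)) v⁻¹
      · push Not at hu
        exact hle (Subgroup.mem_sup_right (mem_center_iff.mpr hu))
    have hC0n : C0.Normal := by
      refine ⟨fun x hx g => ?_⟩
      obtain ⟨z, hz, c, hc, rfl⟩ := Subgroup.mem_sup_of_normal_left.mp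
        (by rw [sup_comm, hW]; exact mem_top g : g ∈ center U ⊔ C0)
      rw [show z * c * x * (z * c)⁻¹ = z * (c * x * c⁻¹) * z⁻¹ by group,
        ← mem_center_iff.mp hz, mul_inv_cancel_right]
      exact C0.mul_mem (C0.mul_mem hc hx) (C0.inv_mem hc)
    have hnc : ∀ u : U, (∃ w : U, ¬ Commute w u) → u ∈ C0 := by
      intro u hu
      obtain ⟨v, hv⟩ := hmeet u hu
      simpa [mul_assoc] using hC0n.conj_mem _ hv v⁻¹
    intro u hu
    suffices key : (⟨u, hu⟩ : U) ∈ C0 from mem_centralizer_singleton_iff.mp key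
    by_cases hc : ∃ w : U, ¬ Commute w (⟨u, hu⟩ : U)
    · exact hnc _ hc
    · push Not at hc
      obtain ⟨w, hw, hwy⟩ := hyZ
      have hy0 : ∃ w : U, ¬ Commute w (⟨y, hyU⟩ : U) :=
        ⟨⟨w, hw⟩, fun e => hwy (congrArg Subtype.val e)⟩
      obtain ⟨w', hw'⟩ := hy0
      have h1 : (⟨u, hu⟩ : U) * ⟨y, hyU⟩ ∈ C0 := hnc _ ⟨w', fun e => hw' (by
        have := (hc w').inv_right.mul_right e
        rwa [inv_mul_cancel_left] at this)⟩
      have h2 : (⟨y, hyU⟩ : U) ∈ C0 := hnc _ ⟨w', hw'⟩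
      have := C0.mul_mem h1 (C0.inv_mem h2)
      rwa [mul_inv_cancel_right] at this
  obtain ⟨N, hN⟩ := Subgroup.exists_right_complement'_of_coprime (N := U) (by
    obtain ⟨j, hj⟩ := hUp.exists_card_eq
    rw [hj]
    exact Nat.Coprime.pow_left _ (hq.out.coprime_iff_not_dvd.mpr hUidx))
  have hNcard : Nat.card N = U.index := hN.symm.index_eq_card.symm
  have hNU : N ≤ centralizer (U : Set G) := by
    rw [← Subgroup.relIndex_eq_one, Subgroup.relIndex]
    by_contra hne
    obtain ⟨s, hs, hsd⟩ := Nat.exists_prime_and_dvd hne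
    have : Fact s.Prime := ⟨hs⟩
    obtain ⟨S⟩ : Nonempty (Sylow s N) := inferInstance
    have hsq : s ≠ q := by
      rintro rfl
      exact hUidx (hNcard ▸ hsd.trans (Subgroup.index_dvd_card _))
    refine S.not_dvd_index (hsd.trans (Subgroup.index_dvd_of_le fun x hx => ?_))
    obtain ⟨k, hk⟩ := isQ_of_mem S.2 hx
    rw [Subgroup.mem_subgroupOf, mem_centralizer_iff]
    exact fun u hu => hfix (x : G) ⟨s, k, hs, hsq, (Subgroup.orderOf_coe x).trans hk⟩ u hu
  have hNn : N.Normal := by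
    rw [← Subgroup.normalizer_eq_top_iff, eq_top_iff, ← hN.sup_eq_top, sup_le_iff]
    refine ⟨fun u hu => ?_, le_normalizer⟩
    rw [Subgroup.mem_normalizer_iff]
    intro n
    have key : ∀ m ∈ N, u * m * u⁻¹ = m := fun m hm => by
      rw [mul_inv_eq_iff_eq_mul]; exact mem_centralizer_iff.mp (hNU hm) u hu
    constructor
    · intro hn; rwa [key n hn]
    · intro hn
      have h1 : u⁻¹ * (u * n * u⁻¹) * u = u * n * u⁻¹ := by
        rw [mul_assoc, ← mem_centralizer_iff.mp (hNU hn) u hu, inv_mul_cancel_left]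
      have h2 : n = u * n * u⁻¹ := by
        rw [← h1]; group
      rwa [h2]
  refine ⟨hQU ▸ inferInstance, ⟨N, hNn, hQU ▸ hN.symm⟩, fun x hx => ?_⟩
  have hle : N ≤ centralizer ({x} : Set G) := fun n hn => mem_centralizer_singleton_iff.mpr
    (mem_centralizer_iff.mp (hNU hn) x (hallU x hx)).symm
  obtain ⟨j, hj⟩ := hUp.exists_card_eq
  exact CfsgLib.PrimePowerClass.pPow_of_dvd (a := j)
    (hj ▸ hN.index_eq_card ▸ Subgroup.index_dvd_of_le hle)

end CaseA

section CaseB

variable (hB' : ∀ x : G, IsQ q x → ∃ r a : ℕ, r.Prime ∧ r ≠ q ∧ cidx x = r ^ a)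
include hB'

omit hB in
theorem commute_of_mem (Q : Sylow q G) {x y : G} (hx : x ∈ (Q : Subgroup G))
    (hy : y ∈ (Q : Subgroup G)) : Commute x y := by
  obtain ⟨r, a, hr, hrq, ha⟩ := hB' x (isQ_of_mem Q.2 hx)
  have : Fact r.Prime := ⟨hr⟩
  set π := QuotientGroup.mk' (pCore r G) with hπ
  have hxV := map_mem_pCore (isQ_of_mem Q.2 hx) ⟨a, ha⟩
  obtain ⟨s, b, hs, hsq, hb⟩ := hB' y (isQ_of_mem Q.2 hy)
  have hyi : ¬ q ∣ cidx (π y) := fun hd => not_dvd_of_ne (q := q) (a := b) hs hsq
    (hb ▸ hd.trans (CfsgLib.PrimePowerClass.index_dvd_quotient _ y))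
  have hc : Commute (π x) (π y) := commute_pCore hyi hxV
  have h1 : x * y * x⁻¹ * y⁻¹ ∈ pCore r G := by
    refine (QuotientGroup.eq_one_iff _).mp ?_
    change π (x * y * x⁻¹ * y⁻¹) = 1
    rw [map_mul, map_mul, map_mul, map_inv, map_inv, hc.eq, mul_inv_cancel_right, mul_inv_cancel]
  have h2 : x * y * x⁻¹ * y⁻¹ ∈ (Q : Subgroup G) :=
    mul_mem (mul_mem (mul_mem hx hy) (inv_mem hx)) (inv_mem hy)
  have h3 : pCore r G ⊓ (Q : Subgroup G) = ⊥ :=
    CfsgLib.PLocal.disjoint_of_isPGroup_of_coprime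
      (CfsgLib.Solvable.isPGroup_pCore r) (by
        obtain ⟨j, hj⟩ := Q.2.exists_card_eq
        rw [hj]
        exact Nat.Coprime.pow_left _ ((Nat.coprime_primes hq.out hr).mpr hrq.symm))
  have h4 : x * y * x⁻¹ * y⁻¹ = 1 := Subgroup.mem_bot.mp (h3 ▸ Subgroup.mem_inf.mpr ⟨h1, h2⟩)
  exact mul_inv_eq_iff_eq_mul.mp (mul_inv_eq_one.mp h4)

omit hB hB' in
theorem index_inf_eq {H K : Subgroup G} (h : Nat.Coprime H.index K.index) :
    (H ⊓ K).index = H.index * K.index :=
  le_antisymm Subgroup.index_inf_le (Nat.le_of_dvd (Nat.pos_of_ne_zero FiniteIndex.index_ne_zero)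
    (h.mul_dvd_of_dvd_of_dvd (Subgroup.index_dvd_of_le inf_le_left)
      (Subgroup.index_dvd_of_le inf_le_right)))

omit hB hB' in
/-- Two commuting elements with classes of coprime prime power sizes `r ^ a`, `s ^ b` do not have
their product in a class of size `r ^ a`. -/
theorem false_of_product {x y : G} (hy : IsQ q y) {r s a b : ℕ}
    [Fact r.Prime] [Fact s.Prime] (hrs : r ≠ s) (hrq : r ≠ q) (hx : cidx x = r ^ a)
    (hys : cidx y = s ^ b) (hb : 0 < b) (hz : cidx (x * y) = r ^ a) : False := by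
  classical
  set Cx := centralizer ({x} : Set G) with hCx
  set Cy := centralizer ({y} : Set G) with hCy
  have hco : Nat.Coprime Cx.index Cy.index := by
    rw [show Cx.index = r ^ a from hx, show Cy.index = s ^ b from hys]
    exact Nat.Coprime.pow _ _ ((Nat.coprime_primes Fact.out Fact.out).mpr hrs)
  -- every pair of conjugates is a simultaneous conjugate
  have hpair : ∀ g h : G, ∃ k : G, k * x * k⁻¹ = g * x * g⁻¹ ∧ k * y * k⁻¹ = h * y * h⁻¹ := by
    intro g h
    obtain ⟨c, hc, d, hd, hcd⟩ := exists_mul_of_coprime hco (g⁻¹ * h)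
    refine ⟨g * c, ?_, ?_⟩
    · calc g * c * x * (g * c)⁻¹ = g * (c * x * c⁻¹) * g⁻¹ := by group
        _ = g * x * g⁻¹ := by
          rw [mul_inv_eq_iff_eq_mul.mpr (mem_centralizer_singleton_iff.mp hc)]
    · have e : g * c = h * d⁻¹ := by rw [show h = g * (c * d) by rw [hcd]; group]; group
      rw [e]
      calc h * d⁻¹ * y * (h * d⁻¹)⁻¹ = h * (d⁻¹ * y * d) * h⁻¹ := by group
        _ = h * y * h⁻¹ := by
          rw [mul_assoc d⁻¹, ← mem_centralizer_singleton_iff.mp hd, inv_mul_cancel_left]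
  obtain ⟨h0, hh0⟩ : ∃ h0 : G, h0 * y * h0⁻¹ ≠ y := by
    by_contra hall
    push Not at hall
    have : Cy = ⊤ := eq_top_iff.mpr fun g _ =>
      mem_centralizer_singleton_iff.mpr (mul_inv_eq_iff_eq_mul.mp (hall g))
    rw [hCy] at this
    rw [cidx, this, Subgroup.index_top] at hys
    exact absurd hys.symm (Nat.one_lt_pow hb.ne' (Fact.out : s.Prime).one_lt).ne'
  set y' := h0 * y * h0⁻¹ with hy'
  let X : Set G := orbit (ConjAct G) x
  let Z : Set G := orbit (ConjAct G) (x * y)
  have hX : ∀ t, t ∈ X ↔ ∃ g : G, g * x * g⁻¹ = t := fun t => by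
    constructor
    · rintro ⟨g, rfl⟩; exact ⟨ConjAct.ofConjAct g, rfl⟩
    · rintro ⟨g, rfl⟩; exact ⟨ConjAct.toConjAct g, rfl⟩
  have hXc : X.ncard = r ^ a := by
    rw [← hx, cidx, Subgroup.centralizer_eq_comap_stabilizer]
    rw [← index_stabilizer]
    exact (Subgroup.index_comap_of_surjective _ (MulEquiv.surjective _)).symm
  have hZc : Z.ncard = r ^ a := by
    rw [← hz, cidx, Subgroup.centralizer_eq_comap_stabilizer]
    rw [← index_stabilizer]
    exact (Subgroup.index_comap_of_surjective _ (MulEquiv.surjective _)).symm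
  have hmapto : ∀ (h : G), (fun t => t * (h * y * h⁻¹)) '' X = Z := by
    intro h
    refine Set.eq_of_subset_of_ncard_le ?_ ?_ (Set.toFinite _)
    · rintro _ ⟨t, ht, rfl⟩
      obtain ⟨g, rfl⟩ := (hX t).mp ht
      obtain ⟨k, hk1, hk2⟩ := hpair g h
      refine ⟨ConjAct.toConjAct k, ?_⟩
      change k * (x * y) * k⁻¹ = g * x * g⁻¹ * (h * y * h⁻¹)
      rw [← hk1, ← hk2]; group
    · rw [Set.ncard_image_of_injective _ (mul_left_injective _), hXc, hZc]
  set d := y' * y⁻¹ with hd
  have hinv : ∀ t ∈ X, t * d ∈ X := by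
    intro t ht
    have h1 : t * y' ∈ Z := hmapto h0 ▸ ⟨t, ht, rfl⟩
    rw [← hmapto 1] at h1
    obtain ⟨t', ht', e⟩ := h1
    have e' : t * d = t' := by
      simp only [inv_one, mul_one, one_mul] at e
      rw [hd, ← mul_assoc, ← e, mul_inv_cancel_right]
    exact e' ▸ ht'
  have hpre : (QuotientGroup.mk : G → G ⧸ zpowers d) ⁻¹' ((QuotientGroup.mk '' X)) = X := by
    refine Set.Subset.antisymm ?_ (Set.subset_preimage_image _ _)
    rintro t ⟨t', ht', e⟩
    obtain ⟨j, hj⟩ := mem_powers_iff_mem_zpowers.mpr (QuotientGroup.eq.mp e)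
    have hpow : ∀ j : ℕ, t' * d ^ j ∈ X := by
      intro j
      induction j with
      | zero => simpa using ht'
      | succ j ih => rw [pow_succ, ← mul_assoc]; exact hinv _ ih
    have := hpow j
    rwa [show d ^ j = t'⁻¹ * t from hj, mul_inv_cancel_left] at this
  have hdvd : orderOf d ∣ r ^ a := by
    rw [← hXc, ← Nat.card_coe_set_eq, ← hpre,
      Nat.card_congr (QuotientGroup.preimageMkEquivSubgroupProdSet _ _), Nat.card_prod,
      Nat.card_zpowers]
    exact dvd_mul_right _ _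
  -- `d` lies in a normal subgroup of order a product of powers of `s` and `q`
  set L := (pCore q (G ⧸ pCore s G)).comap (QuotientGroup.mk' (pCore s G)) with hL
  have hyL : y ∈ L := map_mem_pCore hy ⟨b, hys⟩
  have hdL : d ∈ L := L.mul_mem ((inferInstance : L.Normal).conj_mem y hyL h0) (L.inv_mem hyL)
  obtain ⟨i, hi⟩ := (CfsgLib.Solvable.isPGroup_pCore (G := G) s).exists_card_eq
  obtain ⟨j, hj⟩ := (CfsgLib.Solvable.isPGroup_pCore (G := G ⧸ pCore s G) q).exists_card_eq
  have hcard : orderOf d ∣ s ^ i * q ^ j := by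
    obtain ⟨e, he, hde⟩ := (Nat.dvd_prime_pow (Fact.out : r.Prime)).mp hdvd
    have h1 : QuotientGroup.mk' (pCore s G) d ∈ pCore q (G ⧸ pCore s G) := hdL
    have h2 : d ^ q ^ j ∈ pCore s G := by
      refine (QuotientGroup.eq_one_iff _).mp ?_
      change QuotientGroup.mk' (pCore s G) (d ^ q ^ j) = 1
      rw [map_pow, ← hj]
      exact congrArg Subtype.val (pow_card_eq_one' (x := (⟨_, h1⟩ : pCore q (G ⧸ pCore s G))))
    apply orderOf_dvd_of_pow_eq_one
    rw [mul_comm, pow_mul, ← hi]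
    exact congrArg Subtype.val (pow_card_eq_one' (x := (⟨_, h2⟩ : pCore s G)))
  have hd1 : orderOf d = 1 := Nat.eq_one_of_dvd_coprimes (Nat.Coprime.mul_right
    (Nat.Coprime.pow _ _ ((Nat.coprime_primes Fact.out Fact.out).mpr hrs))
    (Nat.Coprime.pow _ _ ((Nat.coprime_primes Fact.out hq.out).mpr hrq))) hdvd hcard
  rw [orderOf_eq_one_iff, hd, mul_inv_eq_one] at hd1
  exact hh0 hd1
where
  exists_mul_of_coprime {G : Type u} [Group G] [Finite G] {H K : Subgroup G}
      (h : Nat.Coprime H.index K.index) (g : G) : ∃ c ∈ H, ∃ d ∈ K, c * d = g := by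
    have h1 : K.relIndex H = K.index := by
      refine Nat.eq_of_mul_eq_mul_right (Nat.pos_of_ne_zero (FiniteIndex.index_ne_zero (H := H))) ?_
      rw [← Subgroup.inf_relIndex_left, Subgroup.relIndex_mul_index inf_le_left, index_inf_eq h,
        mul_comm]
    let f : H ⧸ K.subgroupOf H → G ⧸ K := Quotient.map' (fun a => (a : G)) fun a b hab => by
      rw [QuotientGroup.leftRel_apply] at hab ⊢
      exact hab
    have hinj : Function.Injective f := by
      rintro ⟨a⟩ ⟨b⟩ hab
      have := Quotient.exact' hab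
      rw [QuotientGroup.leftRel_apply] at this
      exact QuotientGroup.eq.mpr this
    obtain ⟨a, ha⟩ := (hinj.bijective_of_nat_card_le (le_of_eq h1.symm)).surjective (g : G ⧸ K)
    induction a using QuotientGroup.induction_on with
    | H a =>
      have ha' : ((a : G) : G ⧸ K) = (g : G ⧸ K) := ha
      exact ⟨a, a.2, _, QuotientGroup.eq.mp ha', mul_inv_cancel_left (a : G) g⟩

omit hB in
/-- One prime serves for all classes. -/
theorem exists_prime_for_all (Q : Sylow q G) :
    ∃ p : ℕ, p.Prime ∧ p ≠ q ∧ ∀ x : G, IsQ q x → ∃ a, cidx x = p ^ a := by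
  by_cases hall : ∀ x : G, IsQ q x → cidx x = 1
  · obtain ⟨p, hp, hpp⟩ := Nat.exists_infinite_primes (q + 1)
    exact ⟨p, hpp, by omega, fun x hx => ⟨0, by rw [hall x hx, pow_zero]⟩⟩
  push Not at hall
  obtain ⟨x0, hx0, hx01⟩ := hall
  obtain ⟨g, hg⟩ := exists_conj_mem Q hx0
  obtain ⟨r, a, hr, hrq, hx⟩ := hB' _ (isQ_of_mem Q.2 hg)
  have : Fact r.Prime := ⟨hr⟩
  have ha : 0 < a := by
    refine Nat.pos_of_ne_zero fun e => hx01 ?_
    rw [e, pow_zero, cidx_conj] at hx
    exact hx
  refine ⟨r, hr, hrq, fun y0 hy0 => ?_⟩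
  obtain ⟨g', hg'⟩ := exists_conj_mem Q hy0
  rw [← cidx_conj g' y0]
  set x := g * x0 * g⁻¹
  set y := g' * y0 * g'⁻¹
  obtain ⟨s, b, hs, hsq, hy⟩ := hB' y (isQ_of_mem Q.2 hg')
  have : Fact s.Prime := ⟨hs⟩
  by_contra hne
  have hrs : r ≠ s := fun e => hne ⟨b, e ▸ hy⟩
  have hb : 0 < b := Nat.pos_of_ne_zero fun e => hne ⟨0, by rw [hy, e, pow_zero, pow_zero]⟩
  have hxy : Commute x y := commute_of_mem hB' Q hg hg'
  obtain ⟨t, c, ht, -, hz⟩ := hB' _ (isQ_mul Q.2 hg hg')
  have hIxy := index_inf_eq (H := centralizer ({x} : Set G)) (K := centralizer ({y} : Set G)) (by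
    rw [show (centralizer ({x} : Set G)).index = r ^ a from hx,
      show (centralizer ({y} : Set G)).index = s ^ b from hy]
    exact Nat.Coprime.pow _ _ ((Nat.coprime_primes hr hs).mpr hrs))
  rw [show (centralizer ({x} : Set G)).index = r ^ a from hx,
      show (centralizer ({y} : Set G)).index = s ^ b from hy] at hIxy
  have hinter : centralizer ({x} : Set G) ⊓ centralizer ({y} : Set G) =
      centralizer ({x} : Set G) ⊓ centralizer ({x * y} : Set G) ∧
      centralizer ({x} : Set G) ⊓ centralizer ({y} : Set G) =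
      centralizer ({y} : Set G) ⊓ centralizer ({x * y} : Set G) := by
    constructor <;> ext c <;>
      simp only [Subgroup.mem_inf, mem_centralizer_singleton_iff] <;> constructor
    · rintro ⟨h1, h2⟩
      exact ⟨h1, (Commute.mul_right (a := c) h1 h2).eq⟩
    · rintro ⟨h1, h2⟩
      refine ⟨h1, ?_⟩
      have := (Commute.inv_right (a := c) (b := x) h1).mul_right (c := x * y) h2
      rwa [inv_mul_cancel_left] at this
    · rintro ⟨h1, h2⟩
      exact ⟨h2, (Commute.mul_right (a := c) h1 h2).eq⟩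
    · rintro ⟨h2, h1⟩
      refine ⟨?_, h2⟩
      have := Commute.mul_right (a := c) (b := x * y) h1 (Commute.inv_right (b := y) h2)
      rwa [mul_inv_cancel_right] at this
  have hcop : ∀ {u v : ℕ}, u.Prime → v.Prime → u ≠ v → ∀ i j, Nat.Coprime (u ^ i) (v ^ j) :=
    fun hu hv huv i j => Nat.Coprime.pow _ _ ((Nat.coprime_primes hu hv).mpr huv)
  by_cases htr : t = r
  · subst htr
    have h2 := index_inf_eq (H := centralizer ({y} : Set G)) (K := centralizer ({x * y} : Set G)) (by
      rw [show (centralizer ({y} : Set G)).index = s ^ b from hy,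
        show (centralizer ({x * y} : Set G)).index = t ^ c from hz]
      exact hcop hs ht hrs.symm _ _)
    rw [← hinter.2, hIxy, show (centralizer ({y} : Set G)).index = s ^ b from hy,
      show (centralizer ({x * y} : Set G)).index = t ^ c from hz, mul_comm (s ^ b)] at h2
    have hac : t ^ a = t ^ c := Nat.eq_of_mul_eq_mul_right (pow_pos hs.pos b) h2
    exact false_of_product (isQ_of_mem Q.2 hg') hrs hrq hx hy hb (hac ▸ hz)
  · have h1 := index_inf_eq (H := centralizer ({x} : Set G)) (K := centralizer ({x * y} : Set G)) (by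
      rw [show (centralizer ({x} : Set G)).index = r ^ a from hx,
        show (centralizer ({x * y} : Set G)).index = t ^ c from hz]
      exact hcop hr ht (Ne.symm htr) _ _)
    rw [← hinter.1, hIxy, show (centralizer ({x} : Set G)).index = r ^ a from hx,
      show (centralizer ({x * y} : Set G)).index = t ^ c from hz] at h1
    have hbc : s ^ b = t ^ c := Nat.eq_of_mul_eq_mul_left (pow_pos hr.pos a) h1
    exact false_of_product (isQ_of_mem Q.2 hg) hrs.symm hsq hy hx ha
      (by rw [← hxy.eq]; exact hz.trans hbc.symm)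

omit hB hB' in
theorem map_sylow_eq (Q : Sylow q G) {p : ℕ} [hp : Fact p.Prime]
    (h : ∀ x : G, IsQ q x → ∃ a, cidx x = p ^ a) :
    pCore q (G ⧸ pCore p G) = (Q : Subgroup G).map (QuotientGroup.mk' (pCore p G)) := by
  have hsur := QuotientGroup.mk'_surjective (pCore p G)
  refine le_antisymm ?_ ?_
  · have hidx : ¬ q ∣ ((Q : Subgroup G).map (QuotientGroup.mk' (pCore p G))).index := fun hd =>
      Q.not_dvd_index (hd.trans (Subgroup.index_map_dvd _ hsur))
    exact CfsgLib.Solvable.pCore_le_sylow ((Q.2.map _).toSylow hidx)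
  · rintro _ ⟨x, hx, rfl⟩
    exact map_mem_pCore (isQ_of_mem Q.2 hx) (h x (isQ_of_mem Q.2 hx))

omit hB hB' in
theorem sup_normal (Q : Sylow q G) {p : ℕ} [hp : Fact p.Prime]
    (h : ∀ x : G, IsQ q x → ∃ a, cidx x = p ^ a) :
    (pCore p G ⊔ (Q : Subgroup G)).Normal := by
  have e : pCore p G ⊔ (Q : Subgroup G) =
      ((Q : Subgroup G).map (QuotientGroup.mk' (pCore p G))).comap (QuotientGroup.mk' (pCore p G)) := by
    rw [Subgroup.comap_map_eq, QuotientGroup.ker_mk', sup_comm]
  rw [e, ← map_sylow_eq Q h]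
  exact (inferInstance : (pCore q (G ⧸ pCore p G)).Normal).comap _

omit hB hB' in
theorem isSolvable_quotient (Q : Sylow q G) {p : ℕ} [hp : Fact p.Prime] (hpq : p ≠ q)
    (h : ∀ x : G, IsQ q x → ∃ a, cidx x = p ^ a)
    (hcomm : ∀ x ∈ (Q : Subgroup G), ∀ y ∈ (Q : Subgroup G), Commute x y)
    [(pPrimeCore q G).Normal] : Group.IsSolvable (G ⧸ pPrimeCore q G) := by
  classical
  set π := QuotientGroup.mk' (pPrimeCore q G) with hπ
  have hsur := QuotientGroup.mk'_surjective (pPrimeCore q G)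
  set V := (Q : Subgroup G).map π with hV
  have hle : pCore p G ≤ pPrimeCore q G := by
    refine CfsgLib.PLocal.le_pPrimeCore ?_
    obtain ⟨j, hj⟩ := (CfsgLib.Solvable.isPGroup_pCore (G := G) p).exists_card_eq
    rw [hj]
    exact Nat.Coprime.pow_left _ ((Nat.coprime_primes hp.out hq.out).mpr hpq)
  have hVn : V.Normal := by
    have e : V = (pCore p G ⊔ (Q : Subgroup G)).map π := by
      rw [Subgroup.map_sup, (Subgroup.map_eq_bot_iff _).mpr (by rwa [QuotientGroup.ker_mk']),
        bot_sup_eq]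
    rw [e]
    exact (sup_normal Q h).map π hsur
  have hVc : IsMulCommutative V := by
    refine ⟨⟨?_⟩⟩
    rintro ⟨_, x, hx, rfl⟩ ⟨_, y, hy, rfl⟩
    exact Subtype.ext ((hcomm x hx y hy).map π).eq
  have hVidx : ¬ q ∣ V.index := fun hd => Q.not_dvd_index (hd.trans (Subgroup.index_map_dvd _ hsur))
  obtain ⟨d, hVd⟩ := (Q.2.map π).exists_card_eq
  set C := centralizer (V : Set (G ⧸ pPrimeCore q G)) with hC
  have hVC : V ≤ C := fun v hv => mem_centralizer_iff.mpr fun w hw =>
    congrArg Subtype.val (hVc.is_comm.comm ⟨w, hw⟩ ⟨v, hv⟩)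
  have hCn : C.Normal := Subgroup.normal_centralizer
  -- the centralizer of `V` is `V`
  have hCV : C ≤ V := by
    have hcoVC : Nat.Coprime (Nat.card (V.subgroupOf C)) (V.subgroupOf C).index := by
      rw [Nat.card_congr (Subgroup.subgroupOfEquivOfLe hVC).toEquiv, hVd]
      exact Nat.Coprime.pow_left _ (hq.out.coprime_iff_not_dvd.mpr fun hd =>
        hVidx (hd.trans (Subgroup.relIndex_dvd_index_of_le hVC)))
    obtain ⟨W, hW⟩ := Subgroup.exists_right_complement'_of_coprime hcoVC
    have hWn : W.Normal := by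
      rw [← Subgroup.normalizer_eq_top_iff, eq_top_iff, ← hW.sup_eq_top, sup_le_iff]
      refine ⟨fun v hv => ?_, le_normalizer⟩
      rw [Subgroup.mem_normalizer_iff]
      intro w
      have hvw : v * w = w * v := Subtype.ext (mem_centralizer_iff.mp w.2 _ hv)
      rw [hvw, mul_inv_cancel_right]
    have hWco : (Nat.card W).Coprime q := by
      rw [← hW.symm.index_eq_card]
      exact Nat.Coprime.symm (hq.out.coprime_iff_not_dvd.mpr fun hd =>
        hVidx (hd.trans (Subgroup.relIndex_dvd_index_of_le hVC)))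
    have hWb : W = ⊥ := by
      rw [eq_bot_iff]
      intro w hw
      have h1 : (w : G ⧸ pPrimeCore q G) ∈ pPrimeCore q (G ⧸ pPrimeCore q G) :=
        CfsgLib.PLocal.pPrimeCore_map_subtype_le C ⟨w, CfsgLib.PLocal.le_pPrimeCore hWco hw, rfl⟩
      rw [CfsgLib.PLocal.pPrimeCore_quotient_pPrimeCore_eq_bot, Subgroup.mem_bot] at h1
      exact Subgroup.mem_bot.mpr (Subtype.ext h1)
    rw [hWb, Subgroup.isComplement'_bot_right, Subgroup.subgroupOf_eq_top] at hW
    exact hW
  -- the action on `V`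
  let f : (G ⧸ pPrimeCore q G) →* AddMonoid.End (Additive V) :=
    { toFun := fun g => MonoidHom.toAdditive (MulAut.conjNormal g).toMonoidHom
      map_one' := by rw [map_one]; rfl
      map_mul' := fun g h => by rw [map_mul]; rfl }
  have hfV : ∀ v ∈ V, f v = 1 := fun v hv => AddMonoidHom.ext fun w => Subtype.ext (by
    change v * (Additive.toMul w : V) * v⁻¹ = (Additive.toMul w : V)
    rw [show v * (Additive.toMul w : V) = (Additive.toMul w : V) * v from
      congrArg Subtype.val (hVc.is_comm.comm ⟨v, hv⟩ (Additive.toMul w)), mul_inv_cancel_right])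
  let fb : ((G ⧸ pPrimeCore q G) ⧸ V) →* AddMonoid.End (Additive V) :=
    QuotientGroup.lift V f fun v hv => MonoidHom.mem_ker.mpr (hfV v hv)
  let act : DistribMulAction ((G ⧸ pPrimeCore q G) ⧸ V) (Additive V) :=
    DistribMulAction.compHom _ fb
  have himg := OrbitPower.isSolvable_image (p := p) (q := q) (V := Additive V)
    (K := (G ⧸ pPrimeCore q G) ⧸ V) ⟨d, hVd⟩ hVidx ?_
  · set e := (DistribMulAction.toAddMonoidEnd ((G ⧸ pPrimeCore q G) ⧸ V)
      (Additive V)).toHomUnits.rangeRestrict with he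
    have hker : e.ker = ⊥ := by
      rw [Subgroup.eq_bot_iff_forall]
      intro k hk
      induction k using QuotientGroup.induction_on with
      | H g =>
        refine (QuotientGroup.eq_one_iff g).mpr (hCV (mem_centralizer_iff.mpr fun v hv => ?_))
        have h1 := OrbitPower.toHomUnits_eq_one (MonoidHom.mem_ker.mp hk)
          (Additive.ofMul (⟨v, hv⟩ : V))
        have h2 : g * v * g⁻¹ = v :=
          congrArg (fun w : Additive V => ((Additive.toMul w : V) : G ⧸ pPrimeCore q G)) h1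
        exact (mul_inv_eq_iff_eq_mul.mp h2).symm
    have h2 : Group.IsSolvable ((G ⧸ pPrimeCore q G) ⧸ V) :=
      Group.isSolvable_of_isSolvable_injective ((MonoidHom.ker_eq_bot_iff e).mp hker)
    have h1 : Group.IsSolvable V :=
      Group.isSolvable_of_comm fun a b => hVc.is_comm.comm a b
    exact (Group.isSolvable_iff_subgroup_quotient V).mpr ⟨h1, h2⟩
  intro w
  obtain ⟨x, hx, hxw⟩ := (Additive.toMul w : V).2
  obtain ⟨a, ha⟩ := h x (isQ_of_mem Q.2 hx)
  refine CfsgLib.PrimePowerClass.pPow_of_dvd (a := a) (ha ▸ ?_)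
  refine (Subgroup.index_dvd_of_le (K := stabilizer _ w)
    (H := (centralizer ({x} : Set G)).map ((QuotientGroup.mk' V).comp π)) ?_).trans
    (Subgroup.index_map_dvd _ ((QuotientGroup.mk'_surjective V).comp hsur))
  rintro _ ⟨c, hc, rfl⟩
  rw [mem_stabilizer_iff]
  apply Additive.toMul.injective
  apply Subtype.ext
  change π c * ((Additive.toMul w : V) : G ⧸ pPrimeCore q G) * (π c)⁻¹ = (Additive.toMul w : V)
  rw [← hxw, ← map_mul, mem_centralizer_singleton_iff.mp hc, map_mul, mul_inv_cancel_right]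

end CaseB

end CfsgLib.FGS.BaerQ
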