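import Cfsg.Agent.FGS.OrbitImprimitive
import Cfsg.Agent.S3972

/-!
Irreducible coprime actions with prime power orbits: cyclic Sylow subgroups.
-/

set_option linter.style.haveILetI false

namespace CfsgLib.FGS.OrbitPower

open MulAction Subgroup
open scoped IsMulCommutative

universe u

variable {K V : Type u} [Group K] [AddCommGroup V] [DistribMulAction K V] {p q : ℕ}

/-- A cyclic Sylow 2-subgroup. -/
theorem solvable_of_cyclic_two [Finite K] [FaithfulSMul K V] (h : POrb 2 K V) (P : Sylow 2 K)
    (hP : IsCyclic (P : Subgroup K)) : Group.IsSolvable K := by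
  by_cases h2 : 2 ∣ Nat.card K
  · have hmin : (Nat.card K).minFac = 2 := (Nat.minFac_eq_two_iff _).mpr h2
    have hcomp := IsCyclic.isComplement' hmin hP
    set N := (MonoidHom.transferSylow P (IsCyclic.normalizer_le_centralizer hmin hP)).ker
    have hN : ¬ 2 ∣ Nat.card N := by
      rw [← hcomp.index_eq_card]
      exact P.not_dvd_index
    have hNb : N = ⊥ := eq_bot_of_not_dvd h N hN
    rw [hNb, Subgroup.isComplement'_bot_left] at hcomp
    have := P.2.isNilpotent
    rw [hcomp] at this
    have hs : Group.IsSolvable (⊤ : Subgroup K) := inferInstance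
    exact Group.isSolvable_of_surjective (f := (Subgroup.topEquiv (G := K)).toMonoidHom)
      (Subgroup.topEquiv (G := K)).surjective
  · have hb := eq_bot_of_not_dvd h (⊤ : Subgroup K) (by rwa [Subgroup.card_top])
    exact Group.isSolvable_of_top_eq_bot K hb

/-- Central elements of a perfect group in an abelian Sylow subgroup are trivial. -/
theorem eq_one_of_central [Finite K] [Fact p.Prime] (P : Sylow p K)
    [IsMulCommutative (P : Subgroup K)] (hperf : commutator K = ⊤) {m : K}
    (hmP : m ∈ (P : Subgroup K)) (hmc : m ∈ center K) : m = 1 := by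
  let τ : K →* (P : Subgroup K) := MonoidHom.transfer (MonoidHom.id (P : Subgroup K))
  have hτ : τ m = 1 := MonoidHom.mem_ker.mp
    (Abelianization.commutator_subset_ker τ (hperf ▸ mem_top m))
  have key : ∀ (k : ℕ) (g₀ : K), g₀⁻¹ * m ^ k * g₀ ∈ (P : Subgroup K) →
      g₀⁻¹ * m ^ k * g₀ = m ^ k := fun k g₀ _ => by
    rw [mul_assoc, ← mem_center_iff.mp (pow_mem hmc k) g₀, inv_mul_cancel_left]
  have h1 := MonoidHom.transfer_eq_pow (MonoidHom.id (P : Subgroup K)) m key
  rw [show MonoidHom.transfer (MonoidHom.id (P : Subgroup K)) m = τ m from rfl, hτ] at h1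
  have h2 : m ^ (P : Subgroup K).index = 1 := (congrArg Subtype.val h1).symm
  obtain ⟨e, he⟩ := (IsPGroup.iff_orderOf.mp P.2) ⟨m, hmP⟩
  rw [Subgroup.orderOf_mk] at he
  have h3 : p ^ e ∣ (P : Subgroup K).index := he ▸ orderOf_dvd_of_pow_eq_one h2
  rcases Nat.eq_zero_or_pos e with rfl | hpos
  · exact orderOf_eq_one_iff.mp (by rw [he, pow_zero])
  · exact absurd ((dvd_pow_self p hpos.ne').trans h3) P.not_dvd_index

/-- The final contradiction: sums of two points of a 2-transitive orbit are all different. -/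
theorem pair_sum_eq [Finite K] [Finite V] [hq : Fact q.Prime] (hV : ∃ d, Nat.card V = q ^ d)
    (hK : ¬ q ∣ Nat.card K) {v : V} (hv : v ≠ 0) [Fintype (orbit K v)]
    (hT : ∑ ω : orbit K v, (ω : V) = 0)
    (h2 : ∀ {a b c d : orbit K v}, a ≠ b → c ≠ d → ∃ g : K, g • a = c ∧ g • b = d)
    {a b c d : orbit K v} (hab : a ≠ b) (e : (a : V) + b = c + d) : a = c ∨ a = d := by
  classical
  by_contra hne
  push Not at hne
  obtain ⟨hac, had⟩ := hne
  set H := stabilizer K a with hH
  have : Fintype H := Fintype.ofFinite H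
  let F : V → V := fun x => ∑ h : H, (h : K) • x
  have hFadd : ∀ x y, F (x + y) = F x + F y := fun x y => by
    simp only [F, smul_add, Finset.sum_add_distrib]
  have hFa : F a = Fintype.card H • (a : V) := by
    simp only [F]
    rw [Finset.sum_congr rfl (fun (h : H) _ => show (h : K) • (a : V) = a from
      congrArg Subtype.val (mem_stabilizer_iff.mp h.2)), Finset.sum_const, Finset.card_univ]
  have hconst : ∀ x y : orbit K v, x ≠ a → y ≠ a → F x = F y := by
    intro x y hx hy
    obtain ⟨g, hg1, hg2⟩ := h2 hx.symm hy.symm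
    have e : (y : V) = g • (x : V) := (congrArg Subtype.val hg2).symm
    simp only [F, e, ← mul_smul]
    exact (Equiv.sum_comp (Equiv.mulRight (⟨g, hg1⟩ : H)) (fun h : H => (h : K) • (x : V))).symm
  have hsum : (Fintype.card (orbit K v) - 1) • F b + Fintype.card H • (a : V) = 0 := by
    have h0 : ∑ x : orbit K v, F x = 0 := by
      simp only [F]
      rw [Finset.sum_comm]
      exact Finset.sum_eq_zero fun h _ => by rw [← Finset.smul_sum, hT, smul_zero]
    rw [← Finset.add_sum_erase _ _ (Finset.mem_univ a), hFa,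
      Finset.sum_congr rfl (fun x hx => hconst x b (Finset.mem_erase.mp hx).1 hab.symm),
      Finset.sum_const, Finset.card_erase_of_mem (Finset.mem_univ a), Finset.card_univ] at h0
    rwa [add_comm]
  have hrel : Fintype.card H • (a : V) = F b := by
    have h := congrArg F e
    rw [hFadd, hFadd, hFa, hconst c b hac.symm hab.symm, hconst d b had.symm hab.symm] at h
    exact add_right_cancel h
  have hN : 0 < Fintype.card (orbit K v) := Fintype.card_pos_iff.mpr ⟨a⟩
  rw [← hrel, smul_smul, ← add_smul,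
    show (Fintype.card (orbit K v) - 1) * Fintype.card H + Fintype.card H =
      Fintype.card (orbit K v) * Fintype.card H by
        obtain ⟨N, hN'⟩ := Nat.exists_eq_add_of_le hN
        rw [hN', Nat.add_sub_cancel_left]
        ring] at hsum
  have hco : Nat.Coprime (addOrderOf (a : V)) (Fintype.card (orbit K v) * Fintype.card H) := by
    obtain ⟨d, hd⟩ := hV
    refine Nat.Coprime.coprime_dvd_left (hd ▸ addOrderOf_dvd_natCard _) (Nat.Coprime.pow_left _ ?_)
    refine Nat.Coprime.mul_right ?_ ?_ <;>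
      refine hq.out.coprime_iff_not_dvd.mpr fun h => hK (h.trans ?_)
    · rw [← Nat.card_eq_fintype_card, Nat.card_coe_set_eq, ← index_stabilizer]
      exact Subgroup.index_dvd_card _
    · rw [← Nat.card_eq_fintype_card]
      exact Subgroup.card_subgroup_dvd_card _
  have h1 : addOrderOf (a : V) ∣ Fintype.card (orbit K v) * Fintype.card H :=
    addOrderOf_dvd_of_nsmul_eq_zero hsum
  have ha0 : (a : V) = 0 :=
    AddMonoid.addOrderOf_eq_one_iff.mp (Nat.eq_one_of_dvd_coprimes hco dvd_rfl h1)
  obtain ⟨g, hg⟩ := a.2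
  exact hv ((smul_eq_zero_iff_eq g).mp (hg.trans ha0))

/-- A cyclic Sylow subgroup for an odd prime. -/
theorem solvable_of_cyclic_odd [Finite K] [Finite V] [FaithfulSMul K V] [hp : Fact p.Prime]
    [hq : Fact q.Prime] (hV : ∃ d, Nat.card V = q ^ d) (hK : ¬ q ∣ Nat.card K) (h : POrb p K V)
    (P : Sylow p K) (hirr : ∀ W : AddSubgroup V, (∀ k : K, ∀ w ∈ W, k • w ∈ W) → W = ⊥ ∨ W = ⊤)
    (hodd : Odd p) (hcyc : IsCyclic (P : Subgroup K))
    (hsub : ∀ N : Subgroup K, N.Normal → N ≠ ⊤ → Group.IsSolvable N) : Group.IsSolvable K := by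
  classical
  by_contra hns
  have hperf : commutator K = ⊤ := by
    by_contra hc
    have h1 := hsub _ inferInstance hc
    have h2 : Group.IsSolvable (K ⧸ commutator K) :=
      (inferInstance : Group.IsSolvable (Abelianization K))
    exact hns ((Group.isSolvable_iff_subgroup_quotient (commutator K)).mpr ⟨h1, h2⟩)
  have hPc : IsMulCommutative (P : Subgroup K) := IsCyclic.isMulCommutative
  have hsimple : ∀ N : Subgroup K, N.Normal → N ≠ ⊤ → N = ⊥ := by
    intro N hN hN1
    by_contra hN0
    have := hsub N hN hN1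
    have := N.nontrivial_iff_ne_bot.mpr hN0
    have hF := CfsgLib.Solvable.fittingSubgroup_ne_bot (G := N)
    rw [CfsgLib.Solvable.fittingSubgroup_eq_iSup, Ne, iSup_eq_bot, not_forall] at hF
    obtain ⟨⟨r, hr⟩, hr0⟩ := hF
    have : Fact r.Prime := ⟨hr⟩
    have := CfsgLib.Solvable.pCore_characteristic (G := N) r
    set M := (Cfsg.pCore r N).map N.subtype with hM
    have hMn : M.Normal := CfsgLib.PLocal.normal_map_subtype N _
    have hM0 : M ≠ ⊥ := fun e => hr0 ((Subgroup.map_eq_bot_iff_of_injective _ N.subtype_injective).mp e)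
    have hMr : IsPGroup r M := (CfsgLib.Solvable.isPGroup_pCore (G := N) r).map _
    by_cases hrp : r = p
    · subst hrp
      have hMP : M ≤ (P : Subgroup K) :=
        (CfsgLib.Solvable.le_pCore hMr).trans (CfsgLib.Solvable.pCore_le_sylow P)
      have hMcyc : IsCyclic M :=
        isCyclic_of_injective (Subgroup.inclusion hMP) (Subgroup.inclusion_injective hMP)
      refine hM0 ((Subgroup.eq_bot_iff_forall _).mpr fun m hm => ?_)
      refine eq_one_of_central P hperf (hMP hm) (mem_center_iff.mpr fun g => ?_)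
      let c : K →* MulAut M := MulAut.conjNormal
      have hab : ∀ φ ψ : MulAut M, φ * ψ = ψ * φ := by
        intro φ ψ
        obtain ⟨i, hi⟩ := MonoidHom.map_cyclic φ.toMonoidHom
        obtain ⟨j, hj⟩ := MonoidHom.map_cyclic ψ.toMonoidHom
        apply MulEquiv.ext
        intro x
        have hi' : ∀ x : M, φ x = x ^ i := hi
        have hj' : ∀ x : M, ψ x = x ^ j := hj
        rw [MulAut.mul_apply, MulAut.mul_apply, hi', hj', hj', hi', ← zpow_mul, ← zpow_mul, mul_comm]
      have hc : g ∈ c.ker := by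
        have hle : commutator K ≤ c.ker := by
          rw [commutator_def, Subgroup.commutator_le]
          intro x _ y _
          rw [MonoidHom.mem_ker, map_commutatorElement, commutatorElement_eq_one_iff_commute]
          exact hab (c x) (c y)
        exact hle (hperf ▸ mem_top g)
      have h1 : c g ⟨m, hm⟩ = ⟨m, hm⟩ := by rw [MonoidHom.mem_ker.mp hc]; rfl
      have h2 : g * m * g⁻¹ = m := congrArg Subtype.val h1
      exact mul_inv_eq_iff_eq_mul.mp h2
    · refine hM0 (eq_bot_of_not_dvd h M fun hd => ?_)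
      obtain ⟨k, hk⟩ := hMr.exists_card_eq
      rw [hk] at hd
      exact hrp ((Nat.prime_dvd_prime_iff_eq hp.out hr).mp (hp.out.dvd_of_dvd_pow hd)).symm
  obtain ⟨v, hH1⟩ : ∃ v : V, stabilizer K v ≠ ⊤ := by
    by_contra hall
    push Not at hall
    refine hns (Group.isSolvable_of_top_eq_bot K ((Subgroup.eq_bot_iff_forall _).mpr fun k _ =>
      FaithfulSMul.eq_of_smul_eq_smul fun w : V => ?_))
    rw [one_smul]
    exact mem_stabilizer_iff.mp (show k ∈ stabilizer K w from (hall w) ▸ mem_top k)
  have hv : v ≠ 0 := fun e => hH1 (eq_top_iff.mpr fun k _ => by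
    rw [e, mem_stabilizer_iff, smul_zero])
  set H := stabilizer K v with hH
  have hcore : ∀ M : Subgroup K, H ≤ M → M ≠ ⊤ → ∀ x ∈ (P : Subgroup K), x ∈ M → x = 1 := by
    intro M hHM hM x hxP hxM
    have hxc : x ∈ M.normalCore := by
      intro g
      obtain ⟨y, hy, e⟩ := exists_smul_eq_sylow h P g⁻¹ v
      have hgy : g * y ∈ M := hHM (by rw [mem_stabilizer_iff, mul_smul, e, smul_inv_smul])
      have hc : y⁻¹ * x * y = x := by
        have := congrArg Subtype.val (hPc.is_comm.comm (⟨x, hxP⟩ : (P : Subgroup K)) ⟨y, hy⟩)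
        rw [mul_assoc, show x * y = y * x from this, inv_mul_cancel_left]
      have e2 : g * x * g⁻¹ = (g * y) * (y⁻¹ * x * y) * (g * y)⁻¹ := by group
      rw [e2, hc]
      exact M.mul_mem (M.mul_mem hgy hxM) (M.inv_mem hgy)
    rw [hsimple M.normalCore M.normalCore_normal
      (fun e => hM (top_le_iff.mp (e ▸ M.normalCore_le)))] at hxc
    exact Subgroup.mem_bot.mp hxc
  have hcoatom : IsCoatom H := by
    refine ⟨hH1, fun M hM => ?_⟩
    by_contra hM1
    obtain ⟨m, hmM, hmH⟩ := SetLike.exists_of_lt hM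
    obtain ⟨x, hx, e⟩ := exists_smul_eq_sylow h P m v
    have hxm : x⁻¹ * m ∈ H := by rw [mem_stabilizer_iff, mul_smul, ← e, inv_smul_smul]
    have hxM : x ∈ M := by
      have h1 := M.mul_mem hmM (M.inv_mem (hM.le hxm))
      rwa [mul_inv_rev, inv_inv, ← mul_assoc, mul_inv_cancel, one_mul] at h1
    rw [hcore M hM.le hM1 x hx hxM, inv_one, one_mul] at hxm
    exact hmH hxm
  let ι : ↥(P : Subgroup K) → orbit K v := fun x => ⟨(x : K) • v, mem_orbit v (x : K)⟩
  have hι : Function.Bijective ι := by
    refine ⟨fun x y e => ?_, fun w => ?_⟩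
    · have e' : (x : K) • v = (y : K) • v := congrArg Subtype.val e
      have hmem : (y : K)⁻¹ * x ∈ H := by rw [mem_stabilizer_iff, mul_smul, e', inv_smul_smul]
      have := hcore H le_rfl hH1 _ ((P : Subgroup K).mul_mem ((P : Subgroup K).inv_mem y.2) x.2) hmem
      exact Subtype.ext (inv_mul_eq_one.mp this).symm
    · obtain ⟨_, g, rfl⟩ := w
      obtain ⟨x, hx, e⟩ := exists_smul_eq_sylow h P g v
      exact ⟨⟨x, hx⟩, Subtype.ext e⟩
  obtain ⟨k, hk⟩ := P.2.exists_card_eq
  have : Fintype (orbit K v) := Fintype.ofFinite _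
  have hΩ : Fintype.card (orbit K v) = p ^ k := by
    rw [← Nat.card_eq_fintype_card, ← Nat.card_congr (Equiv.ofBijective ι hι), hk]
  have hk1 : 1 ≤ k := by
    by_contra hk0
    have hk0 : k = 0 := by omega
    rw [hk0, pow_zero] at hΩ
    refine hH1 (eq_top_iff.mpr fun g _ => ?_)
    rw [mem_stabilizer_iff]
    exact congrArg Subtype.val (Fintype.card_le_one_iff.mp hΩ.le ⟨g • v, mem_orbit v g⟩
      ⟨v, mem_orbit_self v⟩)
  have hnt : Nontrivial (orbit K v) := Fintype.one_lt_card_iff_nontrivial.mp
    (hΩ ▸ one_lt_pow₀ hp.out.one_lt (by omega))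
  set f := MulAction.toPermHom K (orbit K v) with hf
  have hinj : Function.Injective f := by
    rw [← MonoidHom.ker_eq_bot_iff]
    refine hsimple _ inferInstance fun e => hH1 (eq_top_iff.mpr fun g _ => ?_)
    rw [mem_stabilizer_iff]
    have hg : g ∈ f.ker := e ▸ mem_top g
    have hg' : f g = 1 := MonoidHom.mem_ker.mp hg
    have h1 := Equiv.congr_fun hg' ⟨v, mem_orbit_self v⟩
    exact congrArg Subtype.val h1
  have htr : IsPretransitive f.range (orbit K v) := by
    refine ⟨fun x y => ?_⟩
    obtain ⟨g, hg⟩ := MulAction.exists_smul_eq K x y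
    exact ⟨⟨f g, g, rfl⟩, hg⟩
  have h2' : IsMultiplyPretransitive f.range (orbit K v) 2 := by
    rcases lt_or_ge k 2 with hk2 | hk2
    · have hk' : k = 1 := by omega
      rcases CfsgLib.Perm.PrimeDegree.burnside (p := p) (by rw [hΩ, hk', pow_one]) f.range with hs | h2
      · exact absurd (Group.isSolvable_of_isSolvable_injective (f := f.rangeRestrict)
          fun a b e => hinj (congrArg Subtype.val e)) hns
      · exact h2
    · by_contra h2
      obtain ⟨⟨g, hgP⟩, hg⟩ := hcyc.exists_ofOrder_eq_natCard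
      rw [Subgroup.orderOf_mk, hk] at hg
      refine (Cfsg.Agent.S3972.result p k hp.out hk2 hΩ f.range htr h2 ⟨f g, g, rfl⟩
        (by rw [← Subgroup.orderOf_coe, orderOf_injective f hinj, hg])).1 ?_
      have hstab : stabilizer K (⟨v, mem_orbit_self v⟩ : orbit K v) = H := by
        ext g
        exact Subtype.ext_iff
      have hprim : IsPreprimitive K (orbit K v) :=
        (isCoatom_stabilizer_iff_preprimitive (G := K) (⟨v, mem_orbit_self v⟩ : orbit K v)).mp
          (hstab ▸ hcoatom)
      let φ : orbit K v →ₑ[f.rangeRestrict] orbit K v := ⟨id, fun _ _ => rfl⟩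
      exact IsPreprimitive.of_surjective (f := φ) Function.surjective_id
  have h2 : ∀ {a b c d : orbit K v}, a ≠ b → c ≠ d → ∃ g : K, g • a = c ∧ g • b = d := by
    intro a b c d hab hcd
    obtain ⟨⟨_, g, rfl⟩, h1, h3⟩ := is_two_pretransitive_iff.mp h2' hab hcd
    exact ⟨g, h1, h3⟩
  have hT : ∑ ω : orbit K v, (ω : V) = 0 := by
    let Fx : AddSubgroup V :=
      { carrier := {x | ∀ g : K, g • x = x}
        zero_mem' := fun g => smul_zero g
        add_mem' := fun {a b} (ha : ∀ g : K, g • a = a) (hb : ∀ g : K, g • b = b) g => by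
          rw [smul_add, ha, hb]
        neg_mem' := fun {a} (ha : ∀ g : K, g • a = a) g => by rw [smul_neg, ha] }
    have hmem : ∑ ω : orbit K v, (ω : V) ∈ Fx := fun g => by
      rw [Finset.smul_sum]
      exact Equiv.sum_comp (MulAction.toPerm g) (fun ω : orbit K v => (ω : V))
    rcases hirr Fx (fun g w hw => by rw [show g • w = w from hw g]; exact hw) with hb | ht
    · exact AddSubgroup.mem_bot.mp (hb ▸ hmem)
    · exact absurd (eq_top_iff.mpr fun g _ => mem_stabilizer_iff.mpr
        ((ht ▸ AddSubgroup.mem_top v : v ∈ Fx) g)) hH1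
  obtain ⟨a, b, hab⟩ := exists_pair_ne (orbit K v)
  obtain ⟨m, hm⟩ := h ((a : V) + b)
  have hd := choose_two_dvd h2 hab (stabilizer K ((a : V) + b)) (fun g hg => by
    have hne : g • a ≠ g • b := fun e => hab (smul_left_cancel g e)
    have e : ((g • a : orbit K v) : V) + (g • b : orbit K v) = a + b := by
      rw [orbit.coe_smul, orbit.coe_smul, ← smul_add]
      exact mem_stabilizer_iff.mp hg
    have h1 := pair_sum_eq hV hK hv hT h2 hne e
    have h3 := pair_sum_eq hV hK hv hT h2 hne.symm
      (show ((g • b : orbit K v) : V) + (g • a : orbit K v) = a + b by rw [add_comm, e])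
    rcases h1 with h1 | h1 <;> rcases h3 with h3 | h3
    · exact absurd (h1.trans h3.symm) hne
    · exact Or.inl ⟨h1, h3⟩
    · exact Or.inr ⟨h1, h3⟩
    · exact absurd (h1.trans h3.symm) hne)
  rw [Nat.card_eq_fintype_card, hΩ, hm] at hd
  have h3 := eq_three hk1 hodd hd
  have hp3 : p = 3 := by
    have : p ∣ 3 := h3 ▸ dvd_pow_self p (by omega)
    exact (Nat.prime_dvd_prime_iff_eq hp.out Nat.prime_three).mp this
  subst hp3
  have hs := CfsgLib.Perm.PrimeDegree.isSolvable_of_card_le_three (p := 3) (hΩ.trans h3) le_rfl f.range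
  exact hns (Group.isSolvable_of_isSolvable_injective (f := f.rangeRestrict)
    fun a b e => hinj (congrArg Subtype.val e))

end CfsgLib.FGS.OrbitPower
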