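import Cfsg.Agent.FGS.OrbitSemilinear
import Cfsg.Agent.FGS.OrbitCyclic
import Cfsg.Prelude.Def_CaseTheorems

/-!
A finite group acting coprimely on an abelian group so that all orbit sizes are powers of a single
prime acts as a solvable group.
-/

set_option linter.style.haveILetI false

namespace CfsgLib.FGS.OrbitPower

open MulAction Subgroup

universe u

variable {p q : ℕ}

/-- The data needed in the semilinear case, read off from a Sylow 2-subgroup. -/
theorem exists_semilinear_data {P : Type*} [Group P] [Finite P] (hP : IsPGroup 2 P)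
    (hnc : ¬ IsCyclic P)
    (h : (∃ n : ℕ, Nonempty (P ≃* QuaternionGroup n)) ∨
      (∃ n : ℕ, 8 ≤ n ∧ Nonempty (P ≃* DihedralGroup n)) ∨ Cfsg.IsQuasiDihedral P) :
    ∃ (a b : P) (n s : ℕ), 2 ≤ n ∧ orderOf a = 2 ^ n ∧ s % 4 = 3 ∧ b * a * b⁻¹ = a ^ s ∧
      b * b ∈ zpowers a ∧ ∀ x, x ∈ zpowers a ∨ b⁻¹ * x ∈ zpowers a := by
  obtain ⟨k, hk⟩ := hP.exists_card_eq
  suffices key : ∃ (a b : P) (s : ℕ), 4 ∣ orderOf a ∧ Nat.card P = 2 * orderOf a ∧ s % 4 = 3 ∧
      b * a * b⁻¹ = a ^ s by
    obtain ⟨a, b, s, h4, hc, hs, hb⟩ := key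
    have hidx : (zpowers a).index = 2 := by
      have h1 := (zpowers a).index_mul_card
      rw [Nat.card_zpowers, hc] at h1
      exact Nat.eq_of_mul_eq_mul_right (orderOf_pos a) h1
    have hbA : b ∉ zpowers a := by
      intro hb'
      obtain ⟨j, hj⟩ := Subgroup.mem_zpowers_iff.mp hb'
      have h1 : b * a * b⁻¹ = a := by rw [← hj]; group
      have h2 : a ^ s = a ^ 1 := by rw [pow_one, ← hb, h1]
      have h3 := (pow_eq_pow_iff_modEq.mp h2).of_dvd h4
      unfold Nat.ModEq at h3
      omega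
    obtain ⟨n, hn⟩ := (IsPGroup.iff_orderOf.mp hP) a
    have hn2 : 2 ≤ n := by
      rw [hn] at h4
      by_contra hn2
      interval_cases n <;> simp at h4
    refine ⟨a, b, n, s, hn2, hn, hs, hb, ?_, fun x => ?_⟩
    · exact (Subgroup.mul_mem_iff_of_index_two hidx).mpr Iff.rfl
    · by_cases hx : x ∈ zpowers a
      · exact Or.inl hx
      · refine Or.inr ((Subgroup.mul_mem_iff_of_index_two hidx).mpr ?_)
        simp [hbA, hx]
  rcases h with ⟨n, ⟨e⟩⟩ | ⟨n, hn, ⟨e⟩⟩ | ⟨n, hn, hcard, x, y, hx, -, hy⟩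
  · rcases Nat.eq_zero_or_pos n with rfl | hn0
    · exfalso
      have := Finite.of_equiv P e.toEquiv
      have hi : Function.Injective fun i : ℤ => (QuaternionGroup.a i : QuaternionGroup 0) :=
        fun i j h => QuaternionGroup.a.inj h
      have := Finite.of_injective _ hi
      exact not_finite ℤ
    have : NeZero n := ⟨hn0.ne'⟩
    have hcard : Nat.card P = 4 * n := by
      rw [Nat.card_congr e.toEquiv, Nat.card_eq_fintype_card, QuaternionGroup.card]
    have ho : orderOf (e.symm (QuaternionGroup.a 1)) = 2 * n := by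
      rw [MulEquiv.orderOf_eq, QuaternionGroup.orderOf_a_one]
    have h2n : 2 ∣ n := by
      by_contra hodd
      have hn1 : n = 1 := by
        have hd : n ∣ 2 ^ k := ⟨4, by rw [← hk, hcard, mul_comm]⟩
        obtain ⟨j, -, rfl⟩ := (Nat.dvd_prime_pow Nat.prime_two).mp hd
        rcases j with _ | j
        · rfl
        · exact absurd (dvd_pow_self 2 j.succ_ne_zero) hodd
      subst hn1
      exact hnc (isCyclic_of_orderOf_eq_card (e.symm (QuaternionGroup.xa 0)) (by
        rw [MulEquiv.orderOf_eq, QuaternionGroup.orderOf_xa, hcard]))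
    refine ⟨e.symm (QuaternionGroup.a 1), e.symm (QuaternionGroup.xa 0), 2 * n - 1, ?_, ?_, ?_, ?_⟩
    · rw [ho]; obtain ⟨m, rfl⟩ := h2n; exact ⟨m, by ring⟩
    · rw [ho, hcard]; ring
    · obtain ⟨m, rfl⟩ := h2n; omega
    · rw [← map_inv, ← map_mul, ← map_mul, ← map_pow, QuaternionGroup.a_one_pow]
      congr 1
      change QuaternionGroup.a _ = QuaternionGroup.a _
      congr 1
      rw [Nat.cast_sub (by omega), ZMod.natCast_self]
      simp
      rw [← two_mul]
      exact_mod_cast ZMod.natCast_self (2 * n)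
  · have hcard : Nat.card P = 2 * n := by
      rw [Nat.card_congr e.toEquiv, DihedralGroup.nat_card]
    have ho : orderOf (e.symm (DihedralGroup.r 1)) = n := by
      rw [MulEquiv.orderOf_eq, DihedralGroup.orderOf_r_one]
    have hd : n ∣ 2 ^ k := ⟨2, by rw [← hk, hcard, mul_comm]⟩
    obtain ⟨j, -, rfl⟩ := (Nat.dvd_prime_pow Nat.prime_two).mp hd
    have hj : 3 ≤ j := by
      by_contra hj
      interval_cases j <;> omega
    obtain ⟨i, rfl⟩ := Nat.exists_eq_add_of_le (show 2 ≤ j by omega)
    refine ⟨e.symm (DihedralGroup.r 1), e.symm (DihedralGroup.sr 0), 2 ^ (2 + i) - 1, ?_, ?_, ?_, ?_⟩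
    · rw [ho]; exact dvd_trans (by norm_num) (pow_dvd_pow 2 (show 2 ≤ 2 + i by omega))
    · rw [ho, hcard]
    · have := Nat.one_le_two_pow (n := i)
      rw [pow_add, show (2 : ℕ) ^ 2 = 4 from rfl]; omega
    · rw [← map_inv, ← map_mul, ← map_mul, ← map_pow, DihedralGroup.r_one_pow]
      congr 1
      change DihedralGroup.r _ = DihedralGroup.r _
      congr 1
      rw [Nat.cast_sub (Nat.one_le_two_pow), ZMod.natCast_self]
      simp
  · obtain ⟨i, rfl⟩ := Nat.exists_eq_add_of_le hn
    refine ⟨x, y, 2 ^ (3 + i - 1) - 1, ?_, ?_, ?_, hy⟩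
    · rw [hx]; exact dvd_trans (by norm_num) (pow_dvd_pow 2 (show 2 ≤ 3 + i by omega))
    · rw [hx, hcard, pow_succ, mul_comm]
    · have := Nat.one_le_two_pow (n := i)
      rw [show 3 + i - 1 = 2 + i by omega, pow_add, show (2 : ℕ) ^ 2 = 4 from rfl]; omega

/-- All modules. -/
theorem sol [hp : Fact p.Prime] [hq : Fact q.Prime] : ∀ n, Sol.{u} q p n := by
  intro n
  induction n with
  | zero => intro W H _ _ _ _ _ hlt; exact absurd hlt (Nat.not_lt_zero _)
  | succ n ih =>
  intro W H _ _ _ _ _ hlt hW hH hh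
  have hsol : Sol.{u} q p (Nat.card W) := fun W' H' _ _ _ _ _ h' => ih W' H' (by omega)
  suffices key : ∀ (m : ℕ) (K : Type u) [Group K] [DistribMulAction K W] [Finite K]
      [FaithfulSMul K W], Nat.card K ≤ m → ¬ q ∣ Nat.card K → POrb p K W → Group.IsSolvable K by
    have hfin : Finite (image H W) :=
      Finite.of_surjective _ (DistribMulAction.toAddMonoidEnd H W).toHomUnits.rangeRestrict_surjective
    exact key _ (image H W) le_rfl (fun hd => hH (hd.trans card_image_dvd)) hh.image
  intro m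
  induction m with
  | zero => intro K _ _ _ _ hK; exact absurd hK (not_le.mpr Nat.card_pos)
  | succ m ihm =>
  intro K _ _ _ _ hKm hK h
  by_cases hred : ∃ X : AddSubgroup W, X ≠ ⊥ ∧ X ≠ ⊤ ∧ ∀ k : K, ∀ w ∈ X, k • w ∈ X
  · obtain ⟨X, h0, h1, hX⟩ := hred
    exact solvable_of_reducible hsol hW hK h X h0 h1 hX
  have hirr : ∀ X : AddSubgroup W, (∀ k : K, ∀ w ∈ X, k • w ∈ X) → X = ⊥ ∨ X = ⊤ := by
    intro X hX
    by_contra hne
    push Not at hne
    exact hred ⟨X, hne.1, hne.2, hX⟩
  obtain ⟨P⟩ : Nonempty (Sylow p K) := inferInstance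
  by_cases hac : Classification.CyclicNormal.AllCyclic (P : Subgroup K)
  swap
  · exact solvable_of_not_allCyclic hsol hW hK h P hirr hac
  have hsub : ∀ N : Subgroup K, N.Normal → N ≠ ⊤ → Group.IsSolvable N := by
    intro N hN hN1
    have hlt : Nat.card N < Nat.card K :=
      lt_of_le_of_ne (card_le_card_group N) fun e => hN1 ((card_eq_iff_eq_top N).mp e)
    exact ihm N (by omega) (fun hd => hK (hd.trans (card_subgroup_dvd_card N))) (h.normal N)
  by_cases hcyc : IsCyclic (P : Subgroup K)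
  · rcases hp.out.eq_two_or_odd' with rfl | hodd
    · exact solvable_of_cyclic_two h P hcyc
    · exact solvable_of_cyclic_odd hW hK h P hirr hodd hcyc hsub
  obtain ⟨rfl, hdata⟩ := (Classification.CyclicNormal.classify P.2 hac).resolve_left hcyc
  obtain ⟨a, b, k, s, hk, ha, hs, hb, hb2, hgen⟩ := exists_semilinear_data P.2 hcyc hdata
  have hmap : ∀ x : (P : Subgroup K), x ∈ zpowers a → (x : K) ∈ zpowers (a : K) := by
    intro x hx
    obtain ⟨j, rfl⟩ := Subgroup.mem_zpowers_iff.mp hx
    exact ⟨j, by simp⟩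
  have hqW : ∀ w : W, q • w = 0 := by
    intro w
    let X : AddSubgroup W := (nsmulAddMonoidHom (α := W) q).ker
    have hX : ∀ k : K, ∀ w ∈ X, k • w ∈ X := fun k w hw => by
      change q • k • w = 0
      rw [← smul_comm k q w, show q • w = 0 from hw, smul_zero]
    rcases hirr X hX with hb | ht
    · obtain ⟨d, hd⟩ := hW
      have hinj : Function.Injective (nsmulAddMonoidHom (α := W) q) :=
        (AddMonoidHom.ker_eq_bot_iff _).mp hb
      suffices key : ∀ j, q ^ j • w = 0 → w = 0 by
        rw [key d (hd ▸ card_nsmul_eq_zero'), smul_zero]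
      intro j
      induction j with
      | zero => intro hj; simpa using hj
      | succ j ihj =>
        intro hj
        apply ihj
        apply hinj
        rw [map_zero]
        change q • q ^ j • w = 0
        rw [smul_smul, ← pow_succ', hj]
    · exact (ht ▸ AddSubgroup.mem_top w : w ∈ X)
  refine solvable_of_semilinear hsol hW hK h P hirr hqW (a := (a : K)) (b := (b : K))
    (fun x hx => ?_) hk ((Subgroup.orderOf_coe a).trans ha) hs (congrArg Subtype.val hb) (hmap _ hb2)
  exact (hgen ⟨x, hx⟩).imp (hmap _) (hmap _)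

/-- A group acting coprimely with orbits of `p`-power size acts as a solvable group. -/
theorem isSolvable_image {V K : Type u} [AddCommGroup V] [Group K] [DistribMulAction K V]
    [Finite V] [Finite K] [Fact p.Prime] [Fact q.Prime] (hV : ∃ d, Nat.card V = q ^ d)
    (hK : ¬ q ∣ Nat.card K) (h : POrb p K V) : Group.IsSolvable (image K V) :=
  sol (Nat.card V + 1) V K (Nat.lt_succ_self _) hV hK h

end CfsgLib.FGS.OrbitPower
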