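import Cfsg.Agent.FrobComp.Perfect
import Cfsg.Agent.Solvable.Fitting
import Cfsg.Agent.FGS.OrbitPowerSolvable
import Cfsg.Agent.S4207
import Cfsg.Agent.Inv54.CentralizerFour

/-!
Groups acting freely on a finite module without a subgroup `SL(2,5)`: solvability, also of the
automorphism group.
-/

set_option linter.style.haveILetI false

namespace CfsgLib.FGS.ComplementAut

open Subgroup
open scoped commutatorElement

universe u

/-- Transvections `(1 x; 0 1)`. -/
def upperT (x : ZMod 5) : Matrix.SpecialLinearGroup (Fin 2) (ZMod 5) :=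
  ⟨!![1, x; 0, 1], by simp [Matrix.det_fin_two]⟩

/-- Transvections `(1 0; x 1)`. -/
def lowerT (x : ZMod 5) : Matrix.SpecialLinearGroup (Fin 2) (ZMod 5) :=
  ⟨!![1, 0; x, 1], by simp [Matrix.det_fin_two]⟩

/-- A diagonal element of order four. -/
def diagT : Matrix.SpecialLinearGroup (Fin 2) (ZMod 5) :=
  ⟨!![2, 0; 0, 3], by decide +kernel⟩

theorem diagT_eq : diagT =
    upperT 2 * lowerT (-3) * upperT 2 * (upperT (-1) * lowerT 1 * upperT (-1)) := by
  decide +kernel

theorem upperT_eq : ∀ x : ZMod 5, upperT x = ⁅diagT, upperT (2 * x)⁆ := by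
  decide +kernel

theorem lowerT_eq : ∀ x : ZMod 5, lowerT x = ⁅diagT⁻¹, lowerT (2 * x)⁆ := by
  decide +kernel

theorem not_isSolvable_sl25 : ¬ Group.IsSolvable (Matrix.SpecialLinearGroup (Fin 2) (ZMod 5)) := by
  rintro ⟨n, hn⟩
  have key : ∀ m x, upperT x ∈ derivedSeries (Matrix.SpecialLinearGroup (Fin 2) (ZMod 5)) m ∧
      lowerT x ∈ derivedSeries (Matrix.SpecialLinearGroup (Fin 2) (ZMod 5)) m := by
    intro m
    induction m with
    | zero => intro x; exact ⟨Subgroup.mem_top _, Subgroup.mem_top _⟩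
    | succ m ih =>
      have hd : diagT ∈ derivedSeries (Matrix.SpecialLinearGroup (Fin 2) (ZMod 5)) m := by
        rw [diagT_eq]
        exact mul_mem (mul_mem (mul_mem (ih 2).1 (ih (-3)).2) (ih 2).1)
          (mul_mem (mul_mem (ih (-1)).1 (ih 1).2) (ih (-1)).1)
      intro x
      rw [derivedSeries_succ]
      exact ⟨upperT_eq x ▸ Subgroup.commutator_mem_commutator hd (ih (2 * x)).1,
        lowerT_eq x ▸ Subgroup.commutator_mem_commutator (inv_mem hd) (ih (2 * x)).2⟩
  have h1 := (key n 1).1
  rw [hn, Subgroup.mem_bot] at h1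
  exact absurd h1 (by decide +kernel)

/-- A group acting freely without a subgroup `SL(2,5)` is solvable. -/
theorem isSolvable_of_free {H : Type u} [Group H] [Finite H] {V : Type*} [AddCommGroup V]
    [Finite V] [Nontrivial V] {ρ : H →* AddMonoid.End V} (hρ : CfsgLib.FrobComp.IsFree ρ) {p : ℕ}
    [Fact p.Prime] (hV : ∀ v : V, p • v = 0)
    (hno : ∀ K : Subgroup H, ¬ Nonempty (K ≃* Matrix.SpecialLinearGroup (Fin 2) (ZMod 5))) :
    Group.IsSolvable H := by
  obtain ⟨m, hm⟩ : ∃ m, derivedSeries H (m + 1) = derivedSeries H m := by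
    by_contra hne
    push Not at hne
    have key : ∀ m, Nat.card (derivedSeries H m) + m ≤ Nat.card H := by
      intro m
      induction m with
      | zero => simp
      | succ m ih =>
        have hlt : Nat.card (derivedSeries H (m + 1)) < Nat.card (derivedSeries H m) :=
          lt_of_not_ge fun hge => hne m
            (Subgroup.eq_of_le_of_card_ge (derivedSeries_antitone H m.le_succ) hge)
        omega
    have h1 := key (Nat.card H)
    have h2 : 0 < Nat.card (derivedSeries H (Nat.card H)) := Nat.card_pos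
    omega
  by_cases hD : derivedSeries H m = ⊥
  · exact ⟨⟨m, hD⟩⟩
  exfalso
  have : Nontrivial (derivedSeries H m) := (Subgroup.nontrivial_iff_ne_bot _).mpr hD
  have hperf : commutator (derivedSeries H m) = ⊤ := by
    apply Subgroup.map_injective (derivedSeries H m).subtype_injective
    rw [Subgroup.map_subtype_commutator, ← MonoidHom.range_eq_map, Subgroup.range_subtype,
      ← derivedSeries_succ, hm]
  have hρ' : CfsgLib.FrobComp.IsFree (ρ.comp (derivedSeries H m).subtype) :=
    fun h hh => hρ (h : H) fun e => hh (Subtype.ext e)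
  exact hno _ (CfsgLib.FrobComp.equiv_sl25_of_perfect_free hρ' hV hperf)

/-- A joint kernel of homomorphisms with solvable ranges. -/
theorem isSolvable_of_family {A : Type*} [Group A] {I : Type*} [Finite I] {B : I → Type*}
    [∀ i, Group (B i)] (f : ∀ i, A →* B i) (hf : ∀ i, Group.IsSolvable (B i)) (K : Subgroup A)
    (hK : Group.IsSolvable K) (h : ∀ a, (∀ i, f i a = 1) → a ∈ K) : Group.IsSolvable A := by
  cases nonempty_fintype I
  choose n hn using fun i => (hf i).solvable
  obtain ⟨k, hk⟩ := hK.solvable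
  have hle : derivedSeries A (Finset.univ.sup n) ≤ K := fun a ha => h a fun i => by
    have h1 : f i a ∈ derivedSeries (B i) (n i) := map_derivedSeries_le_derivedSeries (f i) (n i)
      ⟨a, derivedSeries_antitone A (Finset.le_sup (Finset.mem_univ i)) ha, rfl⟩
    rwa [hn i, Subgroup.mem_bot] at h1
  refine ⟨⟨Finset.univ.sup n + k, ?_⟩⟩
  have hstep : ∀ j, derivedSeries A (Finset.univ.sup n + j) ≤ (derivedSeries K j).map K.subtype := by
    intro j
    induction j with
    | zero => rw [add_zero, derivedSeries_zero, ← MonoidHom.range_eq_map, K.range_subtype]; exact hle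
    | succ j ih =>
      rw [← add_assoc, derivedSeries_succ, derivedSeries_succ, Subgroup.map_commutator]
      exact Subgroup.commutator_mono ih ih
  have h1 := hstep k
  rw [hk, Subgroup.map_bot] at h1
  exact le_bot_iff.mp h1

/-- The automorphism group of a cyclic or quaternion group of prime power order is solvable. -/
theorem isSolvable_mulAut_of_unique {P : Type u} [Group P] [Finite P] {p : ℕ} [hp : Fact p.Prime]
    (hP : IsPGroup p P) (hu : CfsgLib.TwoGroupsQ.HasUniqueOrderP P p) :
    Group.IsSolvable (MulAut P) := by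
  rcases CfsgLib.TwoGroupsQ.isCyclic_or_quaternion hP hu with hc | ⟨rfl, m, -, he⟩
  · refine Group.isSolvable_of_comm fun φ ψ => ?_
    obtain ⟨i, hi⟩ := MonoidHom.map_cyclic φ.toMonoidHom
    obtain ⟨j, hj⟩ := MonoidHom.map_cyclic ψ.toMonoidHom
    have hi' : ∀ x : P, φ x = x ^ i := hi
    have hj' : ∀ x : P, ψ x = x ^ j := hj
    ext x
    rw [MulAut.mul_apply, MulAut.mul_apply, hi', hj', hj', hi', ← zpow_mul, ← zpow_mul, mul_comm]
  by_cases hc : IsCyclic P
  · refine Group.isSolvable_of_comm fun φ ψ => ?_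
    obtain ⟨i, hi⟩ := MonoidHom.map_cyclic φ.toMonoidHom
    obtain ⟨j, hj⟩ := MonoidHom.map_cyclic ψ.toMonoidHom
    have hi' : ∀ x : P, φ x = x ^ i := hi
    have hj' : ∀ x : P, ψ x = x ^ j := hj
    ext x
    rw [MulAut.mul_apply, MulAut.mul_apply, hi', hj', hj', hi', ← zpow_mul, ← zpow_mul, mul_comm]
  obtain ⟨a, b, -, -, -, -, -, -, -, hgen⟩ :=
    OrbitPower.exists_semilinear_data hP hc (Or.inl ⟨2 ^ m, he⟩)
  set π := QuotientGroup.mk' (frattini P) with hπ
  have hsq : ∀ x : P, π x ^ 2 = 1 := fun x => by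
    rw [← map_pow]
    exact (QuotientGroup.eq_one_iff _).mpr (CfsgLib.Solvable.pow_mem_frattini hP x)
  have hpar : ∀ x : P, ∀ y ∈ zpowers x, π y = 1 ∨ π y = π x := by
    intro x y hy
    obtain ⟨j, rfl⟩ := mem_powers_iff_mem_zpowers.mpr hy
    rcases Nat.even_or_odd' j with ⟨i, rfl | rfl⟩
    · left
      rw [map_pow, pow_mul, hsq, one_pow]
    · right
      rw [map_pow, pow_succ, pow_mul, hsq, one_pow, one_mul]
  have h4 : Nat.card (P ⧸ frattini P) ≤ 4 := by
    refine (Nat.card_le_card_of_surjective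
      (fun e : Fin 2 × Fin 2 => π b ^ (e.1 : ℕ) * π a ^ (e.2 : ℕ)) ?_).trans (by simp)
    intro x
    obtain ⟨y, rfl⟩ := QuotientGroup.mk'_surjective (frattini P) x
    rcases hgen y with h | h
    · rcases hpar a y h with e | e
      · exact ⟨(0, 0), show π b ^ 0 * π a ^ 0 = π y by rw [pow_zero, pow_zero, one_mul, e]⟩
      · exact ⟨(0, 1), show π b ^ 0 * π a ^ 1 = π y by rw [pow_zero, pow_one, one_mul, e]⟩
    · rcases hpar a _ h with e | e
      · refine ⟨(1, 0), ?_⟩
        rw [map_mul, map_inv, inv_mul_eq_one] at e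
        show π b ^ 1 * π a ^ 0 = π y
        rw [pow_one, pow_zero, mul_one, e]
      · refine ⟨(1, 1), ?_⟩
        rw [map_mul, map_inv, inv_mul_eq_iff_eq_mul] at e
        show π b ^ 1 * π a ^ 1 = π y
        rw [pow_one, pow_one, e]
  let f : MulAut P →* Equiv.Perm (P ⧸ frattini P) :=
    { toFun := fun α => (QuotientGroup.congr (frattini P) (frattini P) α
        (Subgroup.characteristic_iff_map_eq.mp inferInstance α)).toEquiv
      map_one' := Equiv.ext fun x => by
        induction x using QuotientGroup.induction_on with | H x => rfl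
      map_mul' := fun α β => Equiv.ext fun x => by
        induction x using QuotientGroup.induction_on with | H x => rfl }
  have hperm := CfsgLib.Inv54.isSolvable_perm_of_card_le_four h4
  obtain ⟨n, hn⟩ := IsPGroup.iff_card.mp hP
  obtain ⟨r, hr⟩ := hP.index (frattini P)
  have hker : Group.IsSolvable f.ker := by
    have hdvd := Cfsg.Agent.S4207.result hn hr f.ker (fun α hα x => by
      have h1 := Equiv.congr_fun (MonoidHom.mem_ker.mp hα) (x : P ⧸ frattini P)
      have h2 : ((α x : P) : P ⧸ frattini P) = (x : P ⧸ frattini P) := h1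
      rw [← QuotientGroup.eq_one_iff, QuotientGroup.mk_mul, QuotientGroup.mk_inv, h2, mul_inv_cancel])
    obtain ⟨k, -, hk⟩ := (Nat.dvd_prime_pow hp.out).mp hdvd
    have := (IsPGroup.of_card hk : IsPGroup 2 f.ker).isNilpotent
    infer_instance
  exact Group.isSolvable_of_ker_le_range f.ker.subtype f (by rw [Subgroup.range_subtype])

/-- The automorphism group of a solvable group with a free action is solvable. -/
theorem isSolvable_mulAut {H : Type u} [Group H] [Finite H] [Group.IsSolvable H] {V : Type*}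
    [AddCommGroup V] [Finite V] [Nontrivial V] {ρ : H →* AddMonoid.End V}
    (hρ : CfsgLib.FrobComp.IsFree ρ) : Group.IsSolvable (MulAut H) := by
  classical
  set F := Cfsg.fittingSubgroup H with hF
  have : F.Normal := CfsgLib.Solvable.fittingSubgroup_normal
  let O : (Nat.card H).primeFactors → Subgroup H := fun r => Cfsg.pCore (r : ℕ) H
  have hfix : ∀ (r : (Nat.card H).primeFactors) (α : MulAut H), (O r).map α.toMonoidHom = O r :=
    fun r α => Subgroup.characteristic_iff_map_eq.mp (CfsgLib.Solvable.pCore_characteristic _) α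
  let f : ∀ r, MulAut H →* MulAut (O r) := fun r =>
    { toFun := fun α => ((O r).equivMapOfInjective α.toMonoidHom α.injective).trans
        (MulEquiv.subgroupCongr (hfix r α))
      map_one' := MulEquiv.ext fun x => Subtype.ext rfl
      map_mul' := fun α β => MulEquiv.ext fun x => Subtype.ext rfl }
  let K : Subgroup (MulAut H) :=
    { carrier := {α | ∀ x ∈ F, α x = x}
      one_mem' := fun x _ => rfl
      mul_mem' := fun {α β} hα hβ x hx => by rw [MulAut.mul_apply, hβ x hx, hα x hx]
      inv_mem' := fun {α} hα x hx => by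
        conv_lhs => rw [← hα x hx]
        exact MulAut.inv_apply_self _ _ _ }
  refine isSolvable_of_family f (fun r => ?_) K ?_ ?_
  · have : Fact (r : ℕ).Prime := ⟨Nat.prime_of_mem_primeFactors r.2⟩
    exact isSolvable_mulAut_of_unique (CfsgLib.Solvable.isPGroup_pCore (G := H) r)
      (CfsgLib.ZassComp.hasUniqueOrderP_of_free hρ (CfsgLib.Solvable.isPGroup_pCore (G := H) r))
  · refine Group.isSolvable_of_comm fun α β => Subtype.ext (MulEquiv.ext fun h => ?_)
    have hc : ∀ γ : K, ∀ h : H, h⁻¹ * (γ : MulAut H) h ∈ F ∧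
        ∀ x ∈ F, Commute x (h⁻¹ * (γ : MulAut H) h) := by
      intro γ h
      have hcomm : ∀ x ∈ F, Commute x (h⁻¹ * (γ : MulAut H) h) := by
        intro x hx
        have hx' : h * x * h⁻¹ ∈ F := (inferInstance : F.Normal).conj_mem x hx h
        have h1 := γ.2 _ hx'
        rw [map_mul, map_mul, map_inv, γ.2 x hx, mul_inv_eq_iff_eq_mul] at h1
        calc x * (h⁻¹ * (γ : MulAut H) h) = h⁻¹ * (h * x * h⁻¹ * (γ : MulAut H) h) := by group
          _ = h⁻¹ * ((γ : MulAut H) h * x) := by rw [← h1]
          _ = h⁻¹ * (γ : MulAut H) h * x := by group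
      exact ⟨CfsgLib.Solvable.centralizer_fittingSubgroup_le (Subgroup.mem_centralizer_iff.mpr
        fun x hx => hcomm x hx), hcomm⟩
    obtain ⟨hαF, hαc⟩ := hc α h
    obtain ⟨hβF, hβc⟩ := hc β h
    have key : ∀ γ δ : K, (γ : MulAut H) ((δ : MulAut H) h) =
        h * (h⁻¹ * (γ : MulAut H) h) * (h⁻¹ * (δ : MulAut H) h) := by
      intro γ δ
      conv_lhs => rw [show (δ : MulAut H) h = h * (h⁻¹ * (δ : MulAut H) h) by group]
      rw [map_mul, γ.2 _ (hc δ h).1]
      group
    change (α : MulAut H) ((β : MulAut H) h) = (β : MulAut H) ((α : MulAut H) h)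
    rw [key α β, key β α, mul_assoc h _ _, mul_assoc h (h⁻¹ * (β : MulAut H) h) _, (hβc _ hαF).eq]
  · intro α hα
    have hle : F ≤ MonoidHom.eqLocus α.toMonoidHom (MonoidHom.id H) := by
      rw [hF, CfsgLib.Solvable.fittingSubgroup_eq_iSup, iSup_le_iff]
      rintro ⟨r, hr⟩
      have : Fact r.Prime := ⟨hr⟩
      by_cases hd : r ∣ Nat.card H
      · intro x hx
        have h1 := hα ⟨r, Nat.mem_primeFactors.mpr ⟨hr, hd, Nat.card_pos.ne'⟩⟩
        exact congrArg Subtype.val (MulEquiv.congr_fun h1 ⟨x, hx⟩)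
      · rw [CfsgLib.Solvable.pCore_eq_bot_of_not_dvd hd]
        exact bot_le
    exact fun x hx => hle hx

end CfsgLib.FGS.ComplementAut
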