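import Mathlib.LinearAlgebra.Basis.VectorSpace
import Mathlib.LinearAlgebra.Dimension.Finite
import Mathlib.FieldTheory.Finite.Basic
import Mathlib.RingTheory.AdjoinRoot
import Mathlib.RingTheory.Artinian.Module
import Mathlib.RingTheory.Polynomial.Cyclotomic.Roots
import Mathlib.RingTheory.Polynomial.Cyclotomic.Expand

/-!
Commuting-transitive linear algebra over finite fields: transitivity on nonzero vectors,
intertwining two operators with the same irreducible minimal polynomial, and finite commutative
rings of operators with a transitive group of semilinear symmetries.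
-/

namespace CfsgLib.FGS.FieldModule

/-- Finite vector spaces of equal size: a linear equivalence with a prescribed nonzero value. -/
theorem exists_linearEquiv_map {K M N : Type*} [Field K] [Finite K] [AddCommGroup M] [Module K M]
    [Finite M] [AddCommGroup N] [Module K N] [Finite N] (hcard : Nat.card M = Nat.card N)
    {u : M} (hu : u ≠ 0) {v : N} (hv : v ≠ 0) : ∃ e : M ≃ₗ[K] N, e u = v := by
  classical
  have hdim : Module.finrank K M = Module.finrank K N := by
    have h := hcard
    rw [Module.natCard_eq_pow_finrank (K := K), Module.natCard_eq_pow_finrank (K := K) (V := N)] at h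
    exact Nat.pow_right_injective Finite.one_lt_card h
  have hiu : LinearIndepOn K id ({u} : Set M) := LinearIndepOn.singleton hu
  have hiv : LinearIndepOn K id ({v} : Set N) := LinearIndepOn.singleton hv
  set B := Module.Basis.extend hiu
  set C := Module.Basis.extend hiv
  haveI := Fintype.ofFinite (hiu.extend (Set.subset_univ _))
  haveI := Fintype.ofFinite (hiv.extend (Set.subset_univ _))
  obtain ⟨σ⟩ : Nonempty (hiu.extend (Set.subset_univ _) ≃ hiv.extend (Set.subset_univ _)) := by
    rw [← Fintype.card_eq, ← Module.finrank_eq_card_basis B, ← Module.finrank_eq_card_basis C]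
    exact hdim
  let iu : hiu.extend (Set.subset_univ _) := ⟨u, LinearIndepOn.subset_extend _ _ rfl⟩
  let iv : hiv.extend (Set.subset_univ _) := ⟨v, LinearIndepOn.subset_extend _ _ rfl⟩
  refine ⟨B.equiv C (σ.trans (Equiv.swap (σ iu) iv)), ?_⟩
  have hB : B iu = u := Module.Basis.extend_apply_self hiu iu
  have hC : C iv = v := Module.Basis.extend_apply_self hiv iv
  exact (congrArg _ hB.symm).trans (by rw [Module.Basis.equiv_apply]; simp [hC])

/-- The same over a commutative ring that is a field. -/
theorem exists_linearEquiv_map' {K M N : Type*} [CommRing K] (hK : IsField K) [Finite K] [AddCommGroup M]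
    [hM : Module K M] [Finite M] [AddCommGroup N] [hN : Module K N] [Finite N] (hcard : Nat.card M = Nat.card N)
    {u : M} (hu : u ≠ 0) {v : N} (hv : v ≠ 0) : ∃ e : M ≃ₗ[K] N, e u = v :=
  @exists_linearEquiv_map K M N hK.toField _ _ hM _ _ hN _ hcard u hu v hv

/-- Two actions of a finite field on a finite group are intertwined, with a prescribed value. -/
theorem exists_intertwine_hom {k K V : Type*} [CommRing k] [CommRing K] [Finite K] (hK : IsField K)
    [AddCommGroup V] [Module k V] [Finite V] (ρ σ : K →+* Module.End k V)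
    {u v : V} (hu : u ≠ 0) (hv : v ≠ 0) :
    ∃ e : V ≃+ V, (∀ c w, e (ρ c w) = σ c (e w)) ∧ e u = v := by
  obtain ⟨e, he⟩ := @exists_linearEquiv_map' K V V _ hK _ _ (Module.compHom V ρ) _ _
    (Module.compHom V σ) _ rfl u hu v hv
  obtain ⟨⟨⟨f, hadd⟩, hsmul⟩, g, hl, hr⟩ := e
  exact ⟨{ toFun := f, invFun := g, left_inv := hl, right_inv := hr, map_add' := hadd },
    fun c w => hsmul c w, he⟩

/-- Two operators killed by the same irreducible polynomial are intertwined, with a prescribed value. -/
theorem exists_intertwine {k V : Type*} [Field k] [Finite k] [AddCommGroup V] [Module k V] [Finite V]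
    {Φ : Polynomial k} (hΦ : Irreducible Φ) {S T : Module.End k V}
    (hS : Polynomial.aeval S Φ = 0) (hT : Polynomial.aeval T Φ = 0)
    {u v : V} (hu : u ≠ 0) (hv : v ≠ 0) :
    ∃ e : V ≃+ V, (∀ w, e (S w) = T (e w)) ∧ e u = v := by
  haveI := Fact.mk hΦ
  let mk' : ∀ R : Module.End k V, Polynomial.aeval R Φ = 0 → (AdjoinRoot Φ →+* Module.End k V) :=
    fun R hR => Ideal.Quotient.lift (Ideal.span {Φ}) (Polynomial.aeval R).toRingHom fun a ha => by
      obtain ⟨b, rfl⟩ := Ideal.mem_span_singleton.1 ha
      rw [AlgHom.toRingHom_eq_coe, RingHom.coe_coe, map_mul, hR, zero_mul]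
  have hroot : ∀ R hR, mk' R hR (AdjoinRoot.root Φ) = R := by
    intro R hR
    show (Polynomial.aeval R) Polynomial.X = R
    exact Polynomial.aeval_X R
  haveI : Finite (AdjoinRoot Φ) := by
    haveI : Module.Finite k (AdjoinRoot Φ) := (AdjoinRoot.powerBasis hΦ.ne_zero).finite
    exact Module.finite_of_finite k
  obtain ⟨e, he, heu⟩ := exists_intertwine_hom (Field.toIsField (AdjoinRoot Φ)) (mk' S hS) (mk' T hT) hu hv
  refine ⟨e, fun w => ?_, heu⟩
  have h := he (AdjoinRoot.root Φ) w
  rwa [hroot S hS, hroot T hT] at h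

/-- A commutative operator ring whose nonzero vectors are permuted transitively by semilinear
symmetries is a field. -/
theorem isField_of_transitive {k V : Type*} [CommRing k] [AddCommGroup V] [Module k V] [Finite V]
    [Nontrivial V] (A : Subalgebra k (Module.End k V)) (hcomm : ∀ a ∈ A, ∀ b ∈ A, a * b = b * a)
    (htrans : ∀ v w : V, v ≠ 0 → w ≠ 0 →
      ∃ φ : V ≃+ V, φ v = w ∧ ∀ a ∈ A, ∃ b ∈ A, ∀ x, φ (a x) = b (φ x)) :
    IsField A := by
  classical
  letI : CommRing A := { (inferInstance : Ring A) with mul_comm := fun a b => Subtype.ext (hcomm _ a.2 _ b.2) }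
  haveI : Finite (Module.End k V) :=
    Finite.of_injective (fun f : Module.End k V => (f : V → V)) DFunLike.coe_injective
  haveI : Finite A := inferInstance
  let I : V → Ideal A := fun v =>
    { carrier := {a | (a : Module.End k V) v = 0}
      add_mem' := fun {a b} (ha : (a : Module.End k V) v = 0) (hb : (b : Module.End k V) v = 0) => by
        show ((a : Module.End k V) + b) v = 0
        rw [LinearMap.add_apply, ha, hb, add_zero]
      zero_mem' := by show (0 : Module.End k V) v = 0; rfl
      smul_mem' := fun c a (ha : (a : Module.End k V) v = 0) => by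
        show ((c : Module.End k V) * a) v = 0
        rw [Module.End.mul_apply, ha, map_zero] }
  have hmem : ∀ v (a : A), a ∈ I v ↔ (a : Module.End k V) v = 0 := fun v a => Iff.rfl
  have htop : ∀ v, v ≠ 0 → I v ≠ ⊤ := fun v hv h => hv ((hmem v 1).1 (h ▸ Submodule.mem_top))
  obtain ⟨v₀, hv₀, hmax⟩ := Set.Finite.exists_maximalFor I {v : V | v ≠ 0} (Set.toFinite _)
    (exists_ne 0)
  have hprime₀ : (I v₀).IsPrime := by
    refine ⟨htop v₀ hv₀, fun {a b} hab => ?_⟩
    by_cases hb : (b : Module.End k V) v₀ = 0
    · exact Or.inr hb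
    left
    have hle : I v₀ ≤ I ((b : Module.End k V) v₀) := fun c hc => by
      rw [hmem] at hc ⊢
      rw [← Module.End.mul_apply, hcomm _ c.2 _ b.2, Module.End.mul_apply, hc, map_zero]
    refine hmax (j := (b : Module.End k V) v₀) hb hle ?_
    rw [hmem, ← Module.End.mul_apply]
    exact hab
  have hmaxI : ∀ w, w ≠ 0 → (I w).IsMaximal := by
    intro w hw
    obtain ⟨φ, hφ, hA⟩ := htrans v₀ w hv₀ hw
    choose σ hσA hσ using hA
    let s : A → A := fun a => ⟨σ a a.2, hσA a a.2⟩
    have hs : ∀ (a : A) (x : V), φ ((a : Module.End k V) x) = ((s a : A) : Module.End k V) (φ x) :=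
      fun a x => hσ a a.2 x
    have hext : ∀ c d : A, (∀ x, (c : Module.End k V) (φ x) = (d : Module.End k V) (φ x)) → c = d :=
      fun c d h => Subtype.ext (LinearMap.ext fun x => by simpa using h (φ.symm x))
    let ψ : A →+* A :=
      { toFun := s
        map_one' := hext _ _ fun x => by rw [← hs]; rfl
        map_mul' := fun a b => hext _ _ fun x => by
          rw [← hs]; show φ ((a : Module.End k V) ((b : Module.End k V) x)) = _
          rw [hs, hs]; rfl
        map_zero' := hext _ _ fun x => by rw [← hs]; exact map_zero φ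
        map_add' := fun a b => hext _ _ fun x => by
          rw [← hs]; show φ ((a : Module.End k V) x + (b : Module.End k V) x) = _
          rw [map_add, hs, hs]; rfl }
    have hinj : Function.Injective ψ := fun a b h => Subtype.ext (LinearMap.ext fun x => φ.injective (by
      rw [hs, hs]; exact congrArg (fun c : A => (c : Module.End k V) (φ x)) h))
    let ψ' := RingEquiv.ofBijective ψ ⟨hinj, Finite.surjective_of_injective hinj⟩
    have heq : I w = (I v₀).comap (ψ'.symm : A →+* A) := by
      ext a
      rw [Ideal.mem_comap, hmem, hmem]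
      conv_rhs => rw [← φ.map_eq_zero_iff, hs, hφ]
      have hsa : s (((ψ'.symm : A ≃+* A) : A →+* A) a) = a := ψ'.apply_symm_apply a
      rw [hsa]
    haveI : (I w).IsPrime := heq ▸ Ideal.IsPrime.comap _
    exact IsArtinianRing.isMaximal_of_isPrime _
  have heq : ∀ v w, v ≠ 0 → w ≠ 0 → I v = I w := by
    intro v w hv hw
    have key : ∀ v w, v ≠ 0 → w ≠ 0 → v + w ≠ 0 → I v ≤ I (v + w) → I v = I w := by
      intro v w hv hw hvw hle
      refine (hmaxI v hv).eq_of_le (htop w hw) fun a ha => ?_
      have h2 := hle ha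
      rw [hmem, map_add, (hmem v a).1 ha, zero_add] at h2
      exact h2
    by_cases hvw : v + w = 0
    · ext a
      rw [hmem, hmem, eq_neg_of_add_eq_zero_right hvw, map_neg, neg_eq_zero]
    · haveI := (hmaxI _ hvw).isPrime
      have hle : I v * I w ≤ I (v + w) := by
        refine Ideal.mul_le_inf.trans fun a ha => ?_
        rw [hmem, map_add, (hmem v a).1 ha.1, (hmem w a).1 ha.2, add_zero]
      rcases (Ideal.IsPrime.mul_le inferInstance).1 hle with h | h
      · exact key v w hv hw hvw h
      · exact (key w v hw hv (by rwa [add_comm]) (by rwa [add_comm])).symm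
  have hbot : I v₀ = ⊥ := by
    rw [eq_bot_iff]
    intro a ha
    refine Ideal.mem_bot.2 (Subtype.ext (LinearMap.ext fun x => ?_))
    rcases eq_or_ne x 0 with rfl | hx
    · rw [map_zero]; rfl
    · exact (heq v₀ x hv₀ hx ▸ ha : a ∈ I x)
  have hbm : (⊥ : Ideal A).IsMaximal := hbot ▸ hmaxI v₀ hv₀
  have hF : IsField A := by
    refine ⟨⟨0, 1, fun h => ?_⟩, mul_comm, fun {a} ha => ?_⟩
    · exact htop v₀ hv₀ ((Ideal.eq_top_iff_one _).2 (h ▸ Submodule.zero_mem (I v₀)))
    · have : Ideal.span ({a} : Set A) = ⊤ := by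
        by_contra hne
        exact ha (Ideal.span_singleton_eq_bot.1 (hbm.eq_of_le hne bot_le).symm)
      obtain ⟨b, hb⟩ := Ideal.mem_span_singleton'.1 ((Ideal.eq_top_iff_one _).1 this)
      exact ⟨b, by rw [mul_comm]; exact hb⟩
  exact hF

/-- Ring endomorphisms of a finite field of characteristic `p` are powers of Frobenius. -/
theorem exists_eq_pow_pow {p : ℕ} [Fact p.Prime] {K : Type*} [Field K] [Finite K] [CharP K p]
    (σ : K →+* K) : ∃ i : ℕ, ∀ x, σ x = x ^ p ^ i := by
  letI := ZMod.algebra K p
  let τ : K →ₐ[ZMod p] K :=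
    { σ with
      commutes' := fun r => by
        obtain ⟨n, rfl⟩ := ZMod.intCast_surjective r
        show σ (algebraMap (ZMod p) K n) = _
        rw [map_intCast, map_intCast] }
  haveI : Module.Finite (ZMod p) K := Module.Finite.of_finite
  obtain ⟨n, hn⟩ := (FiniteField.bijective_frobeniusAlgHom_pow (ZMod p) K).2 τ
  refine ⟨n, fun x => ?_⟩
  have h := DFunLike.congr_fun hn x
  simp only [AlgHom.coe_pow, FiniteField.coe_frobeniusAlgHom, pow_iterate, Fintype.card_eq_nat_card,
    Nat.card_zmod] at h
  exact h.symm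

/-- The `q`-th cyclotomic polynomial stays irreducible modulo a primitive root `p` mod `q`. -/
theorem irreducible_cyclotomic_zmod {p q : ℕ} [Fact p.Prime] (hq : q.Prime) (hpq : p ≠ q)
    (hord : orderOf (p : ZMod q) = q - 1) : Irreducible (Polynomial.cyclotomic q (ZMod p)) := by
  haveI := Fact.mk hq
  set Φ := Polynomial.cyclotomic q (ZMod p)
  have hdeg : Φ.natDegree = q - 1 := by
    rw [Polynomial.natDegree_cyclotomic, Nat.totient_prime hq]
  have hq1 : 1 < q := hq.one_lt
  obtain ⟨f, hf, hfd⟩ := WfDvdMonoid.exists_irreducible_factor (a := Φ)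
    (fun h => by
      have := Polynomial.natDegree_eq_zero_of_isUnit h
      omega)
    (Polynomial.cyclotomic_ne_zero q _)
  haveI := Fact.mk hf
  haveI : Module.Finite (ZMod p) (AdjoinRoot f) := (AdjoinRoot.powerBasis hf.ne_zero).finite
  haveI : Finite (AdjoinRoot f) := Module.finite_of_finite (ZMod p)
  haveI := Fintype.ofFinite (AdjoinRoot f)
  haveI : NeZero (q : AdjoinRoot f) := by
    refine ⟨fun h => ?_⟩
    rw [← map_natCast (algebraMap (ZMod p) (AdjoinRoot f)) q,
      map_eq_zero_iff _ (algebraMap (ZMod p) (AdjoinRoot f)).injective, ZMod.natCast_eq_zero_iff] at h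
    exact hpq ((Nat.prime_dvd_prime_iff_eq Fact.out hq).1 h)
  have hroot : Polynomial.IsRoot (Polynomial.cyclotomic q (AdjoinRoot f)) (AdjoinRoot.root f) := by
    rw [← Polynomial.map_cyclotomic q (algebraMap (ZMod p) (AdjoinRoot f)), Polynomial.IsRoot,
      Polynomial.eval_map_algebraMap]
    obtain ⟨g, hg⟩ := hfd
    show (Polynomial.aeval (AdjoinRoot.root f)) Φ = 0
    rw [hg, map_mul, AdjoinRoot.aeval_eq, AdjoinRoot.mk_self, zero_mul]
  rw [Polynomial.isRoot_cyclotomic_iff] at hroot
  have hordz : orderOf (AdjoinRoot.root f) = q := hroot.eq_orderOf.symm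
  have hne : AdjoinRoot.root f ≠ 0 := hroot.ne_zero hq.pos.ne'
  have hcard : Fintype.card (AdjoinRoot f) = p ^ f.natDegree := by
    rw [← Nat.card_eq_fintype_card, Module.natCard_eq_pow_finrank (K := ZMod p),
      (AdjoinRoot.powerBasis hf.ne_zero).finrank, AdjoinRoot.powerBasis_dim, Nat.card_zmod]
  have h1 : q ∣ p ^ f.natDegree - 1 := by
    rw [← hordz, ← hcard]
    exact orderOf_dvd_of_pow_eq_one (FiniteField.pow_card_sub_one_eq_one _ hne)
  have h2 : (p : ZMod q) ^ f.natDegree = 1 := by
    have := (ZMod.natCast_eq_natCast_iff' (p ^ f.natDegree) 1 q).2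
      (((Nat.modEq_iff_dvd' (Nat.one_le_pow _ _ (Fact.out : p.Prime).pos)).2 h1).symm)
    simpa using this
  have h3 : q - 1 ∣ f.natDegree := hord ▸ orderOf_dvd_of_pow_eq_one h2
  have h4 : Φ.natDegree ≤ f.natDegree := hdeg ▸ Nat.le_of_dvd hf.natDegree_pos h3
  obtain ⟨g, hg⟩ := hfd
  have hg0 : g ≠ 0 := fun h => Polynomial.cyclotomic_ne_zero q (ZMod p) (by rw [show Polynomial.cyclotomic q (ZMod p) = f * g from hg, h, mul_zero])
  have hdg : g.natDegree = 0 := by
    have := congrArg Polynomial.natDegree hg
    rw [Polynomial.natDegree_mul hf.ne_zero hg0] at this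
    omega
  have hgu : IsUnit g := Polynomial.isUnit_iff_degree_eq_zero.2 (by
    rw [Polynomial.degree_eq_natDegree hg0, hdg]; rfl)
  rw [hg, irreducible_mul_isUnit hgu]
  exact hf

end CfsgLib.FGS.FieldModule
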