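import Mathlib
import Cfsg.Agent.S0126
import Cfsg.Agent.Solvable.Nilpotent

/-!
A `p`-group (`p` odd) of automorphisms of a finite abelian `p'`-group `V`, generated by `C` and
by `D`, is trivial if `V = C_V(c) C_V(d)` for all `c ∈ C`, `d ∈ D`.
-/

set_option autoImplicit false

namespace CfsgLib.FGS.FixedGenPairs

open Finset

variable {V : Type*} [CommGroup V]

/-- The fixed points of an automorphism. -/
def fixOf (g : MulAut V) : Subgroup V where
  carrier := {x | g x = x}
  one_mem' := map_one g
  mul_mem' := fun {a b} ha hb => by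
    show g (a * b) = a * b
    rw [map_mul, ha, hb]
  inv_mem' := fun {a} ha => by
    show g a⁻¹ = a⁻¹
    rw [map_inv, ha]

theorem mem_fixOf {g : MulAut V} {x : V} : x ∈ fixOf g ↔ g x = x := Iff.rfl

theorem pow_apply_of_fix {g : MulAut V} {x : V} (hx : g x = x) (n : ℕ) : (g ^ n) x = x := by
  induction n with
  | zero => rfl
  | succ n ih => rw [pow_succ, MulAut.mul_apply, hx, ih]

/-- The norm of an element of order dividing `p`. -/
def nrm (p : ℕ) (g : MulAut V) (x : V) : V := ∏ j ∈ range p, (g ^ j) x

theorem nrm_mem {p : ℕ} (g : MulAut V) (hg : g ^ p = 1) (x : V) : g (nrm p g x) = nrm p g x := by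
  have h1 := Finset.prod_range_succ' (fun j => (g ^ j) x) p
  rw [Finset.prod_range_succ, hg, pow_zero] at h1
  simp only [MulAut.one_apply] at h1
  unfold nrm
  rw [map_prod]
  simp_rw [← MulAut.mul_apply, ← pow_succ']
  exact (mul_right_cancel h1).symm

theorem nrm_mul (p : ℕ) (g : MulAut V) (x y : V) : nrm p g (x * y) = nrm p g x * nrm p g y := by
  simp [nrm, Finset.prod_mul_distrib]

theorem nrm_of_fix (p : ℕ) {g : MulAut V} {x : V} (hx : g x = x) : nrm p g x = x ^ p := by
  simp [nrm, pow_apply_of_fix hx]

theorem apply_nrm (p : ℕ) (g h : MulAut V) (x : V) :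
    h (nrm p g x) = nrm p (h * g * h⁻¹) (h x) := by
  simp [nrm, map_prod, conj_pow]

/-- `x ^ p` is the product of the norms over the lines other than `⟨z⟩` of `⟨e, z⟩`. -/
theorem prod_nrm {p : ℕ} (hp : p.Prime) {e z : MulAut V} (hze : Commute z e)
    (hz : z ^ p = 1) (hfz : ∀ x, z x = x → x = 1) (x : V) :
    ∏ i ∈ range p, nrm p (z ^ i * e) x = x ^ p := by
  unfold nrm
  rw [Finset.prod_comm]
  have hkey : ∀ j ∈ range p, j ≠ 0 → ∏ i ∈ range p, ((z ^ i * e) ^ j) x = 1 := by
    intro j hj hj0
    have h1 : ∀ i : ℕ, ((z ^ i * e) ^ j) x = ((z ^ j) ^ i) ((e ^ j) x) := fun i => by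
      rw [(hze.pow_left i).mul_pow, MulAut.mul_apply, ← pow_mul, ← pow_mul, mul_comm]
    simp_rw [h1]
    set y := (e ^ j) x
    have hfix : (z ^ j) (nrm p (z ^ j) y) = nrm p (z ^ j) y :=
      nrm_mem _ (by rw [← pow_mul, mul_comm, pow_mul, hz, one_pow]) y
    refine hfz _ ?_
    have hcop : j.Coprime p := (hp.coprime_iff_not_dvd.mpr
      (Nat.not_dvd_of_pos_of_lt (Nat.pos_of_ne_zero hj0) (Finset.mem_range.mp hj))).symm
    obtain ⟨k, -, hk⟩ := Nat.exists_mul_mod_eq_one_of_coprime hcop hp.one_lt
    have : z = (z ^ j) ^ k := by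
      rw [← pow_mul, ← Nat.mod_add_div (j * k) p, hk, pow_add, pow_mul, hz, one_pow, mul_one,
        pow_one]
    exact (DFunLike.congr_fun this _).trans (pow_apply_of_fix hfix k)
  rw [Finset.prod_eq_single 0 hkey (fun h => absurd (Finset.mem_range.mpr hp.pos) h)]
  simp

variable [Finite V]

theorem eq_one_of_pow {p : ℕ} (hcop : (Nat.card V).Coprime p) {x : V} (h : x ^ p = 1) : x = 1 :=
  orderOf_eq_one_iff.mp
    (Nat.eq_one_of_dvd_coprimes hcop (orderOf_dvd_natCard x) (orderOf_dvd_of_pow_eq_one h))

/-- Counting for `c e c⁻¹ = z e` with `z` fixed-point-free. -/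
theorem card_bounds {p : ℕ} (hp : p.Prime) (hcop : (Nat.card V).Coprime p) {c e z : MulAut V}
    (hze : Commute z e) (hcz : Commute c z) (hce : c * e * c⁻¹ = z * e)
    (hz : z ^ p = 1) (he : e ^ p = 1) (hfz : ∀ x, z x = x → x = 1) :
    Nat.card (fixOf c) ≤ Nat.card (fixOf e) ∧ Nat.card (fixOf e) ^ p ≤ Nat.card V := by
  have hconj : ∀ i : ℕ, c ^ i * e * (c ^ i)⁻¹ = z ^ i * e := by
    intro i
    induction i with
    | zero => simp
    | succ i ih =>
      rw [pow_succ' c, mul_inv_rev,
        show c * c ^ i * e * ((c ^ i)⁻¹ * c⁻¹) = c * (c ^ i * e * (c ^ i)⁻¹) * c⁻¹ by group, ih,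
        show c * (z ^ i * e) * c⁻¹ = (c * z ^ i) * e * c⁻¹ by group, (hcz.pow_right i).eq,
        show z ^ i * c * e * c⁻¹ = z ^ i * (c * e * c⁻¹) by group, hce, ← mul_assoc, ← pow_succ]
  have hpow : ∀ i : ℕ, (z ^ i * e) ^ p = 1 := fun i => by
    rw [(hze.pow_left i).mul_pow, ← pow_mul, mul_comm i p, pow_mul, hz, one_pow, one_mul, he]
  constructor
  · refine Nat.card_le_card_of_injective
      (fun x : fixOf c => (⟨nrm p e x.1, nrm_mem e he x.1⟩ : fixOf e)) ?_
    intro x y hxy
    have hxy' : nrm p e x.1 = nrm p e y.1 := congrArg Subtype.val hxy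
    set w := x * y⁻¹ with hw
    have h0 : nrm p e w.1 = 1 := by
      have h2 := nrm_mul p e w.1 y.1
      rw [show w.1 * y.1 = x.1 by simp [hw], hxy'] at h2
      exact right_eq_mul.mp h2
    have h1 : (w.1 : V) ^ p = 1 := by
      rw [← prod_nrm hp hze hz hfz w.1]
      refine Finset.prod_eq_one fun i _ => ?_
      have := apply_nrm p e (c ^ i) w.1
      rw [h0, map_one, hconj, pow_apply_of_fix w.2 i] at this
      exact this.symm
    have := eq_one_of_pow hcop h1
    exact mul_inv_eq_one.mp (Subtype.ext this)
  · have hi : ∀ i : ℕ, Nat.card (fixOf (z ^ i * e)) = Nat.card (fixOf e) := fun i =>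
      Nat.card_congr (((c ^ i).toEquiv.subtypeEquiv fun x => by
        show e x = x ↔ (z ^ i * e) ((c ^ i) x) = (c ^ i) x
        rw [← hconj i]
        simp).symm)
    calc Nat.card (fixOf e) ^ p = Nat.card ((i : Fin p) → fixOf (z ^ (i : ℕ) * e)) := by
          rw [Nat.card_pi]; simp [hi]
      _ ≤ Nat.card V := by
          refine Nat.card_le_card_of_injective
            (fun f : (i : Fin p) → fixOf (z ^ (i : ℕ) * e) => ∏ i, (f i).1) ?_
          have hrec : ∀ (f : (i : Fin p) → fixOf (z ^ (i : ℕ) * e)) (k : Fin p),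
              nrm p (z ^ (k : ℕ) * e) (∏ i, (f i).1) = (f k).1 ^ p := by
            intro f k
            have hmap : nrm p (z ^ (k : ℕ) * e) (∏ i, (f i).1) =
                ∏ i, nrm p (z ^ (k : ℕ) * e) (f i).1 := by
              unfold nrm
              simp only [map_prod]
              exact Finset.prod_comm
            rw [hmap, Finset.prod_eq_single k ?_ (by simp)]
            · exact nrm_of_fix p (f k).2
            · intro i _ hik
              set gi := z ^ (i : ℕ) * e
              set gk := z ^ (k : ℕ) * e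
              set y := nrm p gk (f i).1
              have hyk : gk y = y := nrm_mem _ (hpow _) _
              have hcomm : gi * gk = gk * gi :=
                ((((Commute.refl z).pow_pow _ _).mul_right (hze.pow_left _)).mul_left
                  ((hze.symm.pow_right _).mul_right (Commute.refl e))).eq
              have hyi : gi y = y := by
                rw [apply_nrm, hcomm, mul_inv_cancel_right, (f i).2]
              have hey : e y = ((z ^ (k : ℕ))⁻¹ : MulAut V) y := by
                conv_rhs => rw [← hyk]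
                simp [gk]
              have hzd : (z ^ (i : ℕ)) y = (z ^ (k : ℕ)) y := by
                have h1 : (z ^ (i : ℕ)) (e y) = y := hyi
                have h2 : (z ^ (k : ℕ)) (e y) = y := hyk
                have h3 : e ((z ^ (i : ℕ)) y) = e ((z ^ (k : ℕ)) y) := by
                  rw [← MulAut.mul_apply, ← MulAut.mul_apply, (hze.symm.pow_right _).eq,
                    (hze.symm.pow_right _).eq]
                  exact h1.trans h2.symm
                exact e.injective h3
              refine hfz _ ?_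
              -- a power prime to `p` of `z` fixes `y`
              have hd : ∃ d, 0 < d ∧ d < p ∧ (z ^ d) y = y := by
                rcases lt_or_gt_of_ne (fun h => hik (Fin.ext h) : (i : ℕ) ≠ k) with h | h
                · refine ⟨k - i, by omega, by omega, (z ^ (i : ℕ)).injective ?_⟩
                  rw [← MulAut.mul_apply, ← pow_add, Nat.add_sub_cancel' h.le]
                  exact hzd.symm
                · refine ⟨i - k, by omega, by omega, (z ^ (k : ℕ)).injective ?_⟩
                  rw [← MulAut.mul_apply, ← pow_add, Nat.add_sub_cancel' h.le]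
                  exact hzd
              obtain ⟨d, hd0, hdp, hd⟩ := hd
              obtain ⟨m, -, hm⟩ := Nat.exists_mul_mod_eq_one_of_coprime
                (hp.coprime_iff_not_dvd.mpr (Nat.not_dvd_of_pos_of_lt hd0 hdp)).symm hp.one_lt
              have : z = (z ^ d) ^ m := by
                rw [← pow_mul, ← Nat.mod_add_div (d * m) p, hm, pow_add, pow_mul, hz, one_pow,
                  mul_one, pow_one]
              exact (DFunLike.congr_fun this _).trans (pow_apply_of_fix hd m)
          intro f g hfg
          funext k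
          have h1 := (hrec f k).symm.trans ((congrArg _ hfg).trans (hrec g k))
          refine Subtype.ext (div_eq_one.mp (eq_one_of_pow hcop ?_))
          rw [div_pow, h1, div_self']

/-- A `p`-group, `p` odd, of automorphisms of a finite abelian `p'`-group is trivial if it has
generating sets `C`, `D` with `V = C_V(c) C_V(d)` for `c ∈ C`, `d ∈ D`. -/
theorem eq_bot {p : ℕ} [hp : Fact p.Prime] (hp3 : 3 ≤ p) :
    ∀ (n : ℕ) {V : Type*} [CommGroup V] [Finite V], Nat.card V = n → (Nat.card V).Coprime p →
      ∀ (Q : Subgroup (MulAut V)), IsPGroup p Q → ∀ C D : Set (MulAut V),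
      Subgroup.closure C = Q → Subgroup.closure D = Q →
      (∀ x : V, ∀ c ∈ C, ∀ d ∈ D, ∃ u v : V, c u = u ∧ d v = v ∧ x = u * v) → Q = ⊥ := by
  intro n
  induction n using Nat.strong_induction_on with
  | _ n ih =>
    intro V _ _ hn hcop Q hQ C D hC hD hfac
    by_contra hQ1
    have hCQ : C ⊆ Q := hC ▸ Subgroup.subset_closure
    have hDQ : D ⊆ Q := hD ▸ Subgroup.subset_closure
    -- central elements are fixed-point-free
    have hfree : ∀ z ∈ Q, (∀ g ∈ Q, g * z = z * g) → z ≠ 1 → ∀ x : V, z x = x → x = 1 := by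
      intro z hzQ hzc hz1
      let f : V →* V := z.toMonoidHom / MonoidHom.id V
      have hf : ∀ x, f x = z x / x := fun x => rfl
      have heq : ∀ g ∈ Q, ∀ x, g (f x) = f (g x) := by
        intro g hg x
        rw [hf, hf, map_div, ← MulAut.mul_apply, hzc g hg, MulAut.mul_apply]
      by_cases htop : f.range = ⊤
      · intro x hx
        have hinj : Function.Injective f :=
          Finite.injective_iff_surjective.mpr (MonoidHom.range_eq_top.mp htop)
        refine hinj ?_
        rw [map_one, hf, hx, div_self']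
      exfalso
      have hlt : Nat.card f.range < n := by
        rw [← hn]
        exact lt_of_le_of_ne (Nat.le_of_dvd Nat.card_pos (Subgroup.card_subgroup_dvd_card _))
          fun h => htop (Subgroup.eq_top_of_card_eq _ h)
      have hmem : ∀ g ∈ Q, ∀ x ∈ f.range, g x ∈ f.range := by
        rintro g hg _ ⟨x, rfl⟩
        exact ⟨g x, (heq g hg x).symm⟩
      let ρ : Q →* MulAut f.range :=
        { toFun := fun g =>
            { toFun := fun x => ⟨g.1 x.1, hmem _ g.2 _ x.2⟩
              invFun := fun x => ⟨(g⁻¹).1 x.1, hmem _ (g⁻¹).2 _ x.2⟩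
              left_inv := fun x => Subtype.ext (by simp)
              right_inv := fun x => Subtype.ext (by simp)
              map_mul' := fun x y => Subtype.ext (map_mul g.1 x.1 y.1) }
          map_one' := MulEquiv.ext fun x => rfl
          map_mul' := fun a b => MulEquiv.ext fun x => rfl }
      have hclos : ∀ S : Set (MulAut V), Subgroup.closure S = Q →
          Subgroup.closure (ρ '' ((↑) ⁻¹' S)) = ρ.range := by
        intro S hS
        rw [← MonoidHom.map_closure, MonoidHom.range_eq_map ρ]
        congr 1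
        subst hS
        exact Subgroup.closure_closure_coe_preimage
      have key := ih _ hlt rfl (hcop.coprime_dvd_left (Subgroup.card_subgroup_dvd_card _))
        ρ.range (hQ.of_surjective ρ.rangeRestrict ρ.rangeRestrict_surjective) _ _
        (hclos C hC) (hclos D hD) (by
          rintro ⟨_, x, rfl⟩ _ ⟨c, hc, rfl⟩ _ ⟨d, hd, rfl⟩
          obtain ⟨u, v, hu, hv, huv⟩ := hfac x c hc d hd
          refine ⟨⟨f u, u, rfl⟩, ⟨f v, v, rfl⟩, Subtype.ext ?_, Subtype.ext ?_, Subtype.ext ?_⟩
          · show c.1 (f u) = f u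
            rw [heq _ c.2, hu]
          · show d.1 (f v) = f v
            rw [heq _ d.2, hv]
          · show f x = f u * f v
            rw [huv, map_mul])
      have hzfix : ∀ x, z (f x) = f x := by
        intro x
        have h1 : ρ ⟨z, hzQ⟩ = 1 := by
          rw [← Subgroup.mem_bot, ← key]
          exact ⟨_, rfl⟩
        exact congrArg Subtype.val (DFunLike.congr_fun h1 ⟨f x, x, rfl⟩)
      refine hz1 (MulEquiv.ext fun x => ?_)
      have hpow : ∀ k : ℕ, (z ^ k) x = x * f x ^ k := by
        intro k
        induction k with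
        | zero => simp
        | succ k hk =>
          rw [pow_succ', MulAut.mul_apply, hk, map_mul, map_pow, hzfix, pow_succ', hf, ← mul_assoc,
            mul_div_cancel]
      obtain ⟨m, hm⟩ := hQ ⟨z, hzQ⟩
      have hm' : z ^ p ^ m = 1 := by simpa [Subtype.ext_iff] using hm
      have h2 := hpow (p ^ m)
      rw [hm', MulAut.one_apply, left_eq_mul] at h2
      exact div_eq_one.mp ((hf x) ▸ eq_one_of_pow (p := p ^ m) (hcop.pow_right m) h2)
    have hV : ∀ c ∈ C, ∀ d ∈ D, (fixOf c = ⊥) → (fixOf d = ⊥) → False := by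
      intro c hc d hd hfc hfd
      refine hQ1 ((Subgroup.eq_bot_iff_forall _).mpr fun g _ => MulEquiv.ext fun x => ?_)
      have h1 : ∀ y : V, y = 1 := by
        intro y
        obtain ⟨u, v, hu, hv, huv⟩ := hfac y c hc d hd
        have hu1 : u = 1 := Subgroup.mem_bot.mp (hfc ▸ (mem_fixOf.mpr hu))
        have hv1 : v = 1 := Subgroup.mem_bot.mp (hfd ▸ (mem_fixOf.mpr hv))
        simp [huv, hu1, hv1]
      rw [h1 (g x), h1 ((1 : MulAut V) x)]
    by_cases hcyc : IsCyclic Q
    · have hex : ∀ S : Set (MulAut V), Subgroup.closure S = Q → ∃ s ∈ S, s ≠ 1 := by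
        intro S hS
        by_contra! h
        refine hQ1 ?_
        rw [← hS, Subgroup.closure_eq_bot_iff]
        exact fun s hs => h s hs
      have hbot : ∀ g ∈ Q, g ≠ 1 → fixOf g = ⊥ := by
        intro g hg hg1
        rw [Subgroup.eq_bot_iff_forall]
        refine fun x hx => hfree g hg (fun a ha => ?_) hg1 x hx
        exact congrArg Subtype.val (Std.Commutative.comm (op := (· * · : Q → Q → Q))
          ⟨a, ha⟩ ⟨g, hg⟩)
      obtain ⟨c, hc, hc1⟩ := hex C hC
      obtain ⟨d, hd, hd1⟩ := hex D hD
      exact hV c hc d hd (hbot c (hCQ hc) hc1) (hbot d (hDQ hd) hd1)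
    obtain ⟨E, hEn, hEe, hEc⟩ :=
      Cfsg.Agent.S0126.result (R := Q) (p := p) (by omega) hQ hcyc
    have := hEn
    have : Group.IsNilpotent Q := hQ.isNilpotent
    by_cases hcen : E ≤ Subgroup.center Q
    · -- every non-trivial element of `E` is fixed-point-free
      obtain ⟨z, hzE, hz1⟩ : ∃ z ∈ E, z ≠ 1 := E.bot_or_exists_ne_one.resolve_left fun h => by
        rw [h, Subgroup.card_bot] at hEc
        exact absurd (Nat.one_lt_pow two_ne_zero hp.out.one_lt) (hEc ▸ lt_irrefl _)
      obtain ⟨e, heE, he⟩ : ∃ e ∈ E, e ∉ Subgroup.zpowers z := by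
        by_contra! h
        have h1 : Nat.card (Subgroup.zpowers z) = p := by
          rw [Nat.card_zpowers]
          exact orderOf_eq_prime (hEe.2 z hzE) hz1
        have h3 := Subgroup.card_dvd_of_le (show E ≤ Subgroup.zpowers z from h)
        rw [h1, hEc] at h3
        have h2 := Nat.le_of_dvd hp.out.pos h3
        nlinarith [hp.out.two_le]
      have hcom : ∀ a ∈ E, ∀ g ∈ Q, g * a.1 = a.1 * g := fun a ha g hg =>
        congrArg Subtype.val (Subgroup.mem_center_iff.mp (hcen ha) ⟨g, hg⟩)
      have hzero : ∀ x : V, x = 1 := by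
        intro x
        refine eq_one_of_pow hcop ?_
        rw [← prod_nrm hp.out (e := e.1) (z := z.1)
          (show Commute z.1 e.1 from hcom e heE z.1 z.2)
          (congrArg Subtype.val (hEe.2 z hzE))
          (hfree z.1 z.2 (hcom z hzE) (fun h => hz1 (Subtype.ext h))) x]
        refine Finset.prod_eq_one fun i _ => ?_
        have hmem : z ^ i * e ∈ E := E.mul_mem (E.pow_mem hzE i) heE
        refine hfree (z ^ i * e : Q).1 (Subtype.property _) (hcom _ hmem) (fun h => he ?_) _
          (nrm_mem _ ?_ x)
        · have h' : z ^ i * e = 1 := Subtype.ext h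
          rw [eq_inv_of_mul_eq_one_right h']
          exact inv_mem (pow_mem (Subgroup.mem_zpowers z) i)
        · exact congrArg Subtype.val (hEe.2 _ hmem)
      exact hQ1 ((Subgroup.eq_bot_iff_forall _).mpr fun g _ => MulEquiv.ext fun x => by
        rw [hzero (g x), hzero ((1 : MulAut V) x)])
    -- some element of each generating set moves some element of `E`
    have hZ : ⁅E, (⊤ : Subgroup Q)⁆ ≤ E ⊓ Subgroup.center Q := by
      refine le_inf (Subgroup.commutator_le_left E ⊤) ?_
      set Z := ⁅E, (⊤ : Subgroup Q)⁆ with hZdef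
      by_cases hZb : Z = ⊥
      · simp [hZb]
      have hlt : Z ≠ E := by
        intro h
        have hser : ∀ k, E ≤ Subgroup.lowerCentralSeries ⊤ k := by
          intro k
          induction k with
          | zero => simp
          | succ k ih' =>
            rw [← h, Subgroup.lowerCentralSeries_succ]
            exact Subgroup.commutator_mono ih' le_rfl
        obtain ⟨k, hk⟩ := Subgroup.nilpotent_iff_lowerCentralSeries.mp ‹Group.IsNilpotent Q›
        have hEb : E = ⊥ := le_bot_iff.mp (hk ▸ hser k)
        rw [hEb, Subgroup.card_bot] at hEc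
        exact absurd (Nat.one_lt_pow two_ne_zero hp.out.one_lt) (hEc ▸ lt_irrefl _)
      have hcard : Nat.card Z = p := by
        have hd := Subgroup.card_dvd_of_le (Subgroup.commutator_le_left E (⊤ : Subgroup Q))
        rw [hEc] at hd
        obtain ⟨k, hk, hk'⟩ := (Nat.dvd_prime_pow hp.out).mp hd
        interval_cases k
        · exact absurd (Subgroup.card_eq_one.mp (hk'.trans (pow_zero p))) hZb
        · exact hk'.trans (pow_one p)
        · exact absurd (Subgroup.eq_of_le_of_card_ge (Subgroup.commutator_le_left E _)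
            (by rw [hk', hEc])) hlt
      have : Z.Normal := Subgroup.commutator_normal E ⊤
      have hint : Z ⊓ Subgroup.center Q ≠ ⊥ :=
        CfsgLib.Solvable.inf_center_ne_bot (N := Z) hZb
      have h1 : Nat.card (Z ⊓ Subgroup.center Q : Subgroup Q) ∣ p :=
        hcard ▸ Subgroup.card_dvd_of_le inf_le_left
      rcases (Nat.dvd_prime hp.out).mp h1 with h | h
      · exact absurd (Subgroup.card_eq_one.mp h) hint
      · exact inf_eq_left.mp (Subgroup.eq_of_le_of_card_ge inf_le_left (hcard.trans h.symm).le)
    obtain ⟨e, heE, hne⟩ := SetLike.not_le_iff_exists.mp hcen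
    have hgen : ∀ S : Set (MulAut V), Subgroup.closure S = Q →
        ∃ s ∈ S, Nat.card (fixOf s) ≤ Nat.card (fixOf e.1) ∧
          Nat.card (fixOf e.1) ^ p ≤ Nat.card V := by
      intro S hS
      have hex : ∃ s ∈ S, s * e.1 ≠ e.1 * s := by
        by_contra! h
        refine hne (Subgroup.mem_center_iff.mpr fun g => Subtype.ext ?_)
        have hle : Q ≤ Subgroup.centralizer {e.1} := hS.symm.trans_le
          ((Subgroup.closure_le _).mpr fun s hs =>
            Subgroup.mem_centralizer_singleton_iff.mpr (h s hs))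
        exact Subgroup.mem_centralizer_singleton_iff.mp (hle g.2)
      obtain ⟨s, hs, hse⟩ := hex
      refine ⟨s, hs, ?_⟩
      have hsQ : s ∈ Q := hS ▸ Subgroup.subset_closure hs
      set σ : Q := ⟨s, hsQ⟩
      set z : Q := σ * e * σ⁻¹ * e⁻¹
      have hzZ : z ∈ E ⊓ Subgroup.center Q := by
        refine hZ ?_
        have h2 := inv_mem (Subgroup.commutator_mem_commutator heE (Subgroup.mem_top σ))
        simpa [commutatorElement_def, z, mul_assoc] using h2
      obtain ⟨hzE, hzC⟩ := Subgroup.mem_inf.mp hzZ
      have hcom : ∀ g ∈ Q, g * z.1 = z.1 * g := fun g hg =>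
        congrArg Subtype.val (Subgroup.mem_center_iff.mp hzC ⟨g, hg⟩)
      have hz1 : z.1 ≠ 1 := by
        intro h
        have h' : σ * e * σ⁻¹ * e⁻¹ = 1 := Subtype.ext h
        refine hse (congrArg Subtype.val (show σ * e = e * σ from ?_))
        rw [mul_inv_eq_one, mul_inv_eq_iff_eq_mul] at h'
        exact h'
      exact card_bounds hp.out hcop (c := s) (e := e.1) (z := z.1)
        (hcom e.1 e.2).symm (hcom s hsQ)
        (congrArg Subtype.val (show σ * e * σ⁻¹ = z * e by simp [z]))
        (congrArg Subtype.val (hEe.2 z hzE)) (congrArg Subtype.val (hEe.2 e heE))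
        (hfree z.1 z.2 hcom hz1)
    obtain ⟨c, hc, hcle, hpow⟩ := hgen C hC
    obtain ⟨d, hd, hdle, -⟩ := hgen D hD
    have hprod : Nat.card V ≤ Nat.card (fixOf c) * Nat.card (fixOf d) := by
      rw [← Nat.card_prod]
      refine Nat.card_le_card_of_surjective (fun w : fixOf c × fixOf d => w.1.1 * w.2.1) ?_
      intro x
      obtain ⟨u, v, hu, hv, huv⟩ := hfac x c hc d hd
      exact ⟨(⟨u, hu⟩, ⟨v, hv⟩), huv.symm⟩
    set S := Nat.card (fixOf e.1)
    have hS : S = 1 := by
      have h2 : S ^ p ≤ S ^ 2 :=
        hpow.trans (hprod.trans ((Nat.mul_le_mul hcle hdle).trans (by rw [sq])))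
      by_contra hS
      have h0 : 0 < S := Nat.card_pos
      exact absurd h2 (not_le.mpr (Nat.pow_lt_pow_right (by omega) (by omega)))
    exact hV c hc d hd
      (Subgroup.card_eq_one.mp (le_antisymm (hS ▸ hcle) Nat.card_pos))
      (Subgroup.card_eq_one.mp (le_antisymm (hS ▸ hdle) Nat.card_pos))

end CfsgLib.FGS.FixedGenPairs
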