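/-
A quadratic element of a finite solvable group centralizes a minimal normal elementary abelian `p`-subgroup,
`p ≥ 5`.
-/
import Cfsg.Agent.PLocal.PStability
import Mathlib.GroupTheory.PGroup

set_option autoImplicit false

namespace CfsgLib.FGS

open Subgroup
open scoped MatrixGroups

variable {G : Type*} [Group G] [Finite G]


theorem not_hasSL2Section_of_isSolvable [Group.IsSolvable G] {p : ℕ} [Fact p.Prime] (hp : 3 < p) :
    ¬ CfsgLib.PLocal.HasSL2Section p (⊤ : Subgroup G) := by
  rintro ⟨L, -, θ, hθ⟩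
  have : Group.IsSolvable SL(2, ZMod p) := Group.isSolvable_of_surjective hθ
  have h2 : ∀ k : ℕ, 0 < k → k < p → ((k : ℕ) : ZMod p) ≠ 0 := fun k hk hkp h =>
    absurd (Nat.le_of_dvd hk ((ZMod.natCast_eq_zero_iff _ _).mp h)) (by omega)
  have hperf : commutator SL(2, ZMod p) = ⊤ := by
    refine Matrix.SL2.commutator_eq_top (a := (2 : ZMod p)) ?_ ?_
    · simpa using h2 2 (by norm_num) (by omega)
    · intro h
      apply h2 3 (by norm_num) hp
      have : (3 : ZMod p) = 2 ^ 2 - 1 := by norm_num
      rw [Nat.cast_ofNat, this, h, sub_self]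
  have : Nontrivial SL(2, ZMod p) := by
    refine ⟨1, -1, fun h => h2 2 (by norm_num) (by omega) ?_⟩
    have h1 := congrArg (fun g : SL(2, ZMod p) => (g : Matrix (Fin 2) (Fin 2) (ZMod p)) 0 0) h
    simp at h1
    rw [Nat.cast_ofNat, show (2 : ZMod p) = 1 + 1 by norm_num]
    nth_rewrite 2 [h1]
    rw [add_neg_cancel]
  exact (Group.IsSolvable.commutator_lt_top_of_nontrivial SL(2, ZMod p)).ne hperf

/-- In a solvable group, an element acting quadratically on a minimal normal elementary abelian `p`-subgroup,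
`p ≥ 5`, centralizes it. -/
theorem mem_centralizer_of_quadratic [Group.IsSolvable G] {p : ℕ} [Fact p.Prime] (hp : 3 < p)
    (V : Subgroup G) [V.Normal] (hV : Cfsg.IsElementaryAbelian p V)
    (hmin : ∀ N : Subgroup G, N.Normal → N ≤ V → N ≠ ⊥ → N = V) (a : G)
    (hq : ⁅⁅V, Subgroup.zpowers a⁆, Subgroup.zpowers a⁆ = ⊥) : a ∈ centralizer (V : Set G) := by
  by_contra hna
  have hVne : V ≠ ⊥ := by
    rintro rfl
    exact hna (by rw [mem_centralizer_iff]; intro v hv; simp [mem_bot.mp hv])
  have := hV.1
  have hst := PLocal.isPStableOn_elementary_of_no_section (p := p) (by omega)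
    (not_hasSL2Section_of_isSolvable hp) V hV a hq
  set C := centralizer (V : Set G)
  set P := Cfsg.pCore p (G ⧸ C)
  set D := P.comap (QuotientGroup.mk' C)
  have hPp : IsPGroup p P := PLocal.isPGroup_pCore p _
  let φ : G →* Equiv.Perm V :=
    (MulAut.toPerm V).comp (MulAut.conjNormal : G →* MulAut V)
  have hker : ∀ c ∈ C, φ c = 1 := fun c hc => Equiv.ext fun v => Subtype.ext (by
    show c * (v : G) * c⁻¹ = v
    rw [← (mem_centralizer_iff.mp hc) v v.2, mul_inv_cancel_right])
  let A := D.map φ
  have hA : IsPGroup p A := by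
    rintro ⟨_, d, hd, rfl⟩
    obtain ⟨k, hk⟩ := hPp ⟨_, hd⟩
    refine ⟨k, Subtype.ext ?_⟩
    show φ d ^ p ^ k = 1
    rw [← map_pow]
    exact hker _ ((QuotientGroup.eq_one_iff _).mp (by
      have := congrArg Subtype.val hk
      simpa using this))
  have hDn : D.Normal := Normal.comap inferInstance _
  set N := V ⊓ centralizer (D : Set G)
  have hNV : N = V := by
    refine hmin N inferInstance inf_le_left fun hbot => ?_
    have h1 : Nat.card V ≡ Nat.card (MulAction.fixedPoints A V) [MOD p] := hA.card_modEq_card_fixedPoints V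
    have hfix : MulAction.fixedPoints A V = {1} := by
      ext v
      rw [Set.mem_singleton_iff, MulAction.mem_fixedPoints]
      constructor
      · intro h
        have hv : (v : G) ∈ N := by
          refine mem_inf.mpr ⟨v.2, mem_centralizer_iff.mpr fun d hd => ?_⟩
          have := congrArg Subtype.val (h ⟨φ d, mem_map_of_mem φ hd⟩)
          exact (mul_inv_eq_iff_eq_mul.mp this)
        exact Subtype.ext (mem_bot.mp (hbot ▸ hv))
      · rintro rfl ⟨_, d, hd, rfl⟩
        exact map_one (MulAut.conjNormal d : MulAut V)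
    rw [hfix, show Nat.card ({1} : Set V) = 1 from Nat.card_eq_one_iff_exists.mpr
      ⟨⟨1, rfl⟩, fun b => Subtype.ext b.2⟩] at h1
    have : Nontrivial V := (nontrivial_iff_ne_bot V).mpr hVne
    have hdvd : p ∣ Nat.card V := (show IsPGroup p V from fun v => ⟨1, Subtype.ext (by simpa using hV.2 v v.2)⟩).card_eq_or_dvd.resolve_left Finite.one_lt_card.ne'
    have := h1.symm.trans (Nat.modEq_zero_iff_dvd.mpr hdvd)
    rw [Nat.ModEq, Nat.zero_mod, Nat.one_mod_eq_one.mpr (Fact.out : p.Prime).ne_one] at this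
    exact one_ne_zero this
  refine hna (mem_centralizer_iff.mpr fun v hv => ?_)
  rw [← hNV] at hv
  exact ((mem_centralizer_iff.mp hv.2) a hst).symm

end CfsgLib.FGS
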