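/-
An element of prime order `p` whose conjugates generate a finite solvable group fixes at most one third of the
points in any non-trivial transitive action.
-/
import Mathlib.GroupTheory.Solvable
import Mathlib.GroupTheory.Index
import Mathlib.GroupTheory.GroupAction.Quotient
import Mathlib.GroupTheory.SpecificGroups.Cyclic
import Mathlib.Order.Atoms
import Mathlib.Order.Atoms.Finite
import Mathlib.Data.Set.Finite.Basic

set_option autoImplicit false

namespace CfsgLib.FGS

open Subgroup
open scoped commutatorElement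

variable {G : Type*} [Group G]

theorem exists_abelian_layer [Group.IsSolvable G] (H : Subgroup G) (hH : H ≠ ⊤) :
    ∃ M : Subgroup G, M.Normal ∧ ¬ M ≤ H ∧ ⁅M, M⁆ ≤ H.normalCore := by
  classical
  have hex : ∃ n, derivedSeries G n ≤ H := by
    obtain ⟨n, hn⟩ := ‹Group.IsSolvable G›.solvable
    exact ⟨n, hn.le.trans bot_le⟩
  have h0 : Nat.find hex ≠ 0 := by
    intro h
    have := Nat.find_spec hex
    rw [h, derivedSeries_zero] at this
    exact hH (top_le_iff.mp this)
  obtain ⟨k, hk⟩ := Nat.exists_eq_succ_of_ne_zero h0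
  refine ⟨derivedSeries G k, derivedSeries_normal G k, Nat.find_min hex (by omega), ?_⟩
  rw [← derivedSeries_succ]
  have := derivedSeries_normal G (k + 1)
  have hs := Nat.find_spec hex
  rw [hk] at hs
  exact normal_le_normalCore.mpr hs

theorem ne_two_of_moved [Finite G] {p : ℕ} [Fact p.Prime] (hp2 : p ≠ 2) {Q : Type*} [Group Q]
    (π : G →* Q) (M : Subgroup G) [M.Normal] (hab : ∀ a ∈ M, ∀ b ∈ M, Commute (π a) (π b))
    {y : G} (hy : y ^ p = 1) :
    (M ⊓ (centralizer ({π y} : Set Q)).comap π).relIndex M ≠ 2 := by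
  intro h2
  set D := M ⊓ (centralizer ({π y} : Set Q)).comap π with hDdef
  set D' := D.subgroupOf M
  have hD' : D'.index = 2 := h2
  have memD : ∀ m : G, m ∈ D ↔ m ∈ M ∧ π y * π m = π m * π y := by
    intro m
    rw [hDdef, mem_inf, mem_comap, mem_centralizer_singleton_iff]
    exact and_congr_right fun _ => eq_comm
  obtain ⟨m, hm⟩ : ∃ m : M, m ∉ D' := by
    by_contra hc
    push Not at hc
    rw [(eq_top_iff' _).mpr hc, index_top] at hD'
    omega
  set m' : G := y * (m : G) * y⁻¹
  have hm'M : m' ∈ M := ‹M.Normal›.conj_mem _ m.2 y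
  have hm'D : (⟨m', hm'M⟩ : M) ∉ D' := by
    intro h
    apply hm
    rw [mem_subgroupOf] at h ⊢
    obtain ⟨-, hc⟩ := (memD _).mp h
    refine (memD _).mpr ⟨m.2, ?_⟩
    simp only [m', map_mul, map_inv, mul_assoc] at hc
    have := congrArg (fun z => (π y)⁻¹ * z * π y) hc
    simpa [mul_assoc] using this
  have hd : m' * (m : G)⁻¹ ∈ D := by
    have h1 : (m⁻¹ : M) ∉ D' := fun h => hm (by simpa using D'.inv_mem h)
    have := (mul_mem_iff_of_index_two hD' (a := ⟨m', hm'M⟩) (b := m⁻¹)).mpr
      (iff_of_false hm'D h1)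
    simpa [D', mem_subgroupOf] using this
  have hsq : (m : G) * m ∈ D := by
    simpa [D', mem_subgroupOf] using mul_self_mem_of_index_two hD' m
  obtain ⟨hdM, hdc⟩ := (memD _).mp hd
  obtain ⟨-, hsqc⟩ := (memD _).mp hsq
  set a := π m
  set b := π y
  set d := π (m' * (m : G)⁻¹) with hd'
  have e1 : b * a * b⁻¹ = d * a := by
    rw [hd']; simp [m', a, b, mul_assoc]
  have e2 : b * d * b⁻¹ = d := by rw [hdc, mul_inv_cancel_right]
  have e3 : Commute d a := hab _ hdM _ m.2
  have e4 : ∀ j : ℕ, b ^ j * a * (b ^ j)⁻¹ = d ^ j * a := by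
    intro j
    induction j with
    | zero => simp
    | succ j ih =>
      have e5 : b * d ^ j * b⁻¹ = d ^ j := by rw [← conj_pow, e2]
      calc b ^ (j + 1) * a * (b ^ (j + 1))⁻¹ = b * (b ^ j * a * (b ^ j)⁻¹) * b⁻¹ := by
            rw [pow_succ' b j]; simp [mul_assoc]
        _ = (b * d ^ j * b⁻¹) * (b * a * b⁻¹) := by rw [ih]; simp [mul_assoc]
        _ = d ^ (j + 1) * a := by rw [e5, e1, ← mul_assoc, ← pow_succ]
  have hdp : d ^ p = 1 := by
    have := e4 p
    rw [show b ^ p = 1 by rw [← map_pow, hy, map_one]] at this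
    simpa using this.symm
  have hd2 : d ^ 2 = 1 := by
    have h5 : b * (a * a) * b⁻¹ = a * a := by
      rw [map_mul π (m : G) m] at hsqc
      rw [show b * (a * a) = a * a * b from hsqc, mul_inv_cancel_right]
    have h6 : b * (a * a) * b⁻¹ = (d * a) * (d * a) := by rw [← e1]; simp [mul_assoc]
    rw [h5, show (d * a) * (d * a) = d ^ 2 * (a * a) by
      rw [sq, mul_assoc, ← mul_assoc a d a, ← e3.eq]; simp [mul_assoc]] at h6
    exact right_eq_mul.mp h6
  have hd1 : d = 1 := by
    have hco : Nat.Coprime 2 p :=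
      (Nat.coprime_primes Nat.prime_two Fact.out).mpr (fun h => hp2 h.symm)
    exact orderOf_eq_one_iff.mp (Nat.eq_one_of_dvd_coprimes hco
      (orderOf_dvd_of_pow_eq_one hd2) (orderOf_dvd_of_pow_eq_one hdp))
  apply hm
  rw [mem_subgroupOf]
  refine (memD _).mpr ⟨m.2, ?_⟩
  rw [hd1, one_mul] at e1
  exact mul_inv_eq_iff_eq_mul.mp e1

/-- The fixed points in the action on the cosets of a maximal subgroup. -/
theorem fixed_le_third_coatom [Finite G] [Group.IsSolvable G] {p : ℕ} [Fact p.Prime] (hp2 : p ≠ 2)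
    {x : G} (hx : x ^ p = 1) (hgen : normalClosure ({x} : Set G) = ⊤) (H : Subgroup G)
    (hH : IsCoatom H) : 3 * Nat.card {q : G ⧸ H // x • q = q} ≤ H.index := by
  classical
  obtain ⟨M, hMn, hMH, hMc⟩ := exists_abelian_layer H hH.1
  set K := H.normalCore
  rcases isEmpty_or_nonempty {q : G ⧸ H // x • q = q} with he | ⟨⟨q0, hq0⟩⟩
  · rw [Nat.card_of_isEmpty]; exact Nat.zero_le _
  obtain ⟨g0, rfl⟩ := QuotientGroup.mk_surjective q0
  set y := g0⁻¹ * x * g0 with hydef
  have hyH : y ∈ H := by
    rw [MulAction.Quotient.smul_mk, eq_comm, QuotientGroup.eq] at hq0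
    simpa [hydef, smul_eq_mul, mul_assoc] using hq0
  have hyp : y ^ p = 1 := by
    have := conj_pow (i := p) (a := g0⁻¹) (b := x)
    simp only [inv_inv] at this
    rw [hydef, this, hx]
    simp
  have hsup : H ⊔ M = ⊤ := hH.2 _ (left_lt_sup.mpr hMH)
  have hinf : M ⊓ H ≤ K := by
    have : (M ⊓ H).Normal := by
      rw [← normalizer_eq_top_iff, eq_top_iff, ← hsup]
      refine sup_le (fun h hh => ?_) (fun m hm => ?_)
      · rw [mem_normalizer_iff]
        intro z
        simp only [mem_inf]
        constructor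
        · exact fun ⟨a, b⟩ => ⟨hMn.conj_mem _ a _, H.mul_mem (H.mul_mem hh b) (H.inv_mem hh)⟩
        · rintro ⟨a, b⟩
          refine ⟨?_, ?_⟩
          · simpa [mul_assoc] using hMn.conj_mem _ a h⁻¹
          · simpa [mul_assoc] using H.mul_mem (H.mul_mem (H.inv_mem hh) b) hh
      · have key : ∀ m ∈ M, ∀ z ∈ M ⊓ H, m * z * m⁻¹ ∈ M ⊓ H := by
          intro m hm z hz
          have hc : ⁅m, z⁆ ∈ H := normalCore_le H (hMc (commutator_mem_commutator hm hz.1))
          refine ⟨hMn.conj_mem _ hz.1 _, ?_⟩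
          simpa [commutatorElement_def] using H.mul_mem hc hz.2
        rw [mem_normalizer_iff]
        intro z
        refine ⟨fun hz => key m hm z hz, fun hz => ?_⟩
        simpa [mul_assoc] using key m⁻¹ (M.inv_mem hm) _ hz
    exact normal_le_normalCore.mpr inf_le_right
  set π := QuotientGroup.mk' K
  have hab : ∀ a ∈ M, ∀ b ∈ M, Commute (π a) (π b) := by
    intro a ha b hb
    refine commutatorElement_eq_one_iff_commute.mp ?_
    rw [← map_commutatorElement]
    exact (QuotientGroup.eq_one_iff _).mpr (hMc (commutator_mem_commutator ha hb))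
  set D := M ⊓ (centralizer ({π y} : Set (G ⧸ K))).comap π with hDdef
  have hKD : M ⊓ H ≤ D := fun z hz => by
    refine mem_inf.mpr ⟨hz.1, mem_comap.mpr ?_⟩
    rw [show π z = 1 from (QuotientGroup.eq_one_iff _).mpr (hinf hz)]
    exact one_mem _
  have hD1 : D.relIndex M ≠ 1 := by
    intro h1
    rw [relIndex_eq_one] at h1
    set C := (centralizer ((M.map π : Subgroup _) : Set (G ⧸ K))).comap π
    have : (M.map π).Normal := hMn.map π (QuotientGroup.mk'_surjective K)
    have : C.Normal := Normal.comap inferInstance π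
    have hyC : y ∈ C := by
      refine mem_comap.mpr (mem_centralizer_iff.mpr ?_)
      rintro _ ⟨m, hm, rfl⟩
      exact mem_centralizer_singleton_iff.mp (mem_comap.mp (h1 hm).2)
    have hCtop : C = ⊤ := by
      have hxC : x ∈ C := by
        have := ‹C.Normal›.conj_mem _ hyC g0
        simpa [hydef, mul_assoc] using this
      exact top_le_iff.mp (hgen ▸ normalClosure_le_normal (Set.singleton_subset_iff.mpr hxC))
    have hHn : H.Normal := by
      rw [← normalizer_eq_top_iff, eq_top_iff, ← hsup]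
      refine sup_le le_normalizer (fun m hm => ?_)
      have key : ∀ m ∈ M, ∀ h ∈ H, m * h * m⁻¹ ∈ H := by
        intro m hm h hh
        have hh' : h ∈ C := hCtop ▸ mem_top h
        have hc : π m * π h = π h * π m :=
          mem_centralizer_iff.mp (mem_comap.mp hh') _ ⟨m, hm, rfl⟩
        have : ⁅m, h⁆ ∈ K := by
          rw [← QuotientGroup.eq_one_iff]
          show π ⁅m, h⁆ = 1
          rw [map_commutatorElement]
          exact commutatorElement_eq_one_iff_mul_comm.mpr hc
        simpa [commutatorElement_def] using H.mul_mem (normalCore_le H this) hh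
      rw [mem_normalizer_iff]
      intro z
      exact ⟨fun hz => key m hm z hz,
        fun hz => by simpa [mul_assoc] using key m⁻¹ (M.inv_mem hm) _ hz⟩
    have hxH : x ∈ H := by
      have := hHn.conj_mem _ hyH g0
      simpa [hydef, mul_assoc] using this
    exact hH.1 (top_le_iff.mp (hgen ▸ normalClosure_le_normal (Set.singleton_subset_iff.mpr hxH)))
  have hD0 : D.relIndex M ≠ 0 := index_ne_zero_of_finite
  have hD3 : 3 ≤ D.relIndex M := by
    have h' : D.relIndex M ≠ 2 := ne_two_of_moved hp2 π M hab hyp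
    omega
  -- fixed points are covered by `D`
  have hrep : ∀ g : G, ∃ m ∈ M, (m : G ⧸ H) = (g : G ⧸ H) := by
    intro g
    have hg : g ∈ M ⊔ H := by rw [sup_comm, hsup]; exact mem_top g
    obtain ⟨m, hm, h, hh, rfl⟩ := mem_sup_of_normal_left.mp hg
    exact ⟨m, hm, QuotientGroup.eq.mpr (by simpa [mul_assoc] using hh)⟩
  let f : ↥D ⧸ H.subgroupOf D → {q : G ⧸ H // x • q = q} → Prop := fun d q =>
    ∀ e : D, (e : ↥D ⧸ H.subgroupOf D) = d → ((g0 * (e : G) : G) : G ⧸ H) = q.1
  have hsurj : ∀ q : {q : G ⧸ H // x • q = q}, ∃ d, f d q := by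
    rintro ⟨q, hq⟩
    obtain ⟨g, rfl⟩ := QuotientGroup.mk_surjective q
    obtain ⟨m, hm, hmg⟩ := hrep (g0⁻¹ * g)
    rw [MulAction.Quotient.smul_mk, eq_comm, QuotientGroup.eq, smul_eq_mul] at hq
    rw [QuotientGroup.eq] at hmg
    have hmy : m⁻¹ * y * m ∈ H := by
      have h1 := H.mul_mem (H.mul_mem hmg hq) (H.inv_mem hmg)
      simpa [hydef, mul_assoc] using h1
    have hmD : m ∈ D := by
      refine mem_inf.mpr ⟨hm, mem_comap.mpr (mem_centralizer_singleton_iff.mpr ?_)⟩
      have hK : y⁻¹ * m⁻¹ * y * m ∈ K := by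
        refine hinf ⟨?_, ?_⟩
        · simpa [mul_assoc] using M.mul_mem (hMn.conj_mem _ (M.inv_mem hm) y⁻¹) hm
        · simpa [mul_assoc] using H.mul_mem (H.inv_mem hyH) hmy
      have h2 : π (y⁻¹ * m⁻¹ * y * m) = 1 := (QuotientGroup.eq_one_iff _).mpr hK
      simp only [map_mul, map_inv] at h2
      have h4 : π y * π m = π m * π y := by
        calc π y * π m = π m * π y * ((π y)⁻¹ * (π m)⁻¹ * π y * π m) := by simp [mul_assoc]
          _ = π m * π y := by rw [h2, mul_one]
      exact h4.symm
    refine ⟨((⟨m, hmD⟩ : D) : ↥D ⧸ H.subgroupOf D), fun e he => ?_⟩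
    rw [QuotientGroup.eq, mem_subgroupOf] at he
    show ((g0 * (e : G) : G) : G ⧸ H) = (g : G ⧸ H)
    refine QuotientGroup.eq.mpr ?_
    have h3 := H.mul_mem he hmg
    simpa [mul_assoc] using h3
  choose F hF using hsurj
  have hinj : Function.Injective F := by
    intro q q' h
    obtain ⟨e, he⟩ := QuotientGroup.mk_surjective (F q)
    exact Subtype.ext ((hF q e he).symm.trans (hF q' e (he.trans h)))
  have h1 : Nat.card {q : G ⧸ H // x • q = q} ≤ H.relIndex D := Nat.card_le_card_of_injective F hinj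
  have h2 : H.relIndex D * D.relIndex M = H.relIndex M := by
    rw [← inf_relIndex_right H D, ← inf_relIndex_right H M,
      show H ⊓ D = M ⊓ H from le_antisymm (le_inf (inf_le_right.trans inf_le_left) inf_le_left)
        (le_inf inf_le_right hKD), inf_comm H M]
    exact relIndex_mul_relIndex _ _ _ hKD inf_le_left
  have h3 : H.relIndex M ≤ H.index := by
    rw [← relIndex_top_right]
    exact relIndex_le_of_le_right le_top (by simp [index_ne_zero_of_finite])
  calc 3 * Nat.card {q : G ⧸ H // x • q = q} ≤ D.relIndex M * H.relIndex D :=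
        Nat.mul_le_mul hD3 h1
    _ = H.relIndex M := by rw [mul_comm, h2]
    _ ≤ H.index := h3

/-- An element of odd prime order generating the solvable group `G` as a normal subgroup fixes at most a third
of the cosets of any proper subgroup. -/
theorem fixed_le_third [Finite G] [Group.IsSolvable G] {p : ℕ} [Fact p.Prime] (hp2 : p ≠ 2)
    {x : G} (hx : x ^ p = 1) (hgen : normalClosure ({x} : Set G) = ⊤) (S : Subgroup G) (hS : S ≠ ⊤) :
    3 * Nat.card {q : G ⧸ S // x • q = q} ≤ S.index := by
  have : Finite (Subgroup G) := Finite.of_injective _ SetLike.coe_injective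
  obtain ⟨H, hH, hSH⟩ := (eq_top_or_exists_le_coatom S).resolve_left hS
  let e := Subgroup.quotientEquivProdOfLE hSH
  have hfst : ∀ g : G, (e (g : G ⧸ S)).1 = (g : G ⧸ H) := fun g => rfl
  let φ : {q : G ⧸ S // x • q = q} → {q : G ⧸ H // x • q = q} × (↥H ⧸ S.subgroupOf H) :=
    fun q => (⟨(e q.1).1, by
      obtain ⟨g, hg⟩ := QuotientGroup.mk_surjective q.1
      have h := q.2
      rw [← hg, MulAction.Quotient.smul_mk] at h
      rw [← hg, hfst, MulAction.Quotient.smul_mk, ← hfst (x • g), h, hfst]⟩, (e q.1).2)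
  have hφ : Function.Injective φ := fun q q' h => by
    refine Subtype.ext (e.injective (Prod.ext ?_ ?_))
    · exact congrArg (fun z => z.1.1) h
    · exact congrArg (fun z => z.2) h
  have h1 := Nat.card_le_card_of_injective φ hφ
  rw [Nat.card_prod] at h1
  calc 3 * Nat.card {q : G ⧸ S // x • q = q}
      ≤ 3 * Nat.card {q : G ⧸ H // x • q = q} * Nat.card (↥H ⧸ S.subgroupOf H) := by
        rw [mul_assoc]; exact Nat.mul_le_mul_left 3 h1
    _ ≤ H.index * S.relIndex H := Nat.mul_le_mul_right _ (fixed_le_third_coatom hp2 hx hgen H hH)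
    _ = S.index := by rw [mul_comm, relIndex_mul_index hSH]

end CfsgLib.FGS
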