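/-
Fixed vectors of an operator permuting the summands of a decomposition, and independence of simultaneous
eigenspaces.
-/
import Mathlib.LinearAlgebra.Eigenspace.Pi
import Mathlib.LinearAlgebra.FiniteDimensional.Lemmas
import Mathlib.LinearAlgebra.Dimension.Constructions
import Mathlib.GroupTheory.Perm.Cycle.Basic
import Mathlib.Dynamics.PeriodicPts.Lemmas

set_option autoImplicit false

namespace CfsgLib.FGS

open Module

variable {K M : Type*} [Field K] [AddCommGroup M] [Module K M]

/-- Distinct systems of eigenvalues of commuting operators have independent eigenspaces. -/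
theorem iSupIndep_of_eigen {κ ι : Type*} (f : κ → Module.End K M) (hc : ∀ i j, Commute (f i) (f j))
    (χ : ι → κ → K) (hχ : Function.Injective χ) (W : ι → Submodule K M)
    (hW : ∀ j i, ∀ v ∈ W j, f i v = χ j i • v) : iSupIndep W := by
  have h := Module.End.independent_iInf_maxGenEigenspace_of_forall_mapsTo f
    (fun i j φ => Module.End.mapsTo_maxGenEigenspace_of_comm (hc j i) φ)
  refine (h.comp hχ).mono fun j => ?_
  refine le_iInf fun i v hv => ?_
  exact (Module.End.eigenspace_le_maxGenEigenspace) (Module.End.mem_eigenspace_iff.mpr (hW j i v hv))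

variable [FiniteDimensional K M] {ι : Type*} [Finite ι]

theorem finrank_of_decomposition (W : ι → Submodule K M) (hind : iSupIndep W) (htop : ⨆ i, W i = ⊤)
    (D : ℕ) (hD : ∀ i, finrank K (W i) = D) : finrank K M = Nat.card ι * D := by
  classical
  have := Fintype.ofFinite ι
  rw [← ((DFinsupp.linearEquivFunOnFintype (R := K)).symm.trans (hind.linearEquiv htop)).finrank_eq,
    Module.finrank_pi_fintype]
  simp [hD]

/-- An operator of order `p` on the index set: fixed vectors are determined by one component in each orbit. -/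
theorem mul_finrank_fixed_le {p : ℕ} (hp : p.Prime) (W : ι → Submodule K M) (hind : iSupIndep W)
    (htop : ⨆ i, W i = ⊤) (σ : Equiv.Perm ι) (hσ : σ ^ p = 1) (T : Module.End K M)
    (hT : ∀ i, ∀ v ∈ W i, T v ∈ W (σ i)) (D : ℕ) (hD : ∀ i, finrank K (W i) = D) :
    p * finrank K (LinearMap.ker (T - 1)) ≤
      (Nat.card ι + (p - 1) * Nat.card {i // σ i = i}) * D := by
  classical
  have := Fintype.ofFinite ι
  let e := hind.linearEquiv htop
  let comp : ι → M →ₗ[K] M := fun i =>
    (W i).subtype ∘ₗ (DFinsupp.lapply i) ∘ₗ e.symm.toLinearMap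
  have hcomp : ∀ i j, ∀ v ∈ W j, comp i v = if j = i then v else 0 := by
    intro i j v hv
    simp only [comp, LinearMap.comp_apply, LinearEquiv.coe_coe, DFinsupp.lapply_apply,
      Submodule.subtype_apply, e, iSupIndep.linearEquiv_symm_apply hind htop hv]
    rcases eq_or_ne j i with rfl | hne
    · simp
    · simp [DFinsupp.single_eq_of_ne hne.symm, hne]
  have hcomm : ∀ i v, comp (σ i) (T v) = T (comp i v) := by
    intro i v
    have hv : v ∈ ⨆ j, W j := htop ▸ Submodule.mem_top
    induction hv using Submodule.iSup_induction' with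
    | mem j w hw =>
      rw [hcomp _ _ _ (hT j w hw), hcomp _ _ _ hw]
      by_cases hji : j = i <;> simp [hji]
    | zero => simp
    | add a b _ _ iha ihb => simp [iha, ihb]
  have hzero : ∀ v, (∀ i, comp i v = 0) → v = 0 := by
    intro v hv
    apply e.symm.injective
    rw [map_zero]
    exact DFinsupp.ext fun i => Subtype.ext (hv i)
  let S := Set.range (Quotient.out : Quotient (Equiv.Perm.SameCycle.setoid σ) → ι)
  have hS : ∀ i, ∃ s : S, σ.SameCycle s.1 i := fun i =>
    ⟨⟨_, ⟨Quotient.mk (Equiv.Perm.SameCycle.setoid σ) i, rfl⟩⟩,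
      Quotient.mk_out (s := Equiv.Perm.SameCycle.setoid σ) i⟩
  let Φ : LinearMap.ker (T - 1) →ₗ[K] (∀ s : S, W s.1) := LinearMap.pi fun s =>
    ((DFinsupp.lapply s.1) ∘ₗ e.symm.toLinearMap) ∘ₗ (LinearMap.ker (T - 1)).subtype
  have hΦ : Function.Injective Φ := by
    rw [← LinearMap.ker_eq_bot, Submodule.eq_bot_iff]
    rintro ⟨v, hv⟩ h0
    rw [LinearMap.mem_ker] at hv h0
    have hTv : T v = v := by simpa [sub_eq_zero] using hv
    refine Subtype.ext (hzero v fun i => ?_)
    obtain ⟨s, hs⟩ := hS i
    obtain ⟨n, hn⟩ := hs.exists_nat_pow_eq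
    have key : ∀ n : ℕ, comp ((σ ^ n) s.1) v = 0 := by
      intro n
      induction n with
      | zero =>
        show ((e.symm v) s.1 : M) = 0
        exact congrArg Subtype.val (congrFun h0 s)
      | succ n ih =>
        rw [pow_succ', Equiv.Perm.mul_apply]
        have := hcomm ((σ ^ n) s.1) v
        rw [hTv, ih, map_zero] at this
        exact this
    rw [← hn]
    exact key n
  have h1 := LinearMap.finrank_le_finrank_of_injective hΦ
  rw [Module.finrank_pi_fintype] at h1
  simp only [hD, Finset.sum_const, smul_eq_mul, Finset.card_univ] at h1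
  rw [← Nat.card_eq_fintype_card] at h1
  have hcount : p * Nat.card S ≤ Nat.card ι + (p - 1) * Nat.card {i // σ i = i} := by
    let ψ : S × Fin p → ι ⊕ ({i // σ i = i} × Fin (p - 1)) := fun x =>
      if h : σ x.1.1 = x.1.1 then
        (if h2 : x.2.1 = 0 then Sum.inl x.1.1
          else Sum.inr (⟨x.1.1, h⟩, ⟨x.2.1 - 1, by have := x.2.2; omega⟩))
      else Sum.inl ((σ ^ x.2.1) x.1.1)
    have hsame : ∀ s s' : S, σ.SameCycle s.1 s'.1 → s = s' := by
      rintro ⟨_, a, rfl⟩ ⟨_, b, rfl⟩ h
      have : a = b := by
        rw [← Quotient.out_eq a, ← Quotient.out_eq b]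
        exact Quotient.sound h
      subst this
      rfl
    have hfix : ∀ (s : ι) (n : ℕ), σ s = s → (σ ^ n) s = s := fun s n h => by
      induction n with
      | zero => rfl
      | succ n ih => rw [pow_succ, Equiv.Perm.mul_apply, h, ih]
    have hψ : Function.Injective ψ := by
      rintro ⟨s, a⟩ ⟨s', b⟩ h
      dsimp only [ψ] at h
      by_cases hs : σ s.1 = s.1 <;> by_cases hs' : σ s'.1 = s'.1
      · rw [dif_pos hs, dif_pos hs'] at h
        rcases Decidable.em (a.1 = 0) with ha | ha <;> rcases Decidable.em (b.1 = 0) with hb | hb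
        · rw [dif_pos ha, dif_pos hb, Sum.inl.injEq] at h
          exact Prod.ext (Subtype.ext h) (Fin.ext (ha.trans hb.symm))
        · rw [dif_pos ha, dif_neg hb] at h; exact absurd h (by simp)
        · rw [dif_neg ha, dif_pos hb] at h; exact absurd h (by simp)
        · rw [dif_neg ha, dif_neg hb, Sum.inr.injEq, Prod.mk.injEq, Subtype.mk.injEq, Fin.mk.injEq] at h
          obtain ⟨h1, h2⟩ := h
          exact Prod.ext (Subtype.ext h1) (Fin.ext (show a.1 = b.1 by omega))
      · rw [dif_pos hs, dif_neg hs'] at h
        by_cases ha : a.1 = 0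
        · rw [dif_pos ha] at h
          have h' := hsame s s' (by
            rw [Sum.inl.injEq] at h
            rw [h]
            exact Equiv.Perm.sameCycle_pow_left.mpr (Equiv.Perm.SameCycle.refl σ _))
          exact absurd (h' ▸ hs) hs'
        · rw [dif_neg ha] at h; exact absurd h (by simp)
      · rw [dif_neg hs, dif_pos hs'] at h
        by_cases hb : b.1 = 0
        · rw [dif_pos hb] at h
          have h' := hsame s' s (by
            rw [Sum.inl.injEq] at h
            rw [← h]
            exact Equiv.Perm.sameCycle_pow_left.mpr (Equiv.Perm.SameCycle.refl σ _))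
          exact absurd (h' ▸ hs') hs
        · rw [dif_neg hb] at h; exact absurd h (by simp)
      · rw [dif_neg hs, dif_neg hs', Sum.inl.injEq] at h
        have h' : s = s' := hsame s s' (by
          have h0 : σ.SameCycle ((σ ^ a.1) s.1) ((σ ^ b.1) s'.1) := by rw [h]
          exact Equiv.Perm.sameCycle_pow_right.mp (Equiv.Perm.sameCycle_pow_left.mp h0))
        subst h'
        have hper : Function.IsPeriodicPt σ p s.1 := by
          show σ^[p] s.1 = s.1
          rw [← Equiv.Perm.coe_pow, hσ]; rfl
        have hmp : Function.minimalPeriod σ s.1 = p := by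
          rcases hp.eq_one_or_self_of_dvd _ hper.minimalPeriod_dvd with h1 | h1
          · exact absurd (Function.minimalPeriod_eq_one_iff_isFixedPt.mp h1) hs
          · exact h1
        have := Function.iterate_injOn_Iio_minimalPeriod (f := σ) (x := s.1)
          (show a.1 ∈ Set.Iio _ by rw [hmp]; exact a.2)
          (show b.1 ∈ Set.Iio _ by rw [hmp]; exact b.2)
          (by simpa only [← Equiv.Perm.coe_pow] using h)
        exact Prod.ext rfl (Fin.ext this)
    have h2 := Nat.card_le_card_of_injective ψ hψ
    simp only [Nat.card_prod, Nat.card_sum, Nat.card_fin] at h2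
    rw [mul_comm p, mul_comm (p - 1)]
    exact h2
  calc p * finrank K (LinearMap.ker (T - 1)) ≤ p * (Nat.card S * D) := Nat.mul_le_mul_left p h1
    _ = (p * Nat.card S) * D := (mul_assoc _ _ _).symm
    _ ≤ _ := Nat.mul_le_mul_right D hcount

end CfsgLib.FGS
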