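/-
Flavell's bound: in a faithful irreducible representation, over an algebraically closed field, of a finite
solvable group generated by the conjugates of an element of prime order `p ≥ 5`, that element fixes less than
half of the space.
-/
import Cfsg.Agent.FGS.FixedThird
import Cfsg.Agent.FGS.OrbitFixed
import Cfsg.Agent.FGS.FixedHalfStable
import Mathlib.FieldTheory.IsAlgClosed.Basic
import Mathlib.LinearAlgebra.Eigenspace.Triangularizable
import Mathlib.Algebra.CharP.Lemmas

set_option autoImplicit false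

namespace CfsgLib.FGS

open Module Subgroup
open scoped commutatorElement

variable {G : Type*} [Group G] {K V : Type*} [Field K] [AddCommGroup V] [Module K V]

theorem rho_mul_inv (ρ : G →* Module.End K V) (g : G) : ρ g * ρ g⁻¹ = 1 := by
  rw [← map_mul, mul_inv_cancel, map_one]

theorem rho_inv_mul (ρ : G →* Module.End K V) (g : G) : ρ g⁻¹ * ρ g = 1 := by
  rw [← map_mul, inv_mul_cancel, map_one]

theorem rho_injective_fun (ρ : G →* Module.End K V) (g : G) : Function.Injective (ρ g) := by
  refine Function.LeftInverse.injective (g := ρ g⁻¹) fun v => ?_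
  exact congrArg (fun f : Module.End K V => f v) (rho_inv_mul ρ g)

/-- Schur's lemma over an algebraically closed field. -/
theorem exists_scalar [IsAlgClosed K] [FiniteDimensional K V] [Nontrivial V] (ρ : G →* Module.End K V)
    (hirr : ∀ W : Submodule K V, (∀ g, ∀ v ∈ W, ρ g v ∈ W) → W = ⊥ ∨ W = ⊤) (f : Module.End K V)
    (hf : ∀ g, Commute f (ρ g)) : ∃ a : K, f = a • (1 : Module.End K V) := by
  obtain ⟨a, ha⟩ := Module.End.exists_eigenvalue f
  refine ⟨a, LinearMap.ext fun v => ?_⟩
  have htop : f.eigenspace a = ⊤ := by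
    refine (hirr _ fun g w hw => ?_).resolve_left ha
    rw [Module.End.mem_eigenspace_iff] at hw ⊢
    have := congrArg (fun T : Module.End K V => T w) (hf g).eq
    simp only [Module.End.mul_apply] at this
    rw [this, hw, map_smul]
  exact Module.End.mem_eigenspace_iff.mp (htop ▸ Submodule.mem_top : v ∈ f.eigenspace a)

theorem smul_one_inj [Nontrivial V] {a b : K} (h : a • (1 : Module.End K V) = b • 1) : a = b :=
  smul_left_injective K (one_ne_zero : (1 : Module.End K V) ≠ 0) h

/-- A finite family of commuting operators on a non-zero space has a common eigenvector. -/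
theorem exists_common_eigenvector [IsAlgClosed K] [FiniteDimensional K V] [Nontrivial V] {κ : Type*}
    (f : κ → Module.End K V) (hc : ∀ i j, Commute (f i) (f j)) :
    ∃ χ : κ → K, ∃ v : V, v ≠ 0 ∧ ∀ i, f i v = χ i • v := by
  let S : Set (Submodule K V) := {W | W ≠ ⊥ ∧ ∀ i, ∀ v ∈ W, f i v ∈ W}
  obtain ⟨W, ⟨hW0, hWi⟩, hmin⟩ := (wellFounded_lt (α := Submodule K V)).has_min S
    ⟨⊤, top_ne_bot, fun _ _ _ => Submodule.mem_top⟩
  have : Nontrivial W := Submodule.nontrivial_iff_ne_bot.mpr hW0
  have key : ∀ i, ∃ a : K, ∀ v ∈ W, f i v = a • v := by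
    intro i
    obtain ⟨a, ha⟩ := Module.End.exists_eigenvalue (LinearMap.restrict (f i) (hWi i))
    obtain ⟨w, hw, hw0⟩ := Submodule.exists_mem_ne_zero_of_ne_bot ha
    rw [Module.End.mem_eigenspace_iff] at hw
    refine ⟨a, fun v hv => ?_⟩
    set U := W ⊓ (f i).eigenspace a
    have hU : U ∈ S := by
      refine ⟨fun h => hw0 (Subtype.ext ?_), fun j u hu => ⟨hWi j u hu.1, ?_⟩⟩
      · have : (w : V) ∈ U :=
          ⟨w.2, Module.End.mem_eigenspace_iff.mpr (congrArg Subtype.val hw)⟩
        simpa [h] using this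
      · have h2 := Module.End.mem_eigenspace_iff.mp hu.2
        show f j u ∈ (f i).eigenspace a
        rw [Module.End.mem_eigenspace_iff]
        have := congrArg (fun T : Module.End K V => T u) (hc i j).eq
        simp only [Module.End.mul_apply] at this
        rw [this, h2, map_smul]
    have : U = W := (inf_le_left.lt_or_eq).resolve_left (fun h => hmin U hU h)
    rw [← this] at hv
    exact Module.End.mem_eigenspace_iff.mp hv.2
  choose χ hχ using key
  obtain ⟨v, hv, hv0⟩ := Submodule.exists_mem_ne_zero_of_ne_bot hW0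
  exact ⟨χ, v, hv0, fun i => hχ i v hv⟩

/-- The arithmetic of the abelian case. -/
theorem lt_of_third {p m F c D : ℕ} (hp : 5 ≤ p) (hF : 3 * F ≤ m) (hD : 0 < D) (hm : 0 < m)
    (h : p * c ≤ (m + (p - 1) * F) * D) : 2 * c < m * D := by
  by_contra hcon
  push Not at hcon
  obtain ⟨q, rfl⟩ : ∃ q, p = q + 5 := ⟨p - 5, by omega⟩
  rw [show q + 5 - 1 = q + 4 by omega] at h
  have h1 : (q + 5) * (m * D) ≤ (q + 5) * (2 * c) := Nat.mul_le_mul_left _ hcon
  have h2 : (q + 5) * m * D ≤ (2 * m + 2 * (q + 4) * F) * D := by nlinarith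
  have h3 : (q + 5) * m ≤ 2 * m + 2 * (q + 4) * F := Nat.le_of_mul_le_mul_right h2 hD
  nlinarith [Nat.mul_le_mul_left (2 * (q + 4)) hF]

theorem perm_pow_prime_eq_one {ι : Type*} [MulAction G ι] {p : ℕ} {x : G} (hx : x ^ p = 1) :
    (MulAction.toPerm x : Equiv.Perm ι) ^ p = 1 := by
  rw [show (MulAction.toPerm x : Equiv.Perm ι) = MulAction.toPermHom G ι x from rfl, ← map_pow, hx,
    map_one]

/-- The case of an abelian non-central normal subgroup. -/
theorem fixed_lt_half_abelian [Finite G] [IsAlgClosed K] [FiniteDimensional K V] [Nontrivial V]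
    [Group.IsSolvable G] {p : ℕ} [Fact p.Prime] (hp : 3 < p) (ρ : G →* Module.End K V)
    (hinj : Function.Injective ρ)
    (hirr : ∀ W : Submodule K V, (∀ g, ∀ v ∈ W, ρ g v ∈ W) → W = ⊥ ∨ W = ⊤) {x : G}
    (hx : x ^ p = 1) (hgen : normalClosure ({x} : Set G) = ⊤) (R : Subgroup G) (hRn : R.Normal)
    (hRnc : ¬ R ≤ center G) (hab : ∀ a ∈ R, ∀ b ∈ R, a * b = b * a) :
    2 * finrank K (LinearMap.ker (ρ x - 1)) < finrank K V := by
  classical
  have hp5 : 5 ≤ p := by
    by_contra hh
    have : p = 4 := by omega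
    exact absurd (this ▸ (Fact.out : p.Prime)) (by norm_num)
  let f : R → Module.End K V := fun u => ρ (u : G)
  have hc : ∀ u v : R, Commute (f u) (f v) := fun u v => by
    show ρ u * ρ v = ρ v * ρ u
    rw [← map_mul, hab _ u.2 _ v.2, map_mul]
  obtain ⟨χ₀, v₀, hv₀, hχ₀⟩ := exists_common_eigenvector f hc
  set V₀ : Submodule K V := ⨅ u : R, (f u).eigenspace (χ₀ u)
  have memV₀ : ∀ v, v ∈ V₀ ↔ ∀ u : R, ρ u v = χ₀ u • v := fun v => by
    simp [V₀, f, Submodule.mem_iInf]
  have hV₀ : V₀ ≠ ⊥ := fun h => hv₀ (by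
    have : v₀ ∈ V₀ := (memV₀ _).mpr hχ₀
    simpa [h] using this)
  let S : Subgroup G :=
    { carrier := {g | V₀.map (ρ g) = V₀}
      mul_mem' := fun {a b} ha hb => by
        show V₀.map (ρ (a * b)) = V₀
        rw [map_mul, show (ρ a * ρ b : Module.End K V) = (ρ a).comp (ρ b) from rfl, Submodule.map_comp,
          hb, ha]
      one_mem' := by
        show V₀.map (ρ 1) = V₀
        rw [map_one]; exact Submodule.map_id _
      inv_mem' := fun {a} ha => by
        show V₀.map (ρ a⁻¹) = V₀
        conv_lhs => rw [← (show V₀.map (ρ a) = V₀ from ha), ← Submodule.map_comp]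
        rw [show (ρ a⁻¹).comp (ρ a) = ρ a⁻¹ * ρ a from rfl, rho_inv_mul]
        exact Submodule.map_id _ }
  have hW : ∀ g h : G, (g : G ⧸ S) = (h : G ⧸ S) → V₀.map (ρ g) = V₀.map (ρ h) := by
    intro g h he
    have hs : V₀.map (ρ (g⁻¹ * h)) = V₀ := QuotientGroup.eq.mp he
    conv_lhs => rw [← hs]
    rw [← Submodule.map_comp, show (ρ g).comp (ρ (g⁻¹ * h)) = ρ g * ρ (g⁻¹ * h) from rfl, ← map_mul,
      mul_inv_cancel_left]
  let W : G ⧸ S → Submodule K V := fun q => V₀.map (ρ q.out)
  have hWmk : ∀ g : G, W (g : G ⧸ S) = V₀.map (ρ g) := fun g => hW _ _ (QuotientGroup.out_eq' _)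
  let χ : G ⧸ S → R → K := fun q u => χ₀ ⟨q.out⁻¹ * (u : G) * q.out, by
    simpa using hRn.conj_mem _ u.2 q.out⁻¹⟩
  have hWeig : ∀ q v, v ∈ W q ↔ ∀ u : R, ρ u v = χ q u • v := by
    intro q v
    constructor
    · rintro ⟨w, hw, rfl⟩ u
      have h1 := (memV₀ w).mp hw ⟨q.out⁻¹ * (u : G) * q.out, by simpa using hRn.conj_mem _ u.2 q.out⁻¹⟩
      have h2 : ρ (u : G) * ρ q.out = ρ q.out * ρ (q.out⁻¹ * (u : G) * q.out) := by
        rw [← map_mul, ← map_mul, mul_assoc q.out⁻¹, mul_inv_cancel_left]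
      have h3 := congrArg (fun T : Module.End K V => T w) h2
      simp only [Module.End.mul_apply] at h3
      rw [h3, h1, map_smul]
    · intro h
      refine ⟨ρ q.out⁻¹ v, (memV₀ _).mpr fun u => ?_, ?_⟩
      · have hu : q.out * (u : G) * q.out⁻¹ ∈ R := hRn.conj_mem _ u.2 _
        have h1 := h ⟨_, hu⟩
        have h2 : ρ (u : G) * ρ q.out⁻¹ = ρ q.out⁻¹ * ρ (q.out * (u : G) * q.out⁻¹) := by
          rw [← map_mul, ← map_mul, mul_assoc q.out, inv_mul_cancel_left]
        have h3 := congrArg (fun T : Module.End K V => T v) h2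
        simp only [Module.End.mul_apply] at h3
        rw [h3, h1, map_smul]
        have harg : ∀ a b : R, (a : G) = (b : G) → χ₀ a = χ₀ b := fun a b hab' => by rw [Subtype.ext hab']
        congr 1
        exact harg _ _ (show q.out⁻¹ * (q.out * (u : G) * q.out⁻¹) * q.out = (u : G) by simp [mul_assoc])
      · exact congrArg (fun T : Module.End K V => T v) (rho_mul_inv ρ q.out)
  have hχinj : Function.Injective χ := by
    intro q q' he
    have h1 : W q = W q' := Submodule.ext fun v => by rw [hWeig, hWeig, he]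
    rw [← QuotientGroup.out_eq' q, ← QuotientGroup.out_eq' q', QuotientGroup.eq]
    show V₀.map (ρ (q.out⁻¹ * q'.out)) = V₀
    rw [map_mul, show ρ q.out⁻¹ * ρ q'.out = (ρ q.out⁻¹).comp (ρ q'.out) from rfl,
      Submodule.map_comp, show V₀.map (ρ q'.out) = W q' from rfl, ← h1, ← Submodule.map_comp,
      show (ρ q.out⁻¹).comp (ρ q.out) = ρ q.out⁻¹ * ρ q.out from rfl, rho_inv_mul]
    exact Submodule.map_id _
  have hind : iSupIndep W := iSupIndep_of_eigen f hc χ hχinj W fun q u v hv => (hWeig q v).mp hv u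
  have hperm : ∀ g q v, v ∈ W q → ρ g v ∈ W (g • q) := by
    intro g q v hv
    obtain ⟨w, hw, rfl⟩ := hv
    have he : ((g * q.out : G) : G ⧸ S) = g • q := by
      rw [← smul_eq_mul, ← MulAction.Quotient.smul_mk, QuotientGroup.out_eq']
    rw [← he, hWmk]
    refine ⟨w, hw, ?_⟩
    rw [map_mul, Module.End.mul_apply]
  have htop : ⨆ q, W q = ⊤ := by
    refine (hirr _ fun g v hv => ?_).resolve_left (fun h => hV₀ ?_)
    · induction hv using Submodule.iSup_induction' with
      | mem q w hw => exact Submodule.mem_iSup_of_mem _ (hperm g q w hw)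
      | zero => simp
      | add a b _ _ iha ihb => rw [map_add]; exact Submodule.add_mem _ iha ihb
    · rw [eq_bot_iff, ← h]
      intro w hw
      refine Submodule.mem_iSup_of_mem ((1 : G) : G ⧸ S) ?_
      rw [hWmk, map_one]
      exact ⟨w, hw, rfl⟩
  have hS : S ≠ ⊤ := by
    intro hSt
    apply hRnc
    have hinv : ∀ g, ∀ v ∈ V₀, ρ g v ∈ V₀ := fun g v hv => by
      have : V₀.map (ρ g) = V₀ := (hSt ▸ mem_top g : g ∈ S)
      rw [← this]; exact ⟨v, hv, rfl⟩
    have hV0top := (hirr _ hinv).resolve_left hV₀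
    intro u hu
    rw [mem_center_iff]
    intro g
    refine hinj ?_
    have hs : ρ u = χ₀ ⟨u, hu⟩ • (1 : Module.End K V) :=
      LinearMap.ext fun v => (memV₀ v).mp (hV0top ▸ Submodule.mem_top) ⟨u, hu⟩
    rw [map_mul, map_mul, hs, smul_mul_assoc, mul_smul_comm, one_mul, mul_one]
  set D := finrank K V₀
  have hD : ∀ q, finrank K (W q) = D := fun q =>
    (Submodule.equivMapOfInjective (ρ q.out) (rho_injective_fun ρ q.out) V₀).finrank_eq.symm
  have hc0 := mul_finrank_fixed_le (p := p) Fact.out W hind htop (MulAction.toPerm x)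
    (perm_pow_prime_eq_one hx) (ρ x) (fun q v hv => hperm x q v hv) D hD
  rw [finrank_of_decomposition W hind htop D hD]
  refine lt_of_third hp5 ?_ (Nat.pos_of_ne_zero fun h => hV₀ (Submodule.finrank_eq_zero.mp h))
    Nat.card_pos hc0
  exact (fixed_le_third (by omega) hx hgen S hS)

end CfsgLib.FGS
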