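/-
The non-abelian case of Flavell's bound: conjugation by a class two normal subgroup grades the endomorphism
ring, and an element permuting the grading fixes few endomorphisms.
-/
import Cfsg.Agent.FGS.FixedHalfClosed
import Mathlib.GroupTheory.Perm.Cycle.Type

set_option autoImplicit false

namespace CfsgLib.FGS

open Module Subgroup
open scoped commutatorElement

variable {G : Type*} [Group G] {K V : Type*} [Field K] [AddCommGroup V] [Module K V]

/-- Conjugation on the endomorphism ring. -/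
def conjEnd (ρ : G →* Module.End K V) : G →* Module.End K (Module.End K V) where
  toFun g := (LinearMap.mulLeft K (ρ g)).comp (LinearMap.mulRight K (ρ g⁻¹))
  map_one' := by ext F; simp
  map_mul' a b := by ext F; simp [mul_assoc]

theorem conjEnd_apply (ρ : G →* Module.End K V) (g : G) (F : Module.End K V) :
    conjEnd ρ g F = ρ g * F * ρ g⁻¹ := by
  simp [conjEnd, mul_assoc]

/-- An endomorphism that is not the identity has a centralizer of dimension above the square of the dimension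
of its fixed space. -/
theorem sq_finrank_fixed_lt [FiniteDimensional K V] (ρ : G →* Module.End K V) (x : G) (hx : ρ x ≠ 1) :
    finrank K (LinearMap.ker (ρ x - 1)) ^ 2 + 1 ≤ finrank K (LinearMap.ker (conjEnd ρ x - 1)) := by
  set C := LinearMap.ker (ρ x - 1)
  set Rg := LinearMap.range (ρ x - 1)
  have hC : ∀ v, v ∈ C ↔ ρ x v = v := fun v => by simp [C, sub_eq_zero]
  let L : ((V ⧸ Rg) →ₗ[K] C) →ₗ[K] Module.End K V :=
    { toFun := fun g => C.subtype ∘ₗ g ∘ₗ Rg.mkQ
      map_add' := fun g g' => by ext; simp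
      map_smul' := fun a g => by ext; simp }
  let Φ : ((V ⧸ Rg) →ₗ[K] C) × K →ₗ[K] Module.End K V :=
    L.coprod (LinearMap.toSpanSingleton K (Module.End K V) 1)
  have hmem : ∀ z, Φ z ∈ LinearMap.ker (conjEnd ρ x - 1) := by
    rintro ⟨g, a⟩
    rw [LinearMap.mem_ker, LinearMap.sub_apply, sub_eq_zero, Module.End.one_apply, conjEnd_apply]
    have key : ρ x * Φ (g, a) = Φ (g, a) * ρ x := by
      refine LinearMap.ext fun v => ?_
      have h1 : ρ x (g (Rg.mkQ v) : V) = (g (Rg.mkQ v) : V) := (hC _).mp (g (Rg.mkQ v)).2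
      have h2 : Rg.mkQ (ρ x v) = Rg.mkQ v := by
        rw [← sub_eq_zero, ← map_sub, Submodule.mkQ_apply, Submodule.Quotient.mk_eq_zero]
        exact ⟨v, by simp⟩
      simp only [Φ, L, LinearMap.coprod_apply, LinearMap.toSpanSingleton_apply, Module.End.mul_apply,
        LinearMap.add_apply, LinearMap.smul_apply, Module.End.one_apply, map_add, map_smul,
        LinearMap.coe_mk, AddHom.coe_mk, LinearMap.comp_apply, Submodule.subtype_apply]
      rw [h1, h2]
    rw [key, mul_assoc, rho_mul_inv, mul_one]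
  have hinj : Function.Injective (Φ.codRestrict _ hmem) := by
    rw [← LinearMap.ker_eq_bot, LinearMap.ker_codRestrict, Submodule.eq_bot_iff]
    rintro ⟨g, a⟩ h
    have hv : ∀ v, (g (Rg.mkQ v) : V) + a • v = 0 := fun v => by
      have := congrArg (fun T : Module.End K V => T v) (LinearMap.mem_ker.mp h)
      simpa [Φ, L] using this
    have ha : a = 0 := by
      by_contra ha
      refine hx (LinearMap.ext fun v => ?_)
      have h1 : a • v ∈ C := by
        rw [← neg_neg (a • v), ← eq_neg_of_add_eq_zero_left (hv v)]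
        exact C.neg_mem (g (Rg.mkQ v)).2
      simpa using (hC v).mp ((Submodule.smul_mem_iff C ha).mp h1)
    subst ha
    refine Prod.ext ?_ rfl
    refine Submodule.linearMap_qext _ (LinearMap.ext fun v => Subtype.ext ?_)
    simpa using hv v
  have h1 := LinearMap.finrank_le_finrank_of_injective hinj
  have h2 : finrank K (V ⧸ Rg) = finrank K C := by
    have := Submodule.finrank_quotient_add_finrank Rg
    have := LinearMap.finrank_range_add_finrank_ker (ρ x - 1)
    simp only [Rg, C] at *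
    omega
  rw [Module.finrank_prod, Module.finrank_linearMap, Module.finrank_self, h2, ← sq] at h1
  exact h1

/-- The arithmetic of the non-abelian case. -/
theorem lt_of_index {p m F i c d D : ℕ} (hp : 5 ≤ p) (hm : 0 < m) (hmi : m = F * i)
    (hi : 4 * (p - 1) ≤ (p - 4) * i) (hd : d ^ 2 = m * D)
    (h : p * (c ^ 2 + 1) ≤ (m + (p - 1) * F) * D) : 2 * c < d := by
  obtain ⟨q, rfl⟩ : ∃ q, p = q + 5 := ⟨p - 5, by omega⟩
  rw [show q + 5 - 1 = q + 4 by omega, show q + 5 - 4 = q + 1 by omega] at hi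
  rw [show q + 5 - 1 = q + 4 by omega] at h
  have h1 : 4 * (m + (q + 4) * F) ≤ (q + 5) * m := by nlinarith [Nat.mul_le_mul_left F hi]
  have h2 : (q + 5) * (4 * (c ^ 2 + 1)) ≤ (q + 5) * d ^ 2 := by
    calc (q + 5) * (4 * (c ^ 2 + 1)) = 4 * ((q + 5) * (c ^ 2 + 1)) := by ring
      _ ≤ 4 * ((m + (q + 4) * F) * D) := Nat.mul_le_mul_left 4 h
      _ = 4 * (m + (q + 4) * F) * D := (mul_assoc _ _ _).symm
      _ ≤ (q + 5) * m * D := Nat.mul_le_mul_right D h1
      _ = (q + 5) * d ^ 2 := by rw [hd, mul_assoc]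
  have h3 : 4 * (c ^ 2 + 1) ≤ d ^ 2 := Nat.le_of_mul_le_mul_left h2 (by omega)
  nlinarith

/-- Admissible indices of the centralizer of the element on the symplectic section. -/
theorem index_ok {p r F j : ℕ} [hr : Fact r.Prime] (hp : p.Prime) (hp5 : 5 ≤ p)
    (hj : 2 ≤ j) (hdvd : r ^ (j) * F ≡ F [MOD p]) (hF : F ∣ r ^ (j) * F) (hFp : ∃ k, F = r ^ k) :
    4 * (p - 1) ≤ (p - 4) * r ^ j := by
  have hrj : 4 ≤ r ^ j := le_trans (by norm_num) (le_trans (Nat.pow_le_pow_left hr.out.two_le 2)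
    (Nat.pow_le_pow_right hr.out.pos hj))
  rcases eq_or_ne r p with rfl | hne
  · have : r ^ 2 ≤ r ^ j := Nat.pow_le_pow_right hr.out.pos hj
    obtain ⟨q, rfl⟩ : ∃ q, r = q + 5 := ⟨r - 5, by omega⟩
    rw [show q + 5 - 1 = q + 4 by omega, show q + 5 - 4 = q + 1 by omega]
    nlinarith
  have hcop : Nat.Coprime p F := by
    obtain ⟨k, rfl⟩ := hFp
    exact Nat.Coprime.pow_right k ((Nat.coprime_primes hp hr.out).mpr (Ne.symm hne))
  have h1 : r ^ j ≡ 1 [MOD p] := by
    have : r ^ j * F ≡ 1 * F [MOD p] := by rwa [one_mul]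
    exact Nat.ModEq.cancel_right_of_coprime hcop this
  have h2 : p ∣ r ^ j - 1 := (Nat.modEq_iff_dvd' (by omega)).mp h1.symm
  have h3 : p + 1 ≤ r ^ j := by have := Nat.le_of_dvd (by omega) h2; omega
  by_cases hp11 : 8 ≤ p
  · obtain ⟨q, rfl⟩ : ∃ q, p = q + 8 := ⟨p - 8, by omega⟩
    rw [show q + 8 - 1 = q + 7 by omega, show q + 8 - 4 = q + 4 by omega]
    nlinarith
  interval_cases p
  · -- `p = 5`: `r ^ j` is neither `6` nor `11`
    by_contra hcon
    have hlt : r ^ j < 16 := by omega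
    have hcase : r ^ j = 6 ∨ r ^ j = 11 := by omega
    rcases hcase with h | h
    · have hr2 : r ∣ 6 := h ▸ dvd_pow_self r (by omega)
      have hr6 : r ≤ 6 := Nat.le_of_dvd (by norm_num) hr2
      have hrsq : r ^ 2 ∣ 6 := h ▸ pow_dvd_pow r hj
      have : r ^ 2 ≤ 6 := Nat.le_of_dvd (by norm_num) hrsq
      have : r = 2 := by nlinarith [hr.out.two_le]
      subst this
      norm_num at hrsq
    · have hrsq : r ^ 2 ∣ 11 := h ▸ pow_dvd_pow r hj
      rcases (Nat.dvd_prime (by norm_num : Nat.Prime 11)).mp hrsq with h' | h'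
      · nlinarith [hr.out.two_le]
      · rcases (by omega : r ≤ 3 ∨ 4 ≤ r) with hr3 | hr3
        · interval_cases r <;> omega
        · nlinarith
  · exact absurd hp (by norm_num)
  · omega

/-- The case of a non-abelian minimal non-central normal subgroup. -/
theorem fixed_lt_half_nonabelian [Finite G] [IsAlgClosed K] [FiniteDimensional K V] [Nontrivial V]
    [Group.IsSolvable G] {p : ℕ} [Fact p.Prime] (hp : 3 < p) (ρ : G →* Module.End K V)
    (hinj : Function.Injective ρ)
    (hirr : ∀ W : Submodule K V, (∀ g, ∀ v ∈ W, ρ g v ∈ W) → W = ⊥ ∨ W = ⊤) {x : G}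
    (hx : x ^ p = 1) (hx1 : x ≠ 1) (hgen : normalClosure ({x} : Set G) = ⊤) (R : Subgroup G)
    [hRn : R.Normal] (hRnc : ¬ R ≤ center G)
    (hmin : ∀ N : Subgroup G, N.Normal → N ≤ R → ¬ N ≤ center G → N = R)
    (hnab : ∃ a ∈ R, ∃ b ∈ R, a * b ≠ b * a) :
    2 * finrank K (LinearMap.ker (ρ x - 1)) < finrank K V := by
  classical
  have hp5 : 5 ≤ p := by
    by_contra hh
    have : p = 4 := by omega
    exact absurd (this ▸ (Fact.out : p.Prime)) (by norm_num)
  have hRne : R ≠ ⊥ := fun h => hRnc (h ▸ bot_le)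
  have hcomm : ∀ a ∈ R, ∀ b ∈ R, ⁅a, b⁆ ∈ center G := by
    intro a ha b hb
    by_contra hc
    exact (Group.IsSolvable.commutator_lt_of_ne_bot hRne).ne
      (hmin _ inferInstance (commutator_le_left R R) fun h => hc (h (commutator_mem_commutator ha hb)))
  have hsc : ∀ z ∈ center G, ∃ a : K, ρ z = a • (1 : Module.End K V) := fun z hz =>
    exists_scalar ρ hirr _ fun g => by
      show ρ z * ρ g = ρ g * ρ z
      rw [← map_mul, ← map_mul, mem_center_iff.mp hz g]
  choose sc hsc' using hsc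
  let ω : G → G → K := fun u v => if h : ⁅u, v⁆ ∈ center G then sc _ h else 0
  have hω : ∀ u ∈ R, ∀ v ∈ R, ρ u * ρ v = ω u v • (ρ v * ρ u) := by
    intro u hu v hv
    have hc := hcomm u hu v hv
    have he : u * v = ⁅u, v⁆ * (v * u) := by simp [commutatorElement_def, mul_assoc]
    simp only [ω, dif_pos hc]
    rw [← map_mul, he, map_mul, hsc' _ hc, smul_mul_assoc, one_mul, map_mul]
  have hcancel : ∀ (g : G) (a b : K), a • ρ g = b • ρ g → a = b := by
    intro g a b h
    have h2 := congrArg (fun T => T * ρ g⁻¹) h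
    simp only [smul_mul_assoc, rho_mul_inv] at h2
    exact smul_one_inj h2
  have hω_mul : ∀ u ∈ R, ∀ u' ∈ R, ∀ v ∈ R, ω (u * u') v = ω u v * ω u' v := by
    intro u hu u' hu' v hv
    apply hcancel (v * (u * u'))
    rw [map_mul ρ v (u * u'), ← hω _ (R.mul_mem hu hu') _ hv, map_mul, mul_assoc, hω u' hu' v hv,
      mul_smul_comm, ← mul_assoc, hω u hu v hv, smul_mul_assoc, smul_smul, mul_assoc (ρ v),
      ← map_mul, mul_comm (ω u' v)]
  have hω_comm : ∀ u ∈ R, ∀ v ∈ R, ω u v * ω v u = 1 := by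
    intro u hu v hv
    apply hcancel (u * v)
    rw [one_smul, map_mul, mul_smul, ← hω v hv u hu, ← hω u hu v hv]
  have hω_one : ∀ u ∈ R, ∀ v ∈ R, (ω u v = 1 ↔ u * v = v * u) := by
    intro u hu v hv
    constructor
    · intro h
      apply hinj
      rw [map_mul, map_mul, hω u hu v hv, h, one_smul]
    · intro h
      apply hcancel (v * u)
      rw [one_smul, map_mul, ← hω u hu v hv, ← map_mul, ← map_mul, h]
  have hω_ne : ∀ u ∈ R, ∀ v ∈ R, ω u v ≠ 0 := fun u hu v hv h => by
    have := hω_comm u hu v hv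
    rw [h, zero_mul] at this
    exact zero_ne_one this
  have hω_mul' : ∀ u ∈ R, ∀ v ∈ R, ∀ v' ∈ R, ω u (v * v') = ω u v * ω u v' := by
    intro u hu v hv v' hv'
    apply mul_right_cancel₀ (hω_ne _ (R.mul_mem hv hv') _ hu)
    rw [hω_comm u hu _ (R.mul_mem hv hv'), hω_mul v hv v' hv' u hu]
    calc (1 : K) = (ω u v * ω v u) * (ω u v' * ω v' u) := by
          rw [hω_comm u hu v hv, hω_comm u hu v' hv', mul_one]
      _ = _ := by ring
  have hω_conj : ∀ g : G, ∀ u ∈ R, ∀ v ∈ R, ω (g * u * g⁻¹) (g * v * g⁻¹) = ω u v := by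
    intro g u hu v hv
    apply hcancel ((g * v * g⁻¹) * (g * u * g⁻¹))
    rw [map_mul ρ (g * v * g⁻¹), ← hω _ (hRn.conj_mem _ hu g) _ (hRn.conj_mem _ hv g), ← map_mul,
      ← map_mul, show (g * u * g⁻¹) * (g * v * g⁻¹) = g * (u * v) * g⁻¹ by simp [mul_assoc],
      show (g * v * g⁻¹) * (g * u * g⁻¹) = g * (v * u) * g⁻¹ by simp [mul_assoc],
      map_mul, map_mul ρ g, map_mul ρ u, hω u hu v hv, ← map_mul ρ v, mul_smul_comm, smul_mul_assoc,
      ← map_mul, ← map_mul]
  set π := QuotientGroup.mk' (center G)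
  set Rb := R.map π
  have hRbn : Rb.Normal := hRn.map π (QuotientGroup.mk'_surjective _)
  have hπz : ∀ u u' : G, π u = π u' → u⁻¹ * u' ∈ center G := fun u u' h =>
    (QuotientGroup.eq_one_iff _).mp (show π (u⁻¹ * u') = 1 by rw [map_mul, map_inv, h, inv_mul_cancel])
  have hωπ : ∀ u ∈ R, ∀ u' ∈ R, ∀ v ∈ R, π u = π u' → ω u v = ω u' v := by
    intro u hu u' hu' v hv h
    have hz := hπz u u' h
    have hzR : u⁻¹ * u' ∈ R := R.mul_mem (R.inv_mem hu) hu'
    have hz1 : ω (u⁻¹ * u') v = 1 := (hω_one _ hzR _ hv).mpr ((mem_center_iff.mp hz v).symm)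
    have h2 := hω_mul u hu _ hzR v hv
    rw [mul_inv_cancel_left, hz1, mul_one] at h2
    exact h2.symm
  have hωπ' : ∀ u ∈ R, ∀ v ∈ R, ∀ v' ∈ R, π v = π v' → ω u v = ω u v' := by
    intro u hu v hv v' hv' h
    apply mul_right_cancel₀ (hω_ne v hv u hu)
    rw [hω_comm u hu v hv, hωπ v hv v' hv' u hu h, hω_comm u hu v' hv']
  have hRbc : ∀ a ∈ Rb, ∀ b ∈ Rb, Commute a b := by
    rintro _ ⟨a, ha, rfl⟩ _ ⟨b, hb, rfl⟩
    refine commutatorElement_eq_one_iff_commute.mp ?_
    rw [← map_commutatorElement]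
    exact (QuotientGroup.eq_one_iff _).mpr (hcomm a ha b hb)
  have hminb : ∀ N : Subgroup (G ⧸ center G), N.Normal → N ≤ Rb → N ≠ ⊥ → N = Rb := by
    intro N hN hle hne
    have h1 : R ⊓ N.comap π = R := by
      refine hmin _ inferInstance inf_le_left fun hc => hne ?_
      rw [eq_bot_iff]
      intro a ha
      obtain ⟨g, hg, rfl⟩ := hle ha
      exact mem_bot.mpr ((QuotientGroup.eq_one_iff _).mpr (hc ⟨hg, ha⟩))
    refine le_antisymm hle (map_le_iff_le_comap.mpr ?_)
    exact inf_eq_left.mp h1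
  have hRbne : Rb ≠ ⊥ := fun h => hRnc fun g hg => (QuotientGroup.eq_one_iff _).mp
    (mem_bot.mp (h ▸ mem_map_of_mem π hg))
  have : Nontrivial Rb := (nontrivial_iff_ne_bot Rb).mpr hRbne
  obtain ⟨r, hr, hrdvd⟩ := Nat.exists_prime_and_dvd (Finite.one_lt_card (α := Rb)).ne'
  have : Fact r.Prime := ⟨hr⟩
  have hpow : ∀ a ∈ Rb, a ^ r = 1 := by
    let N : Subgroup (G ⧸ center G) :=
      { carrier := {a | a ∈ Rb ∧ a ^ r = 1}
        mul_mem' := fun {a b} ha hb => ⟨Rb.mul_mem ha.1 hb.1, by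
          rw [(hRbc a ha.1 b hb.1).mul_pow, ha.2, hb.2, one_mul]⟩
        one_mem' := ⟨Rb.one_mem, one_pow _⟩
        inv_mem' := fun {a} ha => ⟨Rb.inv_mem ha.1, by rw [inv_pow, ha.2, inv_one]⟩ }
    have hN : N = Rb := by
      refine hminb N ⟨fun a ha g => ⟨hRbn.conj_mem _ ha.1 g, ?_⟩⟩ (fun a ha => ha.1) ?_
      · rw [conj_pow, ha.2, mul_one, mul_inv_cancel]
      · obtain ⟨a, ha⟩ := exists_prime_orderOf_dvd_card' r hrdvd
        intro hb
        have h2 : (a : G ⧸ center G) ∈ N := ⟨a.2, by rw [← ha, ← SubgroupClass.coe_pow, pow_orderOf_eq_one]; rfl⟩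
        rw [hb, mem_bot] at h2
        rw [Subtype.ext h2 (a2 := (1 : Rb)), orderOf_one] at ha
        exact hr.one_lt.ne ha
    intro a ha
    exact (hN ▸ ha : a ∈ N).2
  have hel : Cfsg.IsElementaryAbelian r Rb :=
    ⟨⟨⟨fun a b => Subtype.ext (hRbc a a.2 b b.2)⟩⟩, hpow⟩
  have hRbp : IsPGroup r Rb := fun a => ⟨1, Subtype.ext (by simpa using hpow a a.2)⟩
  obtain ⟨n, hn⟩ := IsPGroup.iff_card.mp hRbp
  have hlift : ∀ q : Rb, ∃ u : R, π (u : G) = q := fun q => by
    obtain ⟨u, hu, hq⟩ := q.2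
    exact ⟨⟨u, hu⟩, hq⟩
  choose l hl using hlift
  let toQ : R → Rb := fun u => ⟨π u, mem_map_of_mem π u.2⟩
  have hl_eq : ∀ (u : R) (q : Rb), π (u : G) = q → ∀ v ∈ R, ω (l q) v = ω u v := fun u q h v hv =>
    hωπ _ (l q).2 _ u.2 v hv (by rw [hl, h])
  have hl_eq' : ∀ (u : R) (q : Rb), π (u : G) = q → ∀ v ∈ R, ω v (l q) = ω v u := fun u q h v hv =>
    hωπ' v hv _ (l q).2 _ u.2 (by rw [hl, h])
  have hl_mul : ∀ (a b : Rb), ∀ v ∈ R, ω (l (a * b)) v = ω (l a) v * ω (l b) v := fun a b v hv => by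
    rw [← hω_mul _ (l a).2 _ (l b).2 v hv]
    exact hl_eq (l a * l b) (a * b) (by simp [hl]) v hv
  have hnd : ∀ u ∈ R, (∀ v ∈ R, ω u v = 1) → u ∈ center G := by
    intro u hu h
    by_contra hc
    have h1 : R ⊓ centralizer (R : Set G) = R := hmin _ inferInstance inf_le_left fun h' =>
      hc (h' ⟨hu, mem_centralizer_iff.mpr fun v hv => ((hω_one u hu v hv).mp (h v hv)).symm⟩)
    obtain ⟨a, ha, b, hb, hne⟩ := hnab
    exact hne (((mem_centralizer_iff.mp ((inf_eq_left.mp h1) ha)) b hb).symm)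
  -- the grading
  let f : R → Module.End K (Module.End K V) := fun u => conjEnd ρ (u : G)
  have hconj1 : ∀ z ∈ center G, conjEnd ρ z = 1 := by
    intro z hz
    ext1 F
    have h1 := rho_mul_inv ρ z
    rw [hsc' z hz, smul_mul_assoc, one_mul] at h1
    rw [conjEnd_apply, hsc' z hz, smul_mul_assoc, one_mul, smul_mul_assoc, ← mul_smul_comm, h1, mul_one,
      Module.End.one_apply]
  have hfπ : ∀ u u' : R, π (u : G) = π (u' : G) → f u = f u' := by
    intro u u' h
    show conjEnd ρ u = conjEnd ρ u'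
    rw [show (u' : G) = u * ((u : G)⁻¹ * u') from (mul_inv_cancel_left _ _).symm, map_mul,
      hconj1 _ (hπz _ _ h), mul_one]
  have hfc : ∀ u v : R, Commute (f u) (f v) := by
    intro u v
    show f u * f v = f v * f u
    have h1 : f (u * v) = f (v * u) := hfπ _ _ (by
      simp only [Subgroup.coe_mul, map_mul]
      exact (hRbc _ (mem_map_of_mem π u.2) _ (mem_map_of_mem π v.2)).eq)
    simpa [f, map_mul] using h1
  let E : Rb → Submodule K (Module.End K V) := fun q =>
    ⨅ u : R, (f u).eigenspace (ω (u : G) (l q))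
  have memE : ∀ q F, F ∈ E q ↔ ∀ u : R, f u F = ω (u : G) (l q) • F := fun q F => by
    simp [E, Submodule.mem_iInf]
  have hχ : Function.Injective fun (q : Rb) (u : R) => ω (u : G) (l q) := by
    intro q q' he
    have h2 : ∀ v ∈ R, ω ((l q : G)⁻¹ * l q') v = 1 := by
      intro v hv
      have he' : ω v (l q) = ω v (l q') := congrFun he ⟨v, hv⟩
      have h3 : ω (l q) v = ω (l q') v := by
        apply mul_right_cancel₀ (hω_ne v hv _ (l q).2)
        rw [hω_comm _ (l q).2 v hv, he', hω_comm _ (l q').2 v hv]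
      have h4 := hω_mul _ (l q).2 _ (R.mul_mem (R.inv_mem (l q).2) (l q').2) v hv
      rw [mul_inv_cancel_left, ← h3] at h4
      exact (mul_eq_left₀ (hω_ne _ (l q).2 v hv)).mp h4.symm
    have h5 : π ((l q : G)⁻¹ * l q') = 1 :=
      (QuotientGroup.eq_one_iff _).mpr (hnd _ (R.mul_mem (R.inv_mem (l q).2) (l q').2) h2)
    rw [map_mul, map_inv, hl, hl, inv_mul_eq_one] at h5
    exact Subtype.ext h5
  have hind : iSupIndep E :=
    iSupIndep_of_eigen f hfc _ hχ E fun q u F hF => (memE q F).mp hF u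
  have hωpow : ∀ u ∈ R, ∀ v ∈ R, ∀ k : ℕ, ω (u ^ k) v = ω u v ^ k := by
    intro u hu v hv k
    induction k with
    | zero => rw [pow_zero, pow_zero]; exact (hω_one _ R.one_mem _ hv).mpr (by simp)
    | succ k ih => rw [pow_succ, hω_mul _ (R.pow_mem hu k) _ hu v hv, ih, pow_succ]
  have hrK : (r : K) ≠ 0 := by
    intro h0
    have : CharP K r := (CharP.charP_iff_prime_eq_zero hr).mpr h0
    obtain ⟨a, ha, b, hb, hne⟩ := hnab
    have h1 : ω a b ^ r = 1 := by
      rw [← hωpow a ha b hb]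
      refine (hω_one _ (R.pow_mem ha r) _ hb).mpr (mem_center_iff.mp ?_ b).symm
      refine (QuotientGroup.eq_one_iff _).mp ?_
      show π (a ^ r) = 1
      rw [map_pow]; exact hpow _ (mem_map_of_mem π ha)
    have h2 : (ω a b - 1) ^ r = 0 := by rw [sub_pow_char (ω a b) 1, h1, one_pow, sub_self]
    exact hne ((hω_one a ha b hb).mp (sub_eq_zero.mp (eq_zero_of_pow_eq_zero h2)))
  have hmK : (Nat.card Rb : K) ≠ 0 := by rw [hn, Nat.cast_pow]; exact pow_ne_zero _ hrK
  letI := Fintype.ofFinite Rb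
  have htop : ⨆ q, E q = ⊤ := by
    rw [eq_top_iff]
    intro F _
    let P : Rb → Module.End K V := fun q =>
      (Nat.card Rb : K)⁻¹ • ∑ b : Rb, (ω (l b : G) (l q))⁻¹ • f (l b) F
    have hP : ∀ q, P q ∈ E q := by
      intro q
      refine (memE q _).mpr fun u => ?_
      simp only [P, map_smul, map_sum]
      rw [smul_comm (ω (u : G) (l q)) (Nat.card Rb : K)⁻¹]
      refine congrArg _ ?_
      rw [Finset.smul_sum]
      rw [← Equiv.sum_comp (Equiv.mulLeft (toQ u)) (fun b => ω (u : G) (l q) • (ω (l b : G) (l q))⁻¹ • f (l b) F)]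
      refine Finset.sum_congr rfl fun b _ => ?_
      simp only [Equiv.coe_mulLeft, smul_smul]
      have h1 : f (l (toQ u * b)) = f u * f (l b) := by
        rw [show f u * f (l b) = f (u * l b) from (map_mul (conjEnd ρ) _ _).symm]
        exact hfπ _ _ (by simp [hl, toQ])
      rw [hl_mul (toQ u) b _ (l q).2, hl_eq u (toQ u) rfl _ (l q).2, h1, Module.End.mul_apply, mul_inv, ← mul_assoc,
        mul_inv_cancel₀ (hω_ne _ u.2 _ (l q).2), one_mul]
    have hsum : ∑ q, P q = F := by
      simp only [P]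
      rw [← Finset.smul_sum, Finset.sum_comm]
      simp only [← Finset.sum_smul]
      have horth : ∀ b : Rb, ∑ q : Rb, (ω (l b : G) (l q))⁻¹ = if b = 1 then (Nat.card Rb : K) else 0 := by
        intro b
        split_ifs with hb
        · subst hb
          have h1 : ∀ q : Rb, ω (l (1 : Rb) : G) (l q) = 1 := fun q => by
            rw [hl_eq 1 1 (by simp) _ (l q).2]
            exact (hω_one _ R.one_mem _ (l q).2).mpr (by simp)
          simp [h1, Nat.card_eq_fintype_card]
        · obtain ⟨v, hv, hv1⟩ : ∃ v ∈ R, ω (l b : G) v ≠ 1 := by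
            by_contra hcon
            push Not at hcon
            exact hb (Subtype.ext (by
              rw [← hl b]; exact (QuotientGroup.eq_one_iff _).mpr (hnd _ (l b).2 hcon)))
          have hv' : ω (l b : G) (l (toQ ⟨v, hv⟩)) = ω (l b : G) v := hl_eq' ⟨v, hv⟩ _ rfl _ (l b).2
          have h1 := Equiv.sum_comp (Equiv.mulLeft (toQ ⟨v, hv⟩)) (fun q : Rb => (ω (l b : G) (l q))⁻¹)
          have h2 : ∀ q : Rb, (ω (l b : G) (l (toQ ⟨v, hv⟩ * q)))⁻¹ =
              (ω (l b : G) v)⁻¹ * (ω (l b : G) (l q))⁻¹ := fun q => by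
            rw [hl_eq' (l (toQ ⟨v, hv⟩) * l q) _ (by simp [hl]) _ (l b).2, Subgroup.coe_mul,
              hω_mul' _ (l b).2 _ (l _).2 _ (l q).2, hv', mul_inv]
          simp only [Equiv.coe_mulLeft, h2, ← Finset.mul_sum] at h1
          by_contra hS
          exact hv1 (inv_eq_one.mp ((mul_eq_right₀ hS).mp h1))
      simp only [horth, ite_smul, zero_smul, Finset.sum_ite_eq', Finset.mem_univ, if_true, smul_smul,
        inv_mul_cancel₀ hmK, one_smul]
      rw [show f (l (1 : Rb)) = 1 by rw [hfπ (l 1) 1 (by simp [hl])]; simp [f]]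
      rfl
    rw [← hsum]
    exact Submodule.sum_mem _ fun q _ => Submodule.mem_iSup_of_mem q (hP q)
  have hshift : ∀ (v : R) (q : Rb), ∀ F ∈ E q, ρ (v : G) * F ∈ E (toQ v * q) := by
    intro v q F hF
    refine (memE _ _).mpr fun u => ?_
    have h1 := (memE q F).mp hF u
    simp only [f, conjEnd_apply] at h1 ⊢
    rw [hl_eq' (v * l q) (toQ v * q) (by simp [hl, toQ]) _ u.2, Subgroup.coe_mul,
      hω_mul' _ u.2 _ v.2 _ (l q).2, ← mul_assoc, hω _ u.2 _ v.2, smul_mul_assoc, smul_mul_assoc,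
      mul_assoc, mul_assoc (ρ (v : G)), ← mul_assoc (ρ (u : G)) F, h1, mul_smul_comm, smul_smul]
  set D := finrank K (E 1)
  have hlel : ∀ (v : R) (q q' : Rb), toQ v * q = q' → finrank K (E q) ≤ finrank K (E q') := by
    intro v q q' h
    subst h
    refine LinearMap.finrank_le_finrank_of_injective
      (f := (LinearMap.mulLeft K (ρ (v : G))).restrict (hshift v q)) fun a b hab => ?_
    have := congrArg (fun T : E _ => ρ (v : G)⁻¹ * (T : Module.End K V)) hab
    apply Subtype.ext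
    have h' : ρ (v : G)⁻¹ * (ρ (v : G) * (a : Module.End K V)) =
        ρ (v : G)⁻¹ * (ρ (v : G) * (b : Module.End K V)) := this
    rwa [← mul_assoc, ← mul_assoc, rho_inv_mul, one_mul, one_mul] at h'
  have hD : ∀ q, finrank K (E q) = D := fun q => le_antisymm
    (hlel (l q)⁻¹ q 1 (Subtype.ext (by simp [toQ, hl])))
    (hlel (l q) 1 q (Subtype.ext (by simp [toQ, hl])))
  have hd2 : finrank K V ^ 2 = Nat.card Rb * D := by
    rw [← finrank_of_decomposition E hind htop D hD, Module.finrank_linearMap, sq]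
  -- the action of `x`
  set σ' : MulAut Rb := MulAut.conjNormal (π x)
  have hσcoe : ∀ q : Rb, ((σ' q : Rb) : G ⧸ center G) = π x * q * (π x)⁻¹ := fun q =>
    MulAut.conjNormal_apply _ _
  set σ : Equiv.Perm Rb := σ'.toEquiv
  have hσp : σ ^ p = 1 := by
    have h2 : (MulAut.toPerm Rb) σ' ^ p = 1 := by
      rw [← map_pow, ← map_pow, ← map_pow, hx, map_one, map_one, map_one]
    exact h2
  have hTE : ∀ q, ∀ F ∈ E q, conjEnd ρ x F ∈ E (σ q) := by
    intro q F hF
    refine (memE _ _).mpr fun u => ?_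
    have hu : x⁻¹ * (u : G) * x ∈ R := by simpa using hRn.conj_mem _ u.2 x⁻¹
    have h1 := (memE q F).mp hF ⟨_, hu⟩
    simp only [f] at h1 ⊢
    rw [← Module.End.mul_apply, ← map_mul,
      show (u : G) * x = x * (x⁻¹ * (u : G) * x) by simp [mul_assoc],
      map_mul, Module.End.mul_apply, h1, map_smul]
    congr 1
    rw [hl_eq' ⟨_, hRn.conj_mem _ (l q).2 x⟩ (σ q) (by
      show π (x * (l q : G) * x⁻¹) = (σ' q : G ⧸ center G)
      rw [hσcoe, map_mul, map_mul, map_inv, hl]) _ u.2]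
    have h2 := hω_conj x _ hu _ (l q).2
    rw [show x * (x⁻¹ * (u : G) * x) * x⁻¹ = (u : G) by simp [mul_assoc]] at h2
    exact h2.symm
  have hfix := mul_finrank_fixed_le (Fact.out : p.Prime) E hind htop σ hσp (conjEnd ρ x) hTE D hD
  have hsq := sq_finrank_fixed_lt ρ x fun h => hx1 (hinj (by rw [h, map_one]))
  set C : Subgroup Rb := σ'.toMonoidHom.eqLocus (MonoidHom.id Rb)
  have memC : ∀ q, q ∈ C ↔ σ' q = q := fun q => Iff.rfl
  have hCcard : Nat.card {q // σ q = q} = Nat.card C := rfl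
  rw [hCcard] at hfix
  have hne_top : ∃ q : Rb, σ' q ≠ q := by
    by_contra hcon
    push Not at hcon
    have hcen : Rb ≤ center (G ⧸ center G) := by
      have hxC : x ∈ (centralizer (Rb : Set (G ⧸ center G))).comap π :=
        mem_comap.mpr (mem_centralizer_iff.mpr fun a ha => by
          have h1 := congrArg Subtype.val (hcon ⟨a, ha⟩)
          rw [hσcoe] at h1
          exact (mul_inv_eq_iff_eq_mul.mp h1).symm)
      have htop' : (centralizer (Rb : Set (G ⧸ center G))).comap π = ⊤ :=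
        top_le_iff.mp (hgen ▸ normalClosure_le_normal (Set.singleton_subset_iff.mpr hxC))
      intro a ha
      rw [mem_center_iff]
      intro g
      obtain ⟨g, rfl⟩ := QuotientGroup.mk'_surjective _ g
      exact ((mem_centralizer_iff.mp (mem_comap.mp (htop' ▸ mem_top g))) a ha).symm
    obtain ⟨u, hu, huc⟩ := Set.not_subset.mp hRnc
    let N := R ⊓ (Subgroup.zpowers (π u)).comap π
    have : (Subgroup.zpowers (π u)).Normal := ⟨fun a ha g => by
      have hac : a ∈ center (G ⧸ center G) :=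
        (zpowers_le.mpr (hcen (mem_map_of_mem π hu))) ha
      rwa [mem_center_iff.mp hac g, mul_inv_cancel_right]⟩
    have hN : N = R := hmin N inferInstance inf_le_left fun h => huc (h ⟨hu, mem_zpowers _⟩)
    obtain ⟨a, ha, b, hb, hne⟩ := hnab
    apply hne
    obtain ⟨i, hi⟩ := mem_zpowers_iff.mp (mem_comap.mp ((inf_eq_left.mp hN) ha))
    obtain ⟨j, hj⟩ := mem_zpowers_iff.mp (mem_comap.mp ((inf_eq_left.mp hN) hb))
    have ha' := hπz (u ^ i) a (by rw [map_zpow, hi])
    have hb' := hπz (u ^ j) b (by rw [map_zpow, hj])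
    calc a * b = u ^ i * ((u ^ i)⁻¹ * a) * (u ^ j * ((u ^ j)⁻¹ * b)) := by simp
      _ = u ^ i * u ^ j * (((u ^ i)⁻¹ * a) * ((u ^ j)⁻¹ * b)) := by
        rw [mul_assoc, ← mul_assoc _ (u ^ j), ← mem_center_iff.mp ha' (u ^ j), mul_assoc,
          ← mul_assoc (u ^ i)]
      _ = u ^ j * u ^ i * (((u ^ j)⁻¹ * b) * ((u ^ i)⁻¹ * a)) := by
        rw [← zpow_add, ← zpow_add, add_comm, mem_center_iff.mp hb']
      _ = u ^ j * ((u ^ j)⁻¹ * b) * (u ^ i * ((u ^ i)⁻¹ * a)) := by
        symm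
        rw [mul_assoc, ← mul_assoc _ (u ^ i), ← mem_center_iff.mp hb' (u ^ i), mul_assoc,
          ← mul_assoc (u ^ j)]
      _ = b * a := by simp
  obtain ⟨j, hjn, hj⟩ : ∃ j ≤ n, C.index = r ^ j :=
    (Nat.dvd_prime_pow hr).mp (hn ▸ C.index_dvd_card)
  obtain ⟨k, hk⟩ := IsPGroup.iff_card.mp (hRbp.to_subgroup C)
  have hmi : Nat.card Rb = Nat.card C * r ^ j := by rw [← hj, C.card_mul_index]
  have hmod : Nat.card Rb ≡ Nat.card C [MOD p] := by
    let F0 : Function.End Rb := ⇑σ
    have hpowF : ∀ k : ℕ, F0 ^ k = (⇑(σ ^ k) : Function.End Rb) := by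
      intro k
      induction k with
      | zero => rfl
      | succ k ih => rw [pow_succ, pow_succ, ih]; rfl
    have hend : F0 ^ (p ^ 1) = 1 := by rw [pow_one, hpowF, hσp]; rfl
    have := Equiv.Perm.card_fixedPoints_modEq hend
    simp only [← Nat.card_eq_fintype_card] at this
    exact this
  refine lt_of_index hp5 Nat.card_pos hmi ?_ hd2
    (le_trans (Nat.mul_le_mul_left p hsq) hfix)
  rcases Nat.lt_or_ge j 2 with hj2 | hj2
  swap
  · exact index_ok Fact.out hp5 hj2 (by rw [mul_comm, ← hmi]; exact hmod) ⟨r ^ j, by rw [mul_comm]⟩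
      ⟨k, hk⟩
  exfalso
  obtain ⟨q0, hq0⟩ := hne_top
  have hj0 : j = 1 := by
    rcases Nat.eq_zero_or_pos j with h | h
    · subst h
      rw [pow_zero, index_eq_one] at hj
      exact absurd ((memC q0).mp (hj ▸ mem_top q0)) hq0
    · omega
  subst hj0
  rw [pow_one] at hj
  have hquad : ∀ q : Rb, σ' (σ' q * q⁻¹) = σ' q * q⁻¹ := by
    intro q
    by_contra hd
    set d := σ' q * q⁻¹ with hddef
    let P0 : Subgroup Rb :=
      { carrier := {w | ω (l d : G) (l w) = 1}
        mul_mem' := fun {a b} ha hb => by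
          show ω (l d : G) (l (a * b)) = 1
          rw [hl_eq' (l a * l b) (a * b) (by simp [hl]) _ (l d).2, Subgroup.coe_mul,
            hω_mul' _ (l d).2 _ (l a).2 _ (l b).2, ha, hb, one_mul]
        one_mem' := by
          show ω (l d : G) (l (1 : Rb)) = 1
          rw [hl_eq' 1 1 (by simp) _ (l d).2]
          exact (hω_one _ (l d).2 _ R.one_mem).mpr (by simp)
        inv_mem' := fun {a} ha => by
          show ω (l d : G) (l a⁻¹) = 1
          have h1 := hω_mul' _ (l d).2 _ (l a).2 _ (l a⁻¹).2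
          rw [ha, one_mul] at h1
          rw [← h1, ← Subgroup.coe_mul, ← hl_eq' (l a * l a⁻¹) (a * a⁻¹) (by simp [hl]) _ (l d).2,
            mul_inv_cancel, hl_eq' 1 1 (by simp) _ (l d).2]
          exact (hω_one _ (l d).2 _ R.one_mem).mpr (by simp) }
    have hxl : ∀ w : Rb, π (x * (l w : G) * x⁻¹) = (σ' w : G ⧸ center G) := fun w => by
      rw [hσcoe, map_mul, map_mul, map_inv, hl]
    have hCP : C ≤ P0 := by
      intro w hw
      show ω (l d : G) (l w) = 1
      have h1 := hω_conj x _ (l q).2 _ (l w).2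
      rw [← hl_eq ⟨_, hRn.conj_mem _ (l q).2 x⟩ (σ' q) (hxl q) _ (hRn.conj_mem _ (l w).2 x),
        ← hl_eq' ⟨_, hRn.conj_mem _ (l w).2 x⟩ w (by rw [← (memC w).mp hw]; simpa [(memC w).mp hw] using hxl w)
          _ (l (σ' q)).2] at h1
      have h2 := hl_mul d q _ (l w).2
      rw [show d * q = σ' q by rw [hddef, inv_mul_cancel_right], h1] at h2
      exact (mul_eq_right₀ (hω_ne _ (l q).2 _ (l w).2)).mp h2.symm
    have hdP : d ∈ P0 := (hω_one _ (l d).2 _ (l d).2).mpr rfl
    have hdvd := index_dvd_of_le hCP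
    rw [hj] at hdvd
    rcases (Nat.dvd_prime hr).mp hdvd with h | h
    · have hall : ∀ v ∈ R, ω (l d : G) v = 1 := fun v hv => by
        have : toQ ⟨v, hv⟩ ∈ P0 := (index_eq_one.mp h) ▸ mem_top _
        rw [← hl_eq' ⟨v, hv⟩ (toQ ⟨v, hv⟩) rfl _ (l d).2]
        exact this
      have hd1 : d = 1 := Subtype.ext (by
        rw [← hl d]; exact (QuotientGroup.eq_one_iff _).mpr (hnd _ (l d).2 hall))
      exact hd (by rw [hd1, map_one])
    · have hCeq : C = P0 := by
        refine le_antisymm hCP (relIndex_eq_one.mp ?_)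
        have h1 := relIndex_mul_index hCP
        rw [h, hj] at h1
        exact Nat.eq_of_mul_eq_mul_right hr.pos (h1.trans (one_mul r).symm)
      exact hd ((memC d).mp (hCeq ▸ hdP))
  rcases eq_or_ne r p with rfl | hrp
  · -- a transvection of a solvable group on its minimal normal subgroup
    have : Group.IsSolvable (G ⧸ center G) := inferInstance
    have hq : ⁅⁅Rb, Subgroup.zpowers (π x)⁆, Subgroup.zpowers (π x)⁆ = ⊥ := by
      rw [PLocal.quadratic_iff (by rw [normalizer_eq_top]; exact mem_top _)]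
      intro v hv
      have h1 := congrArg Subtype.val (hquad ⟨v, hv⟩)
      rw [hσcoe, Subgroup.coe_mul, hσcoe, InvMemClass.coe_inv] at h1
      have h2 : Commute (π x) (π x * v * (π x)⁻¹ * v⁻¹) := mul_inv_eq_iff_eq_mul.mp h1
      have e : ⁅v, π x⁆ = (π x * v * (π x)⁻¹ * v⁻¹)⁻¹ := by simp [commutatorElement_def, mul_assoc]
      rw [e]
      exact h2.symm.inv_left
    have hc := mem_centralizer_of_quadratic hp Rb hel hminb (π x) hq
    apply hq0
    apply Subtype.ext
    rw [hσcoe, ← mem_centralizer_iff.mp hc q0 q0.2, mul_inv_cancel_right]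
  · set d := σ' q0 * q0⁻¹ with hddef
    have hit : ∀ k : ℕ, (σ ^ k) q0 = d ^ k * q0 := by
      intro k
      induction k with
      | zero => simp
      | succ k ih =>
        rw [pow_succ', Equiv.Perm.mul_apply, ih]
        show σ' (d ^ k * q0) = _
        rw [map_mul, map_pow, hquad q0, pow_succ, mul_assoc, hddef, inv_mul_cancel_right]
    have h1 := hit p
    rw [hσp, Equiv.Perm.one_apply, eq_comm, mul_eq_right] at h1
    have h2 : d ^ r = 1 := Subtype.ext (by simpa using hpow d d.2)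
    have hd1 : d = 1 := orderOf_eq_one_iff.mp (Nat.eq_one_of_dvd_coprimes
      ((Nat.coprime_primes hr Fact.out).mpr hrp) (orderOf_dvd_of_pow_eq_one h2)
      (orderOf_dvd_of_pow_eq_one h1))
    exact hq0 (mul_inv_eq_one.mp hd1)

end CfsgLib.FGS
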