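/-
Flavell's bound over an arbitrary field: an element of prime order `p ≥ 5`, whose conjugates generate a finite
solvable group acting faithfully and irreducibly, fixes less than half of the space.
-/
import Cfsg.Agent.FGS.FixedHalfSymplectic
import Mathlib.FieldTheory.IsAlgClosed.AlgebraicClosure
import Mathlib.LinearAlgebra.TensorProduct.Tower
import Mathlib.RingTheory.Flat.Basic

set_option autoImplicit false

namespace CfsgLib.FGS

open Module Subgroup
open scoped TensorProduct

universe u v w

variable {G : Type u} [Group G] {K : Type v} [Field K] {V : Type w} [AddCommGroup V] [Module K V]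

theorem fixed_lt_half_closed [Finite G] [IsAlgClosed K] [FiniteDimensional K V] [Nontrivial V]
    [Group.IsSolvable G] {p : ℕ} [Fact p.Prime] (hp : 3 < p) (ρ : G →* Module.End K V)
    (hinj : Function.Injective ρ)
    (hirr : ∀ W : Submodule K V, (∀ g, ∀ v ∈ W, ρ g v ∈ W) → W = ⊥ ∨ W = ⊤) {x : G}
    (hx : x ^ p = 1) (hx1 : x ≠ 1) (hgen : normalClosure ({x} : Set G) = ⊤) :
    2 * finrank K (LinearMap.ker (ρ x - 1)) < finrank K V := by
  classical
  by_cases hab : (⊤ : Subgroup G) ≤ center G
  · obtain ⟨a, ha⟩ := exists_scalar ρ hirr (ρ x) fun g => by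
      show ρ x * ρ g = ρ g * ρ x
      rw [← map_mul, ← map_mul, mem_center_iff.mp (hab (mem_top x)) g]
    have ha1 : a - 1 ≠ 0 := fun h => hx1 (hinj (by rw [ha, sub_eq_zero.mp h, one_smul, map_one]))
    have hker : LinearMap.ker (ρ x - 1) = ⊥ := by
      rw [Submodule.eq_bot_iff]
      intro v hv
      rw [LinearMap.mem_ker, ha] at hv
      have h1 : (a - 1) • v = 0 := by
        simpa [sub_smul] using hv
      exact (smul_eq_zero.mp h1).resolve_left ha1
    rw [hker, finrank_bot, mul_zero]
    exact Module.finrank_pos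
  · have hfin : Finite (Subgroup G) := Finite.of_injective _ SetLike.coe_injective
    obtain ⟨R, ⟨hRn, hRnc⟩, hmin⟩ := (wellFounded_lt (α := Subgroup G)).has_min
      {N : Subgroup G | N.Normal ∧ ¬ N ≤ center G} ⟨⊤, inferInstance, hab⟩
    have hmin' : ∀ N : Subgroup G, N.Normal → N ≤ R → ¬ N ≤ center G → N = R := fun N hN hle hnc =>
      hle.lt_or_eq.resolve_left (fun h => hmin N ⟨hN, hnc⟩ h)
    by_cases hc : ∀ a ∈ R, ∀ b ∈ R, a * b = b * a
    · exact fixed_lt_half_abelian hp ρ hinj hirr hx hgen R hRn hRnc hc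
    · push Not at hc
      exact fixed_lt_half_nonabelian hp ρ hinj hirr hx hx1 hgen R hRnc hmin' hc

/-- Reducible version: it is enough that some set of group elements of invertible size sums to zero. -/
theorem fixed_lt_half_sum [Finite G] [IsAlgClosed K] [Group.IsSolvable G] {p : ℕ} [Fact p.Prime]
    (hp : 3 < p) {x : G} (hx : x ^ p = 1) (hgen : normalClosure ({x} : Set G) = ⊤) (N : Finset G)
    (hN : (N.card : K) ≠ 0) : ∀ (d : ℕ) {V : Type w} [AddCommGroup V] [Module K V]
    [FiniteDimensional K V] [Nontrivial V], finrank K V = d → ∀ ρ : G →* Module.End K V,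
      ∑ n ∈ N, ρ n = 0 → 2 * finrank K (LinearMap.ker (ρ x - 1)) < finrank K V := by
  classical
  intro d
  induction d using Nat.strong_induction_on with
  | _ d ih =>
  intro V _ _ _ _ hd ρ hsum
  let S : Set (Submodule K V) := {W | W ≠ ⊥ ∧ ∀ g, ∀ v ∈ W, ρ g v ∈ W}
  obtain ⟨W, ⟨hW0, hWi⟩, hmin⟩ := (wellFounded_lt (α := Submodule K V)).has_min S
    ⟨⊤, top_ne_bot, fun _ _ _ => Submodule.mem_top⟩
  haveI : Nontrivial W := Submodule.nontrivial_iff_ne_bot.mpr hW0
  let ρW : G →* Module.End K W :=
    { toFun := fun g => LinearMap.restrict (ρ g) (hWi g)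
      map_one' := by ext v; simp
      map_mul' := fun a b => by ext v; simp }
  have hρW : ∀ g (v : W), ((ρW g v : W) : V) = ρ g v := fun g v => rfl
  have hxW : ρW x ≠ 1 := by
    intro h
    have hker : ∀ g, ρW g = 1 := fun g => by
      have hxk : x ∈ ρW.ker := MonoidHom.mem_ker.mpr h
      have := (top_le_iff.mp (hgen ▸ normalClosure_le_normal (N := ρW.ker)
        (Set.singleton_subset_iff.mpr hxk)) : ρW.ker = ⊤)
      exact MonoidHom.mem_ker.mp (this ▸ mem_top g)
    obtain ⟨w, hw⟩ := exists_ne (0 : W)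
    have h1 : ∑ n ∈ N, ρ n (w : V) = 0 := by
      rw [← LinearMap.sum_apply, hsum, LinearMap.zero_apply]
    have h2 : ∀ n ∈ N, ρ n (w : V) = (w : V) := fun n _ => by
      rw [← hρW n w, hker n, Module.End.one_apply]
    rw [Finset.sum_congr rfl h2, Finset.sum_const, ← Nat.cast_smul_eq_nsmul K] at h1
    exact hw (Subtype.ext ((smul_eq_zero.mp h1).resolve_left hN))
  -- the irreducible bottom part
  have hbot : 2 * finrank K (LinearMap.ker (ρW x - 1)) < finrank K W := by
    let Q := G ⧸ ρW.ker
    haveI : Group.IsSolvable Q := inferInstance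
    let ρ' : Q →* Module.End K W := QuotientGroup.lift ρW.ker ρW le_rfl
    have hinj : Function.Injective ρ' := by
      intro a b hab
      obtain ⟨a, rfl⟩ := QuotientGroup.mk'_surjective _ a
      obtain ⟨b, rfl⟩ := QuotientGroup.mk'_surjective _ b
      refine QuotientGroup.eq.mpr (MonoidHom.mem_ker.mpr ?_)
      have hab' : ρW a = ρW b := hab
      rw [map_mul, ← hab', ← map_mul, inv_mul_cancel, map_one]
    have hirr : ∀ U : Submodule K W, (∀ q, ∀ v ∈ U, ρ' q v ∈ U) → U = ⊥ ∨ U = ⊤ := by
      intro U hU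
      rcases eq_or_ne U ⊥ with h | h
      · exact Or.inl h
      right
      have hmem : U.map W.subtype ∈ S := by
        refine ⟨fun hb => h ?_, fun g v hv => ?_⟩
        · exact Submodule.map_injective_of_injective (f := W.subtype) (Submodule.injective_subtype W)
            (hb.trans (Submodule.map_bot _).symm)
        · obtain ⟨u, hu, rfl⟩ := hv
          exact ⟨ρW g u, hU (g : Q) u hu, hρW g u⟩
      have heq : U.map W.subtype = W :=
        ((Submodule.map_subtype_le W U).lt_or_eq).resolve_left fun hlt => hmin _ hmem hlt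
      apply Submodule.map_injective_of_injective (f := W.subtype) (Submodule.injective_subtype W)
      rw [heq, Submodule.map_top, Submodule.range_subtype]
    have hgen' : normalClosure ({(x : Q)} : Set Q) = ⊤ := by
      have h1 := Subgroup.map_normalClosure ({x} : Set G) (QuotientGroup.mk' ρW.ker)
        (QuotientGroup.mk'_surjective _)
      rw [hgen, ← MonoidHom.range_eq_map, MonoidHom.range_eq_top.mpr (QuotientGroup.mk'_surjective _),
        Set.image_singleton] at h1
      exact h1.symm
    exact fixed_lt_half_closed hp ρ' hinj hirr (x := (x : Q))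
      (by rw [← QuotientGroup.mk_pow, hx, QuotientGroup.mk_one])
      (fun h => hxW (by
        have h' : ρ' (x : Q) = ρ' 1 := by rw [h]
        rw [map_one] at h'
        exact h')) hgen'
  -- the quotient part
  let ρQ : G →* Module.End K (V ⧸ W) :=
    { toFun := fun g => W.mapQ W (ρ g) (fun v hv => hWi g v hv)
      map_one' := by refine Submodule.linearMap_qext _ (LinearMap.ext fun v => ?_); simp
      map_mul' := fun a b => by refine Submodule.linearMap_qext _ (LinearMap.ext fun v => ?_); simp }
  have hadd : finrank K (LinearMap.ker (ρ x - 1)) ≤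
      finrank K (LinearMap.ker (ρW x - 1)) + finrank K (LinearMap.ker (ρQ x - 1)) := by
    set C := LinearMap.ker (ρ x - 1)
    let f : C →ₗ[K] V ⧸ W := W.mkQ.comp C.subtype
    have h1 := LinearMap.finrank_range_add_finrank_ker f
    have h2 : LinearMap.range f ≤ LinearMap.ker (ρQ x - 1) := by
      rintro _ ⟨⟨v, hv⟩, rfl⟩
      rw [LinearMap.mem_ker] at hv ⊢
      have hv' : ρ x v = v := by simpa [sub_eq_zero] using hv
      show W.mapQ W (ρ x) (fun v hv => hWi x v hv) (W.mkQ v) - W.mkQ v = 0
      rw [Submodule.mkQ_apply, Submodule.mapQ_apply, hv', sub_self]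
    have hker : ∀ c : LinearMap.ker f, ((c : C) : V) ∈ W := fun c => by
      exact (Submodule.Quotient.mk_eq_zero W).mp (LinearMap.mem_ker.mp c.2)
    let g : LinearMap.ker f →ₗ[K] LinearMap.ker (ρW x - 1) :=
      LinearMap.codRestrict _ (LinearMap.codRestrict W (C.subtype.comp (LinearMap.ker f).subtype) hker)
        fun c => by
          rw [LinearMap.mem_ker, LinearMap.sub_apply, Module.End.one_apply, sub_eq_zero]
          apply Subtype.ext
          rw [hρW]
          exact sub_eq_zero.mp (c : C).2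
    have hg : Function.Injective g := fun a b h => by
      have := congrArg (fun z : LinearMap.ker (ρW x - 1) => ((z : W) : V)) h
      exact Subtype.ext (Subtype.ext this)
    have h3 := LinearMap.finrank_le_finrank_of_injective hg
    have h4 := Submodule.finrank_mono h2
    omega
  have htot := Submodule.finrank_quotient_add_finrank W
  have hWpos : 0 < finrank K W := Module.finrank_pos
  rcases Nat.eq_zero_or_pos (finrank K (V ⧸ W)) with h0 | h0
  · have : finrank K (LinearMap.ker (ρQ x - 1)) ≤ 0 := h0 ▸ Submodule.finrank_le _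
    omega
  · haveI : Nontrivial (V ⧸ W) := Module.nontrivial_of_finrank_pos h0
    have hq := ih (finrank K (V ⧸ W)) (by omega) rfl ρQ (by
      refine Submodule.linearMap_qext _ (LinearMap.ext fun v => ?_)
      have h1 : (∑ n ∈ N, ρQ n) (W.mkQ v) = W.mkQ ((∑ n ∈ N, ρ n) v) := by
        rw [LinearMap.sum_apply, LinearMap.sum_apply, map_sum]
        rfl
      rw [LinearMap.comp_apply, h1, hsum]
      simp)
    omega

theorem fixed_lt_half [Finite G] [FiniteDimensional K V] [Nontrivial V]
    [Group.IsSolvable G] {p : ℕ} [Fact p.Prime] (hp : 3 < p) (ρ : G →* Module.End K V)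
    (hinj : Function.Injective ρ)
    (hirr : ∀ W : Submodule K V, (∀ g, ∀ v ∈ W, ρ g v ∈ W) → W = ⊥ ∨ W = ⊤) {x : G}
    (hx : x ^ p = 1) (hx1 : x ≠ 1) (hgen : normalClosure ({x} : Set G) = ⊤) :
    2 * finrank K (LinearMap.ker (ρ x - 1)) < finrank K V := by
  classical
  haveI : Nontrivial G := ⟨x, 1, hx1⟩
  obtain ⟨A, hAn, hA0, hAc⟩ : ∃ A : Subgroup G, A.Normal ∧ A ≠ ⊥ ∧ ⁅A, A⁆ = ⊥ := by
    obtain ⟨n, hn⟩ := ‹Group.IsSolvable G›.solvable
    have hex : ∃ n, derivedSeries G n = ⊥ := ⟨n, hn⟩
    have h0 : Nat.find hex ≠ 0 := fun h => by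
      have hs := Nat.find_spec hex
      rw [h, derivedSeries_zero] at hs
      exact top_ne_bot hs
    obtain ⟨k, hk⟩ := Nat.exists_eq_succ_of_ne_zero h0
    refine ⟨derivedSeries G k, derivedSeries_normal G k, Nat.find_min hex (by omega), ?_⟩
    rw [← derivedSeries_succ]
    have hs := Nat.find_spec hex
    rwa [hk] at hs
  have hAcomm : ∀ a ∈ A, ∀ b ∈ A, a * b = b * a := fun a ha b hb =>
    commutatorElement_eq_one_iff_mul_comm.mp (mem_bot.mp (hAc ▸ commutator_mem_commutator ha hb))
  haveI : Nontrivial A := (nontrivial_iff_ne_bot A).mpr hA0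
  obtain ⟨r, hr, hrdvd⟩ := Nat.exists_prime_and_dvd (Finite.one_lt_card (α := A)).ne'
  haveI : Fact r.Prime := ⟨hr⟩
  let N : Subgroup G :=
    { carrier := {a | a ∈ A ∧ a ^ r = 1}
      mul_mem' := fun {a b} ha hb => ⟨A.mul_mem ha.1 hb.1, by
        rw [(show Commute a b from hAcomm a ha.1 b hb.1).mul_pow, ha.2, hb.2, one_mul]⟩
      one_mem' := ⟨A.one_mem, one_pow _⟩
      inv_mem' := fun {a} ha => ⟨A.inv_mem ha.1, by rw [inv_pow, ha.2, inv_one]⟩ }
  have hNn : N.Normal := ⟨fun a ha g => ⟨hAn.conj_mem _ ha.1 g, by rw [conj_pow, ha.2, mul_one, mul_inv_cancel]⟩⟩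
  obtain ⟨a0, ha0⟩ := exists_prime_orderOf_dvd_card' r hrdvd
  have ha0N : (a0 : G) ∈ N := ⟨a0.2, by rw [← ha0, ← SubgroupClass.coe_pow, pow_orderOf_eq_one]; rfl⟩
  have ha01 : (a0 : G) ≠ 1 := fun h => by
    rw [Subtype.ext h (a2 := (1 : A)), orderOf_one] at ha0
    exact hr.one_lt.ne ha0
  -- the fixed space of `N` is zero
  set F : Submodule K V := ⨅ n : N, LinearMap.ker (ρ (n : G) - 1)
  have memF : ∀ v, v ∈ F ↔ ∀ n ∈ N, ρ n v = v := fun v => by
    simp [F, Submodule.mem_iInf, sub_eq_zero]
  have hFinv : ∀ g, ∀ v ∈ F, ρ g v ∈ F := by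
    intro g v hv
    refine (memF _).mpr fun n hn => ?_
    have h1 := (memF v).mp hv (g⁻¹ * n * g) (by simpa using hNn.conj_mem _ hn g⁻¹)
    rw [← Module.End.mul_apply, ← map_mul, show n * g = g * (g⁻¹ * n * g) by simp [mul_assoc],
      map_mul, Module.End.mul_apply, h1]
  have hF : F = ⊥ := (hirr F hFinv).resolve_right fun htop => ha01 (hinj (by
    rw [map_one]
    exact LinearMap.ext fun v => (memF v).mp (htop ▸ Submodule.mem_top) _ ha0N))
  have hrK : (r : K) ≠ 0 := by
    intro h0
    haveI : CharP K r := (CharP.charP_iff_prime_eq_zero hr).mpr h0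
    haveI : CharP (Module.End K V) r :=
      charP_of_injective_algebraMap (algebraMap K (Module.End K V)).injective r
    let S : Set (Submodule K V) := {W | W ≠ ⊥ ∧ ∀ n ∈ N, ∀ v ∈ W, ρ n v ∈ W}
    obtain ⟨W, ⟨hW0, hWi⟩, hmin⟩ := (wellFounded_lt (α := Submodule K V)).has_min S
      ⟨⊤, top_ne_bot, fun _ _ _ _ => Submodule.mem_top⟩
    have hfix : W ≤ F := by
      intro v hv
      refine (memF v).mpr fun n hn => ?_
      have hnil : (ρ n - 1) ^ r = 0 := by
        rw [sub_pow_char_of_commute (p := r) (h := Commute.one_right _), ← map_pow, hn.2, map_one, one_pow, sub_self]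
      set U := W ⊓ LinearMap.ker (ρ n - 1)
      have hU : U ∈ S := by
        refine ⟨fun hb => ?_, fun m hm u hu => ⟨hWi m hm u hu.1, ?_⟩⟩
        · have hWn : ∀ w ∈ W, (ρ n - 1) w ∈ W := fun w hw => W.sub_mem (hWi n hn w hw) hw
          have key : ∀ k, ∀ w ∈ W, ((ρ n - 1) ^ k : Module.End K V) w = 0 → w = 0 := by
            intro k
            induction k with
            | zero => intro w _ h; simpa using h
            | succ k ihk =>
              intro w hw h
              rw [pow_succ, Module.End.mul_apply] at h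
              have h' := ihk _ (hWn w hw) h
              have : w ∈ U := ⟨hw, LinearMap.mem_ker.mpr h'⟩
              rwa [hb, Submodule.mem_bot] at this
          exact hW0 ((Submodule.eq_bot_iff W).mpr fun w hw => key r w hw (by rw [hnil]; rfl))
        · have hu2 : ρ n u = u := sub_eq_zero.mp hu.2
          show (ρ n - 1) (ρ m u) = 0
          rw [LinearMap.sub_apply, Module.End.one_apply, sub_eq_zero, ← Module.End.mul_apply,
            ← map_mul, hAcomm n hn.1 m hm.1, map_mul, Module.End.mul_apply, hu2]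
      have hUW : U = W := (inf_le_left.lt_or_eq).resolve_left fun h => hmin U hU h
      rw [← hUW] at hv
      exact sub_eq_zero.mp hv.2
    exact hW0 (eq_bot_iff.mpr (hF ▸ hfix))
  have hNp : IsPGroup r N := fun a => ⟨1, Subtype.ext (by simpa using a.2.2)⟩
  obtain ⟨n, hn⟩ := IsPGroup.iff_card.mp hNp
  haveI := Fintype.ofFinite N
  set Nf : Finset G := (Finset.univ : Finset N).map ⟨Subtype.val, Subtype.val_injective⟩
  have hNf : Nf.card = r ^ n := by simp [Nf, ← hn, Nat.card_eq_fintype_card]
  have hsum : ∑ m ∈ Nf, ρ m = 0 := by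
    refine LinearMap.ext fun v => ?_
    rw [LinearMap.zero_apply, ← Submodule.mem_bot K, ← hF, memF]
    intro m hm
    rw [← Module.End.mul_apply, Finset.mul_sum]
    simp only [Nf, Finset.sum_map, Function.Embedding.coeFn_mk, ← map_mul]
    exact congrArg (fun T : Module.End K V => T v)
      (Equiv.sum_comp (Equiv.mulLeft (⟨m, hm⟩ : N)) fun z : N => ρ (z : G))
  -- extension of scalars
  let Kc := AlgebraicClosure K
  let ρc : G →* Module.End Kc (Kc ⊗[K] V) :=
    (Module.End.baseChangeHom K Kc V).toMonoidHom.comp ρ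
  have hρc : ∀ g, ρc g = (ρ g).baseChange Kc := fun g => rfl
  have hsumc : ∑ m ∈ Nf, ρc m = 0 := by
    exact (map_sum (LinearMap.baseChangeHom K Kc V V) (fun m => (ρ m : V →ₗ[K] V)) Nf).symm.trans
      (by rw [hsum, map_zero])
  haveI : Nontrivial (Kc ⊗[K] V) := Module.nontrivial_of_finrank_pos (R := Kc)
    (by rw [Module.finrank_baseChange]; exact Module.finrank_pos)
  have h1 := fixed_lt_half_sum (K := Kc) hp hx hgen Nf
    (by rw [hNf, Nat.cast_pow]; exact pow_ne_zero _ (by
      rw [← map_natCast (algebraMap K Kc)]; exact (map_ne_zero _).mpr hrK)) _ rfl ρc hsumc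
  set C := LinearMap.ker (ρ x - 1)
  have hle : finrank K C ≤ finrank Kc (LinearMap.ker (ρc x - 1)) := by
    rw [← Module.finrank_baseChange (R := Kc) (S := K) (M' := C)]
    have hmem : ∀ z, C.subtype.baseChange Kc z ∈ LinearMap.ker (ρc x - 1) := by
      intro z
      rw [LinearMap.mem_ker, hρc, ← LinearMap.baseChange_one, ← LinearMap.baseChange_sub,
        ← LinearMap.comp_apply, ← LinearMap.baseChange_comp,
        show (ρ x - 1).comp C.subtype = 0 from LinearMap.ext fun c => c.2, LinearMap.baseChange_zero,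
        LinearMap.zero_apply]
    refine LinearMap.finrank_le_finrank_of_injective (f := LinearMap.codRestrict _ _ hmem) fun a b h => ?_
    exact Module.Flat.lTensor_preserves_injective_linearMap (M := Kc) C.subtype
      (Submodule.injective_subtype C) (congrArg Subtype.val h)
  rw [Module.finrank_baseChange] at h1
  omega

end CfsgLib.FGS
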