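import Cfsg.Agent.Transitivity.OrderFormula
import Cfsg.Agent.LocalEvenBasic.CardLattice

/-!
# The product of the fixed point numbers of a coprime action of a `p`-group

For a `p`-group `P` acting on a `p'`-group `V`:
`(∏_{x ∈ P} |C_V(x)|) ^ p ≤ |V| ^ |P| * |C_V(P)| ^ (|P| (p - 1))`.
-/

set_option autoImplicit false
set_option linter.style.haveILetI false

namespace CfsgLib.FGS

open CfsgLib.Transitivity

universe u v

theorem mem_fixBy_zpowers {C : Type v} {K : Type u} [Group C] [Group K] (φ : C →* MulAut K) {x : C}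
    {k : K} : k ∈ fixBy φ (Subgroup.zpowers x) ↔ φ x k = k := by
  refine ⟨fun h => h x (Subgroup.mem_zpowers x), fun h b hb => ?_⟩
  have : Subgroup.zpowers x ≤ (MulAction.stabilizer (MulAut K) k).comap φ :=
    Subgroup.zpowers_le.2 h
  exact this hb

theorem mem_fixBy_top {C : Type v} {K : Type u} [Group C] [Group K] (φ : C →* MulAut K) {k : K} :
    k ∈ fixBy φ ⊤ ↔ ∀ b, φ b k = k :=
  ⟨fun h b => h b (Subgroup.mem_top b), fun h b _ => h b⟩

/-- The order formula for a group of order `p²` and exponent `p` acting coprimely. -/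
theorem lineFormula_of_coprime {p : ℕ} [Fact p.Prime] {C : Type v} {K : Type u} [Group C] [Finite C]
    [Fintype (Subgroup C)] [Group K] [Finite K] (φ : C →* MulAut K)
    (hcomm : ∀ a b : C, a * b = b * a) (hexp : ∀ a : C, a ^ p = 1) (hC : Nat.card C = p ^ 2)
    (hK : ¬ p ∣ Nat.card K) : LineFormula p (fun B => Nat.card (fixBy φ B)) := by
  classical
  haveI := CfsgLib.Coprime.finite_semidirectProduct φ
  let E := (SemidirectProduct.inr : C →* SemidirectProduct K C φ).range
  let L := (SemidirectProduct.inl : K →* SemidirectProduct K C φ).range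
  let ε : C ≃* E := MonoidHom.ofInjective SemidirectProduct.inr_injective
  haveI := Fintype.ofFinite (Subgroup E)
  have hE : Cfsg.IsElementaryAbelian p E := by
    refine ⟨⟨⟨?_⟩⟩, ?_⟩
    · rintro ⟨_, a, rfl⟩ ⟨_, b, rfl⟩
      exact Subtype.ext (by simp only [Subgroup.coe_mul, ← map_mul, hcomm a b])
    · rintro _ ⟨a, rfl⟩
      rw [← map_pow, hexp, map_one]
  have hF := card_mul_pow_eq_prod hE (by rw [← Nat.card_congr ε.toEquiv, hC])
    (CfsgLib.Coprime.range_inr_le_normalizer_range_inl φ) (K := L)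
    (by rw [CfsgLib.Coprime.card_range_inl]; exact hK)
  have hfix : ∀ B : Subgroup C, Nat.card (fixBy φ B) =
      Nat.card ↥(L ⊓ Subgroup.centralizer
        (((ε.mapSubgroup B).map E.subtype : Subgroup (SemidirectProduct K C φ)) :
          Set (SemidirectProduct K C φ))) := by
    intro B
    rw [← Subgroup.card_map_of_injective (f := (SemidirectProduct.inl : K →* SemidirectProduct K C φ))
      SemidirectProduct.inl_injective]
    refine congrArg (fun S : Subgroup _ => Nat.card S) (Subgroup.ext fun g => ?_)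
    constructor
    · rintro ⟨k, hk, rfl⟩
      refine ⟨⟨k, rfl⟩, Subgroup.mem_centralizer_iff.2 ?_⟩
      rintro _ ⟨_, ⟨b, hb, rfl⟩, rfl⟩
      have h := SemidirectProduct.inl_aut (φ := φ) b k
      rw [hk b hb, map_inv] at h
      exact (mul_inv_eq_iff_eq_mul.1 h.symm)
    · rintro ⟨⟨k, rfl⟩, hg⟩
      refine ⟨k, fun b hb => (SemidirectProduct.inl_injective (φ := φ)) ?_, rfl⟩
      have h := Subgroup.mem_centralizer_iff.1 hg _ ⟨_, ⟨b, hb, rfl⟩, rfl⟩
      rw [SemidirectProduct.inl_aut, map_inv]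
      exact mul_inv_eq_iff_eq_mul.2 h
  simp only [LineFormula] at hF ⊢
  simp only [hfix]
  have hmapb : ε.mapSubgroup (⊥ : Subgroup C) = ⊥ := map_bot ε.mapSubgroup
  have hmapt : ε.mapSubgroup (⊤ : Subgroup C) = ⊤ := map_top ε.mapSubgroup
  rw [hmapb, hmapt]
  have hcard : ∀ Z : Subgroup C, Nat.card (ε.mapSubgroup Z) = Nat.card Z := fun Z =>
    Subgroup.card_map_of_injective (f := ε.toMonoidHom) ε.injective
  have hset : (Finset.univ.filter fun Z : Subgroup E => Nat.card Z = p) =
      (Finset.univ.filter fun Z : Subgroup C => Nat.card Z = p).map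
        ε.mapSubgroup.toEquiv.toEmbedding := by
    ext Z
    obtain ⟨Z', rfl⟩ := ε.mapSubgroup.surjective Z
    simp only [Finset.mem_map_equiv, Finset.mem_filter, Finset.mem_univ, true_and]
    rw [hcard]
    simp
  rw [hset, Finset.card_map, Finset.prod_map] at hF
  exact hF

/-- The factor of one coset of a central subgroup of order `p`. -/
theorem prod_coset_le {p : ℕ} [Fact p.Prime] {P : Type v} [Group P] [Finite P] (hP : IsPGroup p P)
    {V : Type u} [Group V] [Finite V] (hV : ¬ p ∣ Nat.card V) (φ : P →* MulAut V) {z : P}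
    (hz : orderOf z = p) (hzc : z ∈ Subgroup.center P) (x : P) :
    (∏ i : Fin p, Nat.card (fixBy φ (Subgroup.zpowers (x * z ^ (i : ℕ))))) *
        Nat.card (fixBy φ (Subgroup.zpowers z)) ≤
      Nat.card V * Nat.card ↥(fixBy φ (Subgroup.zpowers x) ⊓ fixBy φ (Subgroup.zpowers z)) ^ p := by
  classical
  have hp := (Fact.out : p.Prime)
  set W := fixBy φ (Subgroup.zpowers z) with hW
  have hWV : Nat.card W ≤ Nat.card V := Nat.card_le_card_of_injective _ W.subtype_injective
  by_cases hxz : x ∈ Subgroup.zpowers z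
  · -- the coset is the subgroup itself
    obtain ⟨j, hj, rfl⟩ : ∃ j, j < p ∧ z ^ j = x := by
      obtain ⟨j, hj, hjx⟩ := Finset.mem_image.1 ((mem_zpowers_iff_mem_range_orderOf).1 hxz)
      exact ⟨j, hz ▸ Finset.mem_range.1 hj, hjx⟩
    have hinf : fixBy φ (Subgroup.zpowers (z ^ j)) ⊓ W = W :=
      inf_eq_right.2 fun v hv b hb => hv b (Subgroup.zpowers_le.2 (Subgroup.npow_mem_zpowers z j) hb)
    rw [hinf]
    let i₀ : Fin p := ⟨(p - j) % p, Nat.mod_lt _ hp.pos⟩
    have hval : ∀ i : Fin p, i ≠ i₀ →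
        Nat.card (fixBy φ (Subgroup.zpowers (z ^ j * z ^ (i : ℕ)))) = Nat.card W := by
      intro i hi
      suffices heq : Subgroup.zpowers (z ^ j * z ^ (i : ℕ)) = Subgroup.zpowers z by rw [hW, heq]
      refine le_antisymm (Subgroup.zpowers_le.2 (Subgroup.mul_mem _ (Subgroup.npow_mem_zpowers _ _)
        (Subgroup.npow_mem_zpowers _ _))) (Subgroup.zpowers_le.2 ?_)
      rw [← pow_add, mem_zpowers_pow_iff, hz, Nat.gcd_comm]
      refine (hp.coprime_iff_not_dvd).2 fun hd => hi (Fin.ext ?_)
      show (i : ℕ) = (p - j) % p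
      have hi' := i.2
      obtain ⟨t, ht⟩ := hd
      have ht2 : t < 2 := by
        by_contra h
        have := Nat.mul_le_mul_left p (not_lt.1 h)
        omega
      interval_cases t
      · have h0 : j = 0 := by omega
        subst h0
        rw [Nat.sub_zero, Nat.mod_self]
        omega
      · rcases Nat.eq_zero_or_pos j with h0 | h0
        · omega
        · rw [Nat.mod_eq_of_lt (by omega)]
          omega
    rw [← Finset.mul_prod_erase Finset.univ _ (Finset.mem_univ i₀),
      Finset.prod_congr rfl fun i hi => hval i (Finset.ne_of_mem_erase hi), Finset.prod_const,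
      Finset.card_erase_of_mem (Finset.mem_univ _), Finset.card_univ, Fintype.card_fin, mul_assoc,
      ← pow_succ, Nat.sub_add_cancel hp.one_le]
    exact Nat.mul_le_mul_right _ (Nat.card_le_card_of_injective _ (Subgroup.subtype_injective _))
  by_cases hzx : z ∈ Subgroup.zpowers x
  · -- all elements of the coset generate the same subgroup
    have hsame : ∀ i : ℕ, Subgroup.zpowers (x * z ^ i) = Subgroup.zpowers x := by
      intro i
      have hle : Subgroup.zpowers (x * z ^ i) ≤ Subgroup.zpowers x :=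
        Subgroup.zpowers_le.2 (Subgroup.mul_mem _ (Subgroup.mem_zpowers x) (Subgroup.pow_mem _ hzx i))
      refine Subgroup.eq_of_le_of_card_ge hle ?_
      rw [Nat.card_zpowers, Nat.card_zpowers]
      obtain ⟨k, hk⟩ := hP x
      obtain ⟨a, -, ha⟩ := (Nat.dvd_prime_pow hp).1 (orderOf_dvd_of_pow_eq_one hk)
      obtain ⟨a, rfl⟩ : ∃ a', a = a' + 2 := ⟨a - 2, by
        rcases Nat.lt_or_ge a 2 with h | h
        · exfalso
          refine hxz ?_
          have heq : Subgroup.zpowers z = Subgroup.zpowers x := by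
            refine Subgroup.eq_of_le_of_card_ge (Subgroup.zpowers_le.2 hzx) ?_
            rw [Nat.card_zpowers, Nat.card_zpowers, ha, hz]
            calc p ^ a ≤ p ^ 1 := Nat.pow_le_pow_right hp.pos (by omega)
              _ = p := pow_one p
          rw [heq]; exact Subgroup.mem_zpowers x
        · omega⟩
      have hc : Commute x (z ^ i) := (show Commute x z from Subgroup.mem_center_iff.1 hzc x).pow_right i
      have h1 : (x * z ^ i) ^ p ^ (a + 1) = x ^ p ^ (a + 1) := by
        have hz1 : (z ^ i) ^ p ^ (a + 1) = 1 := by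
          rw [← pow_mul, mul_comm, pow_mul, pow_succ', pow_mul, ← hz, pow_orderOf_eq_one, one_pow,
            one_pow]
        rw [hc.mul_pow, hz1, mul_one]
      have h2 : orderOf (x * z ^ i) = p ^ (a + 2) := by
        refine orderOf_eq_prime_pow (by
          rw [h1]
          exact pow_ne_one_of_lt_orderOf (pow_ne_zero _ hp.ne_zero)
            (by rw [ha]; exact Nat.pow_lt_pow_right hp.one_lt (by omega))) ?_
        rw [pow_succ p (a + 1), pow_mul, h1, ← pow_mul, ← pow_succ, ← ha, pow_orderOf_eq_one]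
      rw [ha, h2]
    have hinf : fixBy φ (Subgroup.zpowers x) ⊓ W = fixBy φ (Subgroup.zpowers x) :=
      inf_eq_left.2 fun v hv b hb => hv b (Subgroup.zpowers_le.2 hzx hb)
    rw [hinf]
    simp only [hsame, Finset.prod_const, Finset.card_univ, Fintype.card_fin]
    rw [mul_comm]
    exact Nat.mul_le_mul_right _ hWV
  -- a quotient of `⟨x, z⟩` of order `p²` acts on the fixed points of `x ^ p`
  set U := fixBy φ (Subgroup.zpowers (x ^ p)) with hU
  have hcxz : Commute x z := Subgroup.mem_center_iff.1 hzc x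
  have hinv : ∀ (g : P), Commute g x → U.map (φ g).toMonoidHom = U := by
    intro g hg
    have hstep : ∀ g : P, Commute g x → ∀ v ∈ U, φ g v ∈ U := by
      intro g hg v hv
      rw [hU, mem_fixBy_zpowers] at hv ⊢
      rw [← MulAut.mul_apply, ← map_mul, ← (hg.pow_right p).eq, map_mul, MulAut.mul_apply, hv]
    refine le_antisymm (by rintro _ ⟨v, hv, rfl⟩; exact hstep g hg v hv) fun v hv => ?_
    exact ⟨φ g⁻¹ v, hstep _ hg.inv_left v hv, by
      show φ g (φ g⁻¹ v) = v
      rw [← MulAut.mul_apply, ← map_mul, mul_inv_cancel, map_one]; rfl⟩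
  let C := Multiplicative (ZMod p × ZMod p)
  have hel : ∀ c : C, Commute (x ^ (c.toAdd.1).val * z ^ (c.toAdd.2).val) x := fun c =>
    ((Commute.refl x).pow_left _).mul_left ((hcxz.symm).pow_left _)
  have hxp : ∀ (i : ℕ) (v : V), v ∈ U → φ (x ^ i) v = φ (x ^ (i % p)) v := by
    intro i v hv
    conv_lhs => rw [← Nat.mod_add_div i p, pow_add, map_mul, MulAut.mul_apply, pow_mul]
    congr 1
    exact hv _ (Subgroup.npow_mem_zpowers _ _)
  have hzp : ∀ i : ℕ, z ^ i = z ^ (i % p) := fun i => by rw [← hz, pow_mod_orderOf]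
  have hcomp : ∀ (i j k l : ℕ) (v : V), v ∈ U →
      φ (x ^ i * z ^ j) (φ (x ^ k * z ^ l) v) = φ (x ^ ((i + k) % p) * z ^ ((j + l) % p)) v := by
    intro i j k l v hv
    have h1 : x ^ i * z ^ j * (x ^ k * z ^ l) = z ^ (j + l) * x ^ (i + k) := by
      calc x ^ i * z ^ j * (x ^ k * z ^ l) = x ^ i * (z ^ j * x ^ k) * z ^ l := by group
        _ = x ^ i * (x ^ k * z ^ j) * z ^ l := by rw [(hcxz.pow_pow k j).eq]
        _ = x ^ (i + k) * z ^ (j + l) := by rw [pow_add, pow_add]; group
        _ = z ^ (j + l) * x ^ (i + k) := (hcxz.pow_pow _ _).eq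
    rw [← MulAut.mul_apply, ← map_mul, h1, map_mul, MulAut.mul_apply, hxp _ _ hv,
      ← MulAut.mul_apply, ← map_mul, ← (hcxz.pow_pow _ _).eq, ← hzp]
  let ψ : C →* MulAut U := MonoidHom.mk'
    (fun c => (((φ (x ^ (c.toAdd.1).val * z ^ (c.toAdd.2).val))).subgroupMap U).trans
      (MulEquiv.subgroupCongr (hinv _ (hel c))))
    (fun a b => MulEquiv.ext fun v => Subtype.ext (by
      show φ (x ^ (a.toAdd.1 + b.toAdd.1).val * z ^ (a.toAdd.2 + b.toAdd.2).val) (v : V) =
        φ (x ^ (a.toAdd.1).val * z ^ (a.toAdd.2).val) (φ (x ^ (b.toAdd.1).val * z ^ (b.toAdd.2).val) (v : V))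
      rw [hcomp _ _ _ _ _ v.2, ZMod.val_add, ZMod.val_add]))
  haveI : Fact (1 < p) := ⟨hp.one_lt⟩
  haveI := Fintype.ofFinite (Subgroup C)
  have hexp : ∀ c : C, c ^ p = 1 := fun c =>
    Multiplicative.toAdd.injective (by
      rw [toAdd_pow, toAdd_one]
      ext <;> simp)
  have hCc : Nat.card C = p ^ 2 := by
    rw [Nat.card_congr Multiplicative.toAdd, Nat.card_prod, Nat.card_zmod, sq]
  have hUp : ¬ p ∣ Nat.card U := fun h => hV (h.trans U.card_subgroup_dvd_card)
  have hL := lineFormula_of_coprime ψ mul_comm hexp hCc hUp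
  simp only [LineFormula] at hL
  rw [card_lines hexp hCc, Nat.add_sub_cancel, card_fixBy_bot] at hL
  -- the lines
  let ℓ : Option (Fin p) → Subgroup C := fun o => match o with
    | none => Subgroup.zpowers (Multiplicative.ofAdd ((0, 1) : ZMod p × ZMod p))
    | some i => Subgroup.zpowers (Multiplicative.ofAdd ((1, ((i : ℕ) : ZMod p)) : ZMod p × ZMod p))
  have hne : ∀ o, Nat.card (ℓ o) = p := by
    intro o
    rcases o with _ | i <;>
    · show Nat.card (Subgroup.zpowers _) = p
      rw [Nat.card_zpowers]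
      refine orderOf_eq_prime (hexp _) fun h => ?_
      simpa using congrArg Multiplicative.toAdd h
  have hinj : Function.Injective ℓ := by
    intro o o' h
    have key : ∀ (a b : ZMod p × ZMod p), Subgroup.zpowers (Multiplicative.ofAdd a) =
        Subgroup.zpowers (Multiplicative.ofAdd b) → ∃ k : ℤ, (k : ZMod p) * a.1 = b.1 ∧ (k : ZMod p) * a.2 = b.2 := by
      intro a b hab
      obtain ⟨k, hk⟩ := Subgroup.mem_zpowers_iff.1
        (hab.symm ▸ Subgroup.mem_zpowers (Multiplicative.ofAdd b) :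
          Multiplicative.ofAdd b ∈ Subgroup.zpowers (Multiplicative.ofAdd a))
      have := congrArg Multiplicative.toAdd hk
      rw [toAdd_zpow, toAdd_ofAdd, toAdd_ofAdd] at this
      refine ⟨k, ?_, ?_⟩
      · simpa using congrArg Prod.fst this
      · simpa using congrArg Prod.snd this
    rcases o with _ | i <;> rcases o' with _ | i'
    · rfl
    · obtain ⟨k, h1, -⟩ := key _ _ h
      simp at h1
    · obtain ⟨k, h1, -⟩ := key _ _ h.symm
      simp at h1
    · obtain ⟨k, h1, h2⟩ := key _ _ h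
      simp only [mul_one] at h1
      simp only [h1, one_mul] at h2
      congr 1
      refine Fin.ext ?_
      have := congrArg ZMod.val h2
      rwa [ZMod.val_natCast, ZMod.val_natCast, Nat.mod_eq_of_lt i.2, Nat.mod_eq_of_lt i'.2] at this
  have himg : (Finset.univ.filter fun Z : Subgroup C => Nat.card Z = p) = Finset.univ.image ℓ := by
    refine (Finset.eq_of_subset_of_card_le ?_ ?_).symm
    · intro Z hZ
      obtain ⟨o, -, rfl⟩ := Finset.mem_image.1 hZ
      exact Finset.mem_filter.2 ⟨Finset.mem_univ _, hne o⟩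
    · rw [card_lines hexp hCc, Finset.card_image_of_injective _ hinj, Finset.card_univ,
        Fintype.card_option, Fintype.card_fin]
  rw [himg, Finset.prod_image hinj.injOn, Fintype.prod_option] at hL
  -- translate the fixed subgroups
  have hline : ∀ (a : ZMod p × ZMod p) (g : P), x ^ a.1.val * z ^ a.2.val = g →
      fixBy φ (Subgroup.zpowers g) ≤ U →
      Nat.card (fixBy ψ (Subgroup.zpowers (Multiplicative.ofAdd a))) =
        Nat.card (fixBy φ (Subgroup.zpowers g)) := by
    intro a g hg hle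
    rw [← Subgroup.card_map_of_injective U.subtype_injective]
    refine congrArg (fun S : Subgroup _ => Nat.card S) (Subgroup.ext fun v => ?_)
    constructor
    · rintro ⟨w, hw, rfl⟩
      rw [SetLike.mem_coe, mem_fixBy_zpowers] at hw
      rw [mem_fixBy_zpowers, ← hg]
      exact congrArg Subtype.val hw
    · intro hv
      refine ⟨⟨v, hle hv⟩, (mem_fixBy_zpowers ψ).2 (Subtype.ext ?_), rfl⟩
      show φ (x ^ a.1.val * z ^ a.2.val) v = v
      rw [hg]; exact (mem_fixBy_zpowers φ).1 hv
  have hsome : ∀ i : Fin p, Nat.card (fixBy ψ (ℓ (some i))) =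
      Nat.card (fixBy φ (Subgroup.zpowers (x * z ^ (i : ℕ)))) := by
    intro i
    refine hline _ _ ?_ fun v hv => ?_
    · rw [ZMod.val_one, pow_one, ZMod.val_natCast, Nat.mod_eq_of_lt i.2]
    · rw [hU, mem_fixBy_zpowers]
      have h := hv _ (Subgroup.npow_mem_zpowers (x * z ^ (i : ℕ)) p)
      have hzp1 : z ^ p = 1 := by rw [← hz]; exact pow_orderOf_eq_one z
      rwa [((hcxz).pow_right _).mul_pow, ← pow_mul, mul_comm (i : ℕ) p, pow_mul, hzp1,
        one_pow, mul_one] at h
  have hnone : Nat.card (fixBy ψ (ℓ none)) = Nat.card ↥(U ⊓ W) := by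
    rw [← Subgroup.card_map_of_injective U.subtype_injective]
    refine congrArg (fun S : Subgroup _ => Nat.card S) (Subgroup.ext fun v => ?_)
    rw [Subgroup.mem_inf]
    constructor
    · rintro ⟨w, hw, rfl⟩
      rw [SetLike.mem_coe, mem_fixBy_zpowers] at hw
      refine ⟨w.2, (mem_fixBy_zpowers φ).2 ?_⟩
      have h := congrArg Subtype.val hw
      change φ (x ^ (0 : ZMod p).val * z ^ (1 : ZMod p).val) (w : V) = w at h
      rwa [ZMod.val_zero, pow_zero, one_mul, ZMod.val_one, pow_one] at h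
    · rintro ⟨h1, h2⟩
      refine ⟨⟨v, h1⟩, (mem_fixBy_zpowers ψ).2 (Subtype.ext ?_), rfl⟩
      show φ (x ^ (0 : ZMod p).val * z ^ (1 : ZMod p).val) v = v
      rw [ZMod.val_zero, pow_zero, one_mul, ZMod.val_one, pow_one]
      exact (mem_fixBy_zpowers φ).1 h2
  have htop : Nat.card (fixBy ψ ⊤) = Nat.card ↥(fixBy φ (Subgroup.zpowers x) ⊓ W) := by
    rw [← Subgroup.card_map_of_injective U.subtype_injective]
    refine congrArg (fun S : Subgroup _ => Nat.card S) (Subgroup.ext fun v => ?_)
    rw [Subgroup.mem_inf, hW, mem_fixBy_zpowers, mem_fixBy_zpowers]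
    constructor
    · rintro ⟨w, hw, rfl⟩
      have h1 := congrArg Subtype.val (hw (Multiplicative.ofAdd (1, 0)) (Subgroup.mem_top _))
      have h2 := congrArg Subtype.val (hw (Multiplicative.ofAdd (0, 1)) (Subgroup.mem_top _))
      change φ (x ^ (1 : ZMod p).val * z ^ (0 : ZMod p).val) (w : V) = w at h1
      change φ (x ^ (0 : ZMod p).val * z ^ (1 : ZMod p).val) (w : V) = w at h2
      rw [ZMod.val_zero, pow_zero, ZMod.val_one, pow_one, mul_one] at h1
      rw [ZMod.val_zero, pow_zero, one_mul, ZMod.val_one, pow_one] at h2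
      exact ⟨h1, h2⟩
    · rintro ⟨h1, h2⟩
      have hx : ∀ k : ℕ, φ (x ^ k) v = v := fun k =>
        (mem_fixBy_zpowers φ).2 h1 _ (Subgroup.npow_mem_zpowers x k)
      have hz' : ∀ k : ℕ, φ (z ^ k) v = v := fun k =>
        (mem_fixBy_zpowers φ).2 h2 _ (Subgroup.npow_mem_zpowers z k)
      refine ⟨⟨v, (mem_fixBy_zpowers φ).2 (hx p)⟩, fun b _ => Subtype.ext ?_, rfl⟩
      show φ (x ^ (b.toAdd.1).val * z ^ (b.toAdd.2).val) v = v
      rw [map_mul, MulAut.mul_apply, hz', hx]
  rw [hnone, htop] at hL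
  simp only [hsome] at hL
  -- the product formula
  have hlat : Nat.card U * Nat.card W ≤ Nat.card ↥(U ⊓ W) * Nat.card V :=
    (CfsgLib.LocalEvenBasic.card_mul_le_inf_mul_sup U W).trans
      (Nat.mul_le_mul_left _ (Nat.card_le_card_of_injective _ (Subgroup.subtype_injective _)))
  refine Nat.le_of_mul_le_mul_left ?_ (Nat.card_pos (α := ↥(U ⊓ W)))
  calc Nat.card ↥(U ⊓ W) * ((∏ i : Fin p, Nat.card (fixBy φ (Subgroup.zpowers (x * z ^ (i : ℕ))))) *
          Nat.card W)
      = Nat.card U * Nat.card ↥(fixBy φ (Subgroup.zpowers x) ⊓ W) ^ p * Nat.card W := by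
        rw [← mul_assoc, ← hL]
    _ = Nat.card U * Nat.card W * Nat.card ↥(fixBy φ (Subgroup.zpowers x) ⊓ W) ^ p := by ring
    _ ≤ Nat.card ↥(U ⊓ W) * Nat.card V * Nat.card ↥(fixBy φ (Subgroup.zpowers x) ⊓ W) ^ p :=
        Nat.mul_le_mul_right _ hlat
    _ = _ := by ring

/-- The product of the fixed point numbers. -/
theorem prod_fixed_le {p : ℕ} [Fact p.Prime] {P : Type v} [Group P] [Fintype P] (hP : IsPGroup p P)
    {V : Type u} [Group V] [Finite V] (hV : ¬ p ∣ Nat.card V) (φ : P →* MulAut V) :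
    (∏ x : P, Nat.card (fixBy φ (Subgroup.zpowers x))) ^ p ≤
      Nat.card V ^ Fintype.card P * Nat.card (fixBy φ ⊤) ^ (Fintype.card P * (p - 1)) := by
  induction hn : Fintype.card P using Nat.strong_induction_on generalizing P V with
  | _ n ih =>
  subst hn
  classical
  have hp := (Fact.out : p.Prime)
  rcases subsingleton_or_nontrivial P with hs | hnt
  · have hall : ∀ B : Subgroup P, fixBy φ B = ⊤ := fun B => top_unique fun v _ b _ => by
      rw [Subsingleton.elim b 1, map_one]; rfl
    simp only [hall, Subgroup.card_top, Finset.prod_const, Finset.card_univ]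
    rw [show Fintype.card P = 1 from Fintype.card_eq_one_iff.2 ⟨1, fun a => Subsingleton.elim _ _⟩,
      pow_one, one_mul, ← pow_succ', Nat.sub_add_cancel hp.one_le]
  obtain ⟨z, hzc, hz⟩ : ∃ z ∈ Subgroup.center P, orderOf z = p := by
    haveI := hP.center_nontrivial
    obtain ⟨c, hc⟩ := exists_prime_orderOf_dvd_card' (G := Subgroup.center P) p
      ((hP.to_subgroup _).card_eq_or_dvd.resolve_left Finite.one_lt_card.ne')
    exact ⟨c, c.2, by rw [Subgroup.orderOf_coe, hc]⟩
  set Z := Subgroup.zpowers z with hZ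
  haveI hZn : Z.Normal := ⟨fun u hu g => by
    have := Subgroup.zpowers_le.2 hzc hu
    rw [Subgroup.mem_center_iff.1 this g, mul_inv_cancel_right]; exact hu⟩
  set W := fixBy φ Z with hWdef
  have hWinv : ∀ g : P, W.map (φ g).toMonoidHom = W := by
    have hstep : ∀ g : P, ∀ v ∈ W, φ g v ∈ W := by
      intro g v hv
      rw [hWdef, hZ, mem_fixBy_zpowers] at hv ⊢
      rw [← MulAut.mul_apply, ← map_mul, ← Subgroup.mem_center_iff.1 hzc g, map_mul,
        MulAut.mul_apply, hv]
    intro g
    refine le_antisymm (by rintro _ ⟨v, hv, rfl⟩; exact hstep g v hv) fun v hv => ?_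
    exact ⟨φ g⁻¹ v, hstep _ v hv, by
      show φ g (φ g⁻¹ v) = v
      rw [← MulAut.mul_apply, ← map_mul, mul_inv_cancel, map_one]; rfl⟩
  let φW := restrictAction φ W hWinv
  have hker : Z ≤ φW.ker := fun u hu => MonoidHom.mem_ker.2 (MulEquiv.ext fun w => Subtype.ext (w.2 u hu))
  let φQ : P ⧸ Z →* MulAut W := QuotientGroup.lift Z φW hker
  haveI := Fintype.ofFinite (P ⧸ Z)
  have hcardP : Fintype.card P = Fintype.card (P ⧸ Z) * p := by
    rw [← Nat.card_eq_fintype_card, ← Nat.card_eq_fintype_card,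
      Subgroup.card_eq_card_quotient_mul_card_subgroup Z, Nat.card_zpowers, hz]
  have hlt : Fintype.card (P ⧸ Z) < Fintype.card P := by
    rw [hcardP]; exact lt_mul_of_one_lt_right Fintype.card_pos hp.one_lt
  have hIH := ih _ hlt (P := P ⧸ Z) (V := W) (hP.to_quotient Z)
    (fun h => hV (h.trans W.card_subgroup_dvd_card)) φQ rfl
  let s : P ⧸ Z → P := Quotient.out
  have hs : ∀ q : P ⧸ Z, ((s q : P) : P ⧸ Z) = q := fun q => Quotient.out_eq' q
  have hfixQ : ∀ q : P ⧸ Z, Nat.card (fixBy φQ (Subgroup.zpowers q)) =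
      Nat.card ↥(fixBy φ (Subgroup.zpowers (s q)) ⊓ W) := by
    intro q
    rw [← Subgroup.card_map_of_injective W.subtype_injective]
    refine congrArg (fun S : Subgroup _ => Nat.card S) (Subgroup.ext fun v => ?_)
    rw [Subgroup.mem_inf, mem_fixBy_zpowers]
    constructor
    · rintro ⟨w, hw, rfl⟩
      rw [SetLike.mem_coe, mem_fixBy_zpowers, ← hs q] at hw
      exact ⟨congrArg Subtype.val hw, w.2⟩
    · rintro ⟨h1, h2⟩
      refine ⟨⟨v, h2⟩, ?_, rfl⟩
      rw [SetLike.mem_coe, mem_fixBy_zpowers, ← hs q]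
      exact Subtype.ext h1
  have hfixT : Nat.card (fixBy φQ ⊤) = Nat.card (fixBy φ ⊤) := by
    rw [← Subgroup.card_map_of_injective W.subtype_injective]
    refine congrArg (fun S : Subgroup _ => Nat.card S) (Subgroup.ext fun v => ?_)
    rw [mem_fixBy_top]
    constructor
    · rintro ⟨w, hw, rfl⟩ b
      exact congrArg Subtype.val (hw (b : P ⧸ Z) (Subgroup.mem_top _))
    · intro h
      refine ⟨⟨v, fun b _ => h b⟩, ?_, rfl⟩
      intro q _
      obtain ⟨g, rfl⟩ := QuotientGroup.mk_surjective q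
      exact Subtype.ext (h g)
  -- split into cosets
  let e : (P ⧸ Z) × Fin p ≃ P := Equiv.ofBijective (fun w => s w.1 * z ^ (w.2 : ℕ)) (by
    rw [Fintype.bijective_iff_injective_and_card]
    refine ⟨?_, by rw [Fintype.card_prod, Fintype.card_fin, hcardP]⟩
    rintro ⟨q, i⟩ ⟨q', i'⟩ h
    have hq : q = q' := by
      have h' := congrArg (fun g : P => (g : P ⧸ Z)) h
      simp only [QuotientGroup.mk_mul, hs] at h'
      rwa [(QuotientGroup.eq_one_iff _).2 (Subgroup.npow_mem_zpowers z _),
        (QuotientGroup.eq_one_iff _).2 (Subgroup.npow_mem_zpowers z _), mul_one, mul_one] at h'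
    subst hq
    refine Prod.ext rfl (Fin.ext ?_)
    exact pow_injOn_Iio_orderOf (by simp [hz]) (by simp [hz]) (mul_left_cancel h))
  have hA : (∏ x : P, Nat.card (fixBy φ (Subgroup.zpowers x))) * Nat.card W ^ Fintype.card (P ⧸ Z) ≤
      Nat.card V ^ Fintype.card (P ⧸ Z) *
        (∏ q : P ⧸ Z, Nat.card (fixBy φQ (Subgroup.zpowers q))) ^ p := by
    rw [← e.prod_comp, Fintype.prod_prod_type, ← Finset.card_univ, ← Finset.prod_const,
      ← Finset.prod_const, ← Finset.prod_pow, ← Finset.prod_mul_distrib, ← Finset.prod_mul_distrib]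
    exact Finset.prod_le_prod' fun q _ => by
      rw [hfixQ q]; exact prod_coset_le hP hV φ hz hzc (s q)
  set M := Fintype.card (P ⧸ Z) with hM
  rw [hfixT] at hIH
  rw [hcardP]
  refine Nat.le_of_mul_le_mul_right (c := Nat.card W ^ (M * p)) ?_ (pow_pos Nat.card_pos _)
  calc (∏ x : P, Nat.card (fixBy φ (Subgroup.zpowers x))) ^ p * Nat.card W ^ (M * p)
      = ((∏ x : P, Nat.card (fixBy φ (Subgroup.zpowers x))) * Nat.card W ^ M) ^ p := by
        rw [mul_pow, ← pow_mul]
    _ ≤ (Nat.card V ^ M * (∏ q : P ⧸ Z, Nat.card (fixBy φQ (Subgroup.zpowers q))) ^ p) ^ p :=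
        Nat.pow_le_pow_left hA p
    _ = Nat.card V ^ (M * p) * ((∏ q : P ⧸ Z, Nat.card (fixBy φQ (Subgroup.zpowers q))) ^ p) ^ p := by
        rw [mul_pow, ← pow_mul]
    _ ≤ Nat.card V ^ (M * p) *
        (Nat.card W ^ M * Nat.card (fixBy φ ⊤) ^ (M * (p - 1))) ^ p :=
        Nat.mul_le_mul_left _ (Nat.pow_le_pow_left hIH p)
    _ = _ := by
        rw [mul_pow, ← pow_mul, ← pow_mul, show M * (p - 1) * p = M * p * (p - 1) by ring]
        ring

end CfsgLib.FGS
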