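import Cfsg.Prelude.Def_Solvable
import Mathlib.GroupTheory.Sylow

/-!
A normal subgroup and a complement acting on it without fixed points form a Frobenius group.
-/

namespace CfsgLib.FGS

open scoped Pointwise

/-- Fixed point free complement: Frobenius complement, with kernel the normal subgroup. -/
theorem frobenius_of_fpf_top {G : Type*} [Group G] [Finite G] {N H : Subgroup G} [N.Normal]
    (hN : N ≠ ⊥) (hH : H ≠ ⊥) (htop : N ⊔ H = ⊤) (hdis : N ⊓ H = ⊥)
    (hfpf : ∀ h ∈ H, h ≠ 1 → ∀ n ∈ N, n * h = h * n → n = 1) :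
    Cfsg.IsFrobeniusComplement H ∧ Cfsg.frobeniusKernel H = (N : Set G) := by
  have hnorm : N.Normal := inferInstance
  have hmem : ∀ {g : G} {x : G}, x ∈ MulAut.conj g • H ↔ g⁻¹ * x * g ∈ H := by
    intro g x
    rw [Subgroup.mem_pointwise_smul_iff_inv_smul_mem]
    simp [MulAut.smul_def, mul_assoc]
  have hdec : ∀ g : G, ∃ n ∈ N, ∃ h ∈ H, n * h = g := fun g =>
    Subgroup.mem_sup_of_normal_left.1 (htop ▸ Subgroup.mem_top g)
  refine ⟨⟨hH, fun h => hN (by rwa [h, inf_top_eq] at hdis), fun g hg => ?_⟩, ?_⟩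
  · obtain ⟨n, hn, h, hh, rfl⟩ := hdec g
    rw [eq_bot_iff]
    intro x hx
    obtain ⟨hxH, hxg⟩ := Subgroup.mem_inf.1 hx
    rw [hmem] at hxg
    have hy : n⁻¹ * x * n ∈ H := by
      have h1 := H.mul_mem (H.mul_mem hh hxg) (H.inv_mem hh)
      rwa [show h * ((n * h)⁻¹ * x * (n * h)) * h⁻¹ = n⁻¹ * x * n by group] at h1
    have hz : x⁻¹ * (n⁻¹ * x * n) ∈ N ⊓ H := by
      refine ⟨?_, H.mul_mem (H.inv_mem hxH) hy⟩
      rw [show x⁻¹ * (n⁻¹ * x * n) = x⁻¹ * n⁻¹ * x * n by group]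
      exact N.mul_mem (by simpa using hnorm.conj_mem _ (N.inv_mem hn) x⁻¹) hn
    rw [hdis, Subgroup.mem_bot] at hz
    rw [Subgroup.mem_bot]
    by_contra hx1
    have hc : n * x = x * n := by
      calc n * x = n * x * (x⁻¹ * (n⁻¹ * x * n)) := by rw [hz, mul_one]
        _ = x * n := by group
    rw [hfpf x hxH hx1 n hn hc, one_mul] at hg
    exact hg hh
  · ext x
    constructor
    · intro hx
      rcases hx with rfl | hx
      · exact N.one_mem
      obtain ⟨n, hn, h, hh, rfl⟩ := hdec x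
      rcases eq_or_ne h 1 with rfl | h1
      · simpa using hn
      let φ : N → N := fun m => ⟨(m : G) * (h * (m : G)⁻¹ * h⁻¹),
        N.mul_mem m.2 (hnorm.conj_mem _ (N.inv_mem m.2) h)⟩
      have hinj : Function.Injective φ := by
        intro m m' he
        have he' : (m : G) * (h * (m : G)⁻¹ * h⁻¹) = (m' : G) * (h * (m' : G)⁻¹ * h⁻¹) :=
          congrArg Subtype.val he
        have hc : ((m' : G)⁻¹ * m) * h = h * ((m' : G)⁻¹ * m) := by
          calc ((m' : G)⁻¹ * m) * h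
              = (m' : G)⁻¹ * ((m : G) * (h * (m : G)⁻¹ * h⁻¹)) * (h * m) := by group
            _ = (m' : G)⁻¹ * ((m' : G) * (h * (m' : G)⁻¹ * h⁻¹)) * (h * m) := by rw [he']
            _ = h * ((m' : G)⁻¹ * m) := by group
        exact Subtype.ext (inv_mul_eq_one.1 (hfpf h hh h1 _ (N.mul_mem (N.inv_mem m'.2) m.2) hc)).symm
      obtain ⟨m, hm⟩ := (Finite.injective_iff_surjective.1 hinj) ⟨n, hn⟩
      have hm' : (m : G) * (h * (m : G)⁻¹ * h⁻¹) = n := congrArg Subtype.val hm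
      refine absurd (hmem.2 ?_) (hx (m : G))
      rw [← hm', show (m : G)⁻¹ * ((m : G) * (h * (m : G)⁻¹ * h⁻¹) * h) * m = h by group]
      exact hh
    · intro hx
      rcases eq_or_ne x 1 with rfl | hx1
      · exact Or.inl rfl
      refine Or.inr fun g hg => hx1 ?_
      rw [hmem] at hg
      have h1 : g⁻¹ * x * g ∈ N ⊓ H := ⟨by simpa using hnorm.conj_mem _ hx g⁻¹, hg⟩
      rw [hdis, Subgroup.mem_bot] at h1
      calc x = g * (g⁻¹ * x * g) * g⁻¹ := by group
        _ = 1 := by rw [h1]; group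

/-- Subgroup version inside `N ⊔ H`. -/
theorem frobenius_of_fpf {G : Type*} [Group G] [Finite G] {N H : Subgroup G} [N.Normal]
    (hN : N ≠ ⊥) (hH : H ≠ ⊥) (hdis : N ⊓ H = ⊥)
    (hfpf : ∀ h ∈ H, h ≠ 1 → ∀ n ∈ N, n * h = h * n → n = 1) :
    Cfsg.IsFrobeniusComplement (H.subgroupOf (N ⊔ H)) ∧
      Cfsg.frobeniusKernel (H.subgroupOf (N ⊔ H)) = (N.subgroupOf (N ⊔ H) : Set ↥(N ⊔ H)) := by
  refine frobenius_of_fpf_top ?_ ?_ ?_ ?_ ?_
  · rw [ne_eq, Subgroup.subgroupOf_eq_bot, disjoint_iff, inf_eq_left.2 le_sup_left]; exact hN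
  · rw [ne_eq, Subgroup.subgroupOf_eq_bot, disjoint_iff, inf_eq_left.2 le_sup_right]; exact hH
  · rw [← Subgroup.subgroupOf_sup le_sup_left le_sup_right, Subgroup.subgroupOf_self]
  · rw [eq_bot_iff]
    rintro x ⟨h1, h2⟩
    have h3 : (x : G) ∈ N ⊓ H := ⟨h1, h2⟩
    rw [hdis, Subgroup.mem_bot] at h3
    exact Subtype.ext h3
  · intro h hh h1 n hn hc
    exact Subtype.ext (hfpf h hh (fun e => h1 (Subtype.ext e)) n hn (congrArg Subtype.val hc))

end CfsgLib.FGS
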