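import Cfsg.Agent.OddOrder.BG4.Metacyclic
import Mathlib.GroupTheory.Nilpotent

/-!
# The first two omega subgroups of a metacyclic `p`-group

`p` odd, no cyclic subgroup of index `p`.
-/

set_option autoImplicit false
set_option linter.style.haveILetI false

namespace CfsgLib.FGS

open scoped commutatorElement

/-- The power of a product in a group where the commutator commutes with both factors. -/
theorem mul_pow_central {G : Type*} [Group G] {x y e : G} (he : y * x = e * (x * y))
    (hx : Commute e x) (hy : Commute e y) (k : ℕ) :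
    (x * y) ^ k = e ^ k.choose 2 * (x ^ k * y ^ k) := by
  have hyk : ∀ j : ℕ, y ^ j * x = e ^ j * (x * y ^ j) := by
    intro j
    induction j with
    | zero => simp
    | succ j ih =>
      calc y ^ (j + 1) * x = y ^ j * (y * x) := by rw [pow_succ, mul_assoc]
        _ = y ^ j * e * (x * y) := by rw [he]; group
        _ = e * (y ^ j * x) * y := by rw [← (hy.pow_right j).eq]; group
        _ = e ^ (j + 1) * (x * y ^ (j + 1)) := by rw [ih, pow_succ' e, pow_succ y]; group
  induction k with
  | zero => simp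
  | succ k ih =>
    calc (x * y) ^ (k + 1) = e ^ k.choose 2 * (x ^ k * (y ^ k * x) * y) := by
          rw [pow_succ, ih]; group
      _ = e ^ k.choose 2 * ((x ^ k * e ^ k) * (x * y ^ k) * y) := by rw [hyk]; group
      _ = e ^ k.choose 2 * (e ^ k * (x ^ k * x) * (y ^ k * y)) := by
          rw [← (hx.pow_pow k k).eq]; group
      _ = e ^ (k + 1).choose 2 * (x ^ (k + 1) * y ^ (k + 1)) := by
          rw [← pow_succ, ← pow_succ, Nat.choose_succ_succ', Nat.choose_one_right, add_comm k, pow_add]
          group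

theorem mul_pow_of_central {G : Type*} [Group G] {p : ℕ} [Fact p.Prime] (hp : p ≠ 2) {x y e : G}
    (he : y * x = e * (x * y)) (hx : Commute e x) (hy : Commute e y) (hep : e ^ p = 1) :
    (x * y) ^ p = x ^ p * y ^ p := by
  have h2 : 2 < p := lt_of_le_of_ne (Fact.out : p.Prime).two_le (Ne.symm hp)
  obtain ⟨t, ht⟩ := (Fact.out : p.Prime).dvd_choose_self (k := 2) (by omega) h2
  rw [mul_pow_central he hx hy, ht, pow_mul, hep, one_pow, one_mul]

/-- A normal subgroup of order at most `p` of a `p`-group is central. -/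
theorem le_center_of_card_le {P : Type*} [Group P] [Finite P] {p : ℕ} [Fact p.Prime]
    (hP : IsPGroup p P) {K : Subgroup P} [K.Normal] (hK : Nat.card K ≤ p) :
    K ≤ Subgroup.center P := by
  rcases (hP.to_subgroup K).card_eq_or_dvd with h | h
  · rw [Subgroup.card_eq_one.1 h]; exact bot_le
  · exact CfsgLib.OddOrder.BG4.le_center_of_normal_card_prime hP
      (le_antisymm hK (Nat.le_of_dvd Nat.card_pos h))

/-- A normal subgroup of order `p²` in a `p`-group is centralised modulo its central part. -/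
theorem commutator_mem_center {P : Type*} [Group P] [Finite P] {p : ℕ} [Fact p.Prime]
    (hP : IsPGroup p P) {K : Subgroup P} [K.Normal] (hK : Nat.card K = p ^ 2) {g v : P}
    (hv : v ∈ K) : ⁅g, v⁆ ∈ Subgroup.center P := by
  haveI := hP.isNilpotent
  have hlt : ⁅K, (⊤ : Subgroup P)⁆ < K := by
    refine lt_of_le_of_ne (Subgroup.commutator_le_left K ⊤) fun e => ?_
    have hle : ∀ m, K ≤ (⊤ : Subgroup P).lowerCentralSeries m := by
      intro m
      induction m with
      | zero => exact le_top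
      | succ m ihm =>
        rw [Subgroup.lowerCentralSeries_succ]
        exact e.ge.trans (Subgroup.commutator_mono ihm le_rfl)
    have := (hle _).trans Subgroup.lowerCentralSeries_nilpotencyClass.le
    rw [le_bot_iff] at this
    rw [this, Subgroup.card_bot] at hK
    have := Nat.one_lt_pow two_ne_zero (Fact.out : p.Prime).one_lt
    omega
  have hcard : Nat.card (⁅K, (⊤ : Subgroup P)⁆ : Subgroup P) ≤ p := by
    obtain ⟨i, hi, hj⟩ := (Nat.dvd_prime_pow (Fact.out : p.Prime)).1
      (hK ▸ Subgroup.card_dvd_of_le hlt.le)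
    rcases Nat.lt_or_ge i 2 with h | h
    · rw [hj]
      calc p ^ i ≤ p ^ 1 := Nat.pow_le_pow_right (Fact.out : p.Prime).pos (by omega)
        _ = p := pow_one p
    · exact absurd (Subgroup.eq_of_le_of_card_ge hlt.le (by rw [hj, hK, le_antisymm hi h])) hlt.ne
  have h1 : ⁅v, g⁆ ∈ Subgroup.center P :=
    le_center_of_card_le hP hcard (Subgroup.commutator_mem_commutator hv (Subgroup.mem_top g))
  rw [← commutatorElement_inv v g]
  exact Subgroup.inv_mem _ h1

/-- Quotients of metacyclic groups are metacyclic. -/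
theorem isMetacyclic_quotient {R : Type*} [Group R] (V : Subgroup R) [V.Normal]
    (hm : Cfsg.IsMetacyclic R) : Cfsg.IsMetacyclic (R ⧸ V) := by
  obtain ⟨N, hN, hNc, hQc⟩ := hm
  haveI := hN
  haveI := hNc
  haveI := hQc
  haveI hN' : (N.map (QuotientGroup.mk' V)).Normal := hN.map _ (QuotientGroup.mk'_surjective V)
  refine ⟨N.map (QuotientGroup.mk' V), hN', ?_, ?_⟩
  · exact isCyclic_of_surjective ((QuotientGroup.mk' V).subgroupMap N)
      ((QuotientGroup.mk' V).subgroupMap_surjective N)
  · refine isCyclic_of_surjective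
      (QuotientGroup.lift N ((QuotientGroup.mk' (N.map (QuotientGroup.mk' V))).comp (QuotientGroup.mk' V))
        fun n hn => ?_) ?_
    · rw [MonoidHom.mem_ker, MonoidHom.comp_apply, QuotientGroup.mk'_apply, QuotientGroup.eq_one_iff]
      exact ⟨n, hn, rfl⟩
    · intro q
      obtain ⟨u, rfl⟩ := QuotientGroup.mk'_surjective _ q
      obtain ⟨r, rfl⟩ := QuotientGroup.mk'_surjective _ u
      exact ⟨(r : R ⧸ N), rfl⟩

/-- The derived subgroup of a metacyclic group is cyclic. -/
theorem isCyclic_commutator_of_isMetacyclic {R : Type*} [Group R] (hm : Cfsg.IsMetacyclic R) :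
    IsCyclic (commutator R) := by
  obtain ⟨N, hN, hNc, hQc⟩ := hm
  haveI := hN
  haveI := hNc
  haveI := hQc
  have hle : commutator R ≤ N := Subgroup.Normal.quotient_commutative_iff_commutator_le.1 inferInstance
  exact isCyclic_of_injective (Subgroup.inclusion hle) (Subgroup.inclusion_injective hle)

/-- `Ω₁` and `Ω₂` of a metacyclic group without cyclic subgroups of index `p`. -/
theorem exists_omega {L : Type*} [Group L] [Finite L] [Nontrivial L] {p : ℕ} [Fact p.Prime]
    (hp : p ≠ 2) (hL : IsPGroup p L) (hmc : Cfsg.IsMetacyclic L)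
    (hnc : ∀ C : Subgroup L, IsCyclic C → C.index ≠ p) :
    ∃ V W : Subgroup L, (∀ g, g ∈ V ↔ g ^ p = 1) ∧ Nat.card V = p ^ 2 ∧
      (∀ g, g ∈ W ↔ g ^ p ∈ V) ∧ Nat.card W = p ^ 4 ∧
      (∀ x ∈ W, ∀ y ∈ W, (x * y) ^ p = x ^ p * y ^ p ∧ Commute (y ^ p) x) ∧
      ∀ v ∈ V, ∃ y ∈ W, y ^ p = v := by
  classical
  have hpp := (Fact.out : p.Prime)
  obtain ⟨hcl, -, hcard⟩ := CfsgLib.OddOrder.BG4.card_pow_eq_one_of_isMetacyclic hp hL hmc
  let V : Subgroup L :=
    { carrier := {x | x ^ p = 1}
      one_mem' := one_pow p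
      mul_mem' := fun {a b} ha hb => (hcl a b ha hb).1
      inv_mem' := fun {a} (ha : a ^ p = 1) => show a⁻¹ ^ p = 1 by simp [ha] }
  have hLnc : ¬ IsCyclic L := by
    intro h
    obtain ⟨g, hg⟩ := IsCyclic.exists_ofOrder_eq_natCard (α := L)
    have hd : p ∣ orderOf g := by
      rw [hg]
      rcases hL.card_eq_or_dvd with h1 | h1
      · exact absurd h1 Finite.one_lt_card.ne'
      · exact h1
    refine hnc (Subgroup.zpowers (g ^ p)) inferInstance (Nat.eq_of_mul_eq_mul_left
      (Nat.card_pos (α := Subgroup.zpowers (g ^ p))) ?_)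
    rw [Subgroup.card_mul_index, Nat.card_zpowers, orderOf_pow, Nat.gcd_eq_right hd, ← hg,
      Nat.div_mul_cancel hd]
  have hVc : Nat.card V = p ^ 2 := hcard hLnc
  haveI hVn : V.Normal := ⟨fun x hx g => by
    show (g * x * g⁻¹) ^ p = 1
    rw [conj_pow, show x ^ p = 1 from hx]; group⟩
  have hQ : IsPGroup p (L ⧸ V) := hL.to_quotient V
  have hQnc : ¬ IsCyclic (L ⧸ V) := by
    intro h
    obtain ⟨q, hq⟩ := IsCyclic.exists_ofOrder_eq_natCard (α := L ⧸ V)
    obtain ⟨g, rfl⟩ := QuotientGroup.mk_surjective q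
    rw [← Subgroup.index_eq_card] at hq
    obtain ⟨t, ht⟩ := (hq ▸ orderOf_map_dvd (QuotientGroup.mk' V) g : V.index ∣ orderOf g)
    have hgo : (g ^ V.index) ^ p = 1 := by
      have h1 : g ^ V.index ∈ V := by
        rw [← QuotientGroup.eq_one_iff, QuotientGroup.mk_pow, ← hq, pow_orderOf_eq_one]
      exact h1
    have htp : t ∣ p := Nat.dvd_of_mul_dvd_mul_left (Nat.pos_of_ne_zero V.index_ne_zero_of_finite)
      (ht ▸ orderOf_dvd_of_pow_eq_one (by rw [pow_mul]; exact hgo))
    rcases (Nat.dvd_prime hpp).1 htp with rfl | rfl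
    · rw [mul_one] at ht
      obtain ⟨j, hj⟩ := IsPGroup.iff_card.1 hQ
      rw [← Subgroup.index_eq_card] at hj
      rcases j with _ | j
      · rw [pow_zero, Subgroup.index_eq_one] at hj
        obtain ⟨v, hv⟩ := exists_ne (1 : L)
        have hvp : orderOf v = p := orderOf_eq_prime (show v ∈ V from hj ▸ Subgroup.mem_top v) hv
        refine hnc (Subgroup.zpowers v) inferInstance (Nat.eq_of_mul_eq_mul_left
          (Nat.card_pos (α := Subgroup.zpowers v)) ?_)
        rw [Subgroup.card_mul_index, Nat.card_zpowers, hvp, ← Subgroup.card_top (G := L), ← hj, hVc, sq]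
      · have h1 : (g ^ p ^ j) ^ p = 1 := by
          rw [← pow_mul, ← pow_succ, ← hj, ← ht, pow_orderOf_eq_one]
        have h2 : ((g : L ⧸ V)) ^ p ^ j = 1 := by
          rw [← QuotientGroup.mk_pow, QuotientGroup.eq_one_iff]; exact h1
        have h3 := Nat.le_of_dvd (pow_pos hpp.pos j) (orderOf_dvd_of_pow_eq_one h2)
        rw [hq, hj] at h3
        exact absurd h3 (not_le.2 (Nat.pow_lt_pow_right hpp.one_lt (Nat.lt_succ_self j)))
    · refine hnc (Subgroup.zpowers g) inferInstance (Nat.eq_of_mul_eq_mul_left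
        (Nat.card_pos (α := Subgroup.zpowers g)) ?_)
      rw [Subgroup.card_mul_index, Nat.card_zpowers, ht, ← V.card_mul_index, hVc]
      ring
  obtain ⟨hclQ, -, hcardQ⟩ :=
    CfsgLib.OddOrder.BG4.card_pow_eq_one_of_isMetacyclic hp hQ (isMetacyclic_quotient V hmc)
  let O : Subgroup (L ⧸ V) :=
    { carrier := {x | x ^ p = 1}
      one_mem' := one_pow p
      mul_mem' := fun {a b} ha hb => (hclQ a b ha hb).1
      inv_mem' := fun {a} (ha : a ^ p = 1) => show a⁻¹ ^ p = 1 by simp [ha] }
  set W := O.comap (QuotientGroup.mk' V) with hWdef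
  have hW : ∀ g, g ∈ W ↔ g ^ p ∈ V := fun g => by
    rw [hWdef, Subgroup.mem_comap]
    show ((g : L ⧸ V)) ^ p = 1 ↔ _
    rw [← QuotientGroup.mk_pow, QuotientGroup.eq_one_iff]
  have hWc : Nat.card W = p ^ 4 := by
    have h1 := W.card_mul_index
    rw [hWdef, Subgroup.index_comap_of_surjective _ (QuotientGroup.mk'_surjective V)] at h1
    have hO : Nat.card O = p ^ 2 := hcardQ hQnc
    refine Nat.eq_of_mul_eq_mul_right (Nat.pos_of_ne_zero O.index_ne_zero_of_finite) (h1.trans ?_)
    rw [← V.card_mul_index, hVc, Subgroup.index_eq_card V, ← O.card_mul_index, hO]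
    ring
  -- conjugation fixes `p`-th powers modulo `V`
  have hconj : ∀ (y : L), ∀ c ∈ V, (c * y) ^ p = y ^ p := by
    intro y c hc
    have hd : ⁅y, c⁆ ∈ Subgroup.center L := commutator_mem_center hL hVc hc
    have hdV : ⁅y, c⁆ ∈ V := V.mul_mem (hVn.conj_mem c hc y) (V.inv_mem hc)
    rw [mul_pow_of_central hp (x := c) (y := y) (e := ⁅y, c⁆)
      (by rw [commutatorElement_def]; group) (Subgroup.mem_center_iff.1 hd c).symm
      (Subgroup.mem_center_iff.1 hd y).symm hdV, show c ^ p = 1 from hc, one_mul]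
  have hWV : ∀ x ∈ W, ∀ y ∈ W, ⁅x, y⁆ ∈ V := by
    intro x hx y hy
    have h1 : Commute (x : L ⧸ V) (y : L ⧸ V) := (hclQ _ _ hx hy).2
    rw [← QuotientGroup.eq_one_iff, commutatorElement_def]
    simp only [QuotientGroup.mk_mul, QuotientGroup.mk_inv]
    rw [h1.eq]; group
  have hcomm : ∀ x ∈ W, ∀ y ∈ W, Commute (y ^ p) x := by
    intro x hx y hy
    have h1 : x * y ^ p * x⁻¹ = y ^ p := by
      rw [← conj_pow, show x * y * x⁻¹ = ⁅x, y⁆ * y by rw [commutatorElement_def]; group]
      exact hconj y _ (hWV x hx y hy)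
    exact (mul_inv_eq_iff_eq_mul.1 h1).symm
  have hhom : ∀ x ∈ W, ∀ y ∈ W, (x * y) ^ p = x ^ p * y ^ p := by
    intro x hx y hy
    haveI := isCyclic_commutator_of_isMetacyclic hmc
    set E := V ⊓ commutator L with hE
    haveI : IsCyclic E := isCyclic_of_injective (Subgroup.inclusion (inf_le_right : E ≤ commutator L))
      (Subgroup.inclusion_injective _)
    have hEc : Nat.card E ≤ p := by
      obtain ⟨w, hw⟩ := IsCyclic.exists_ofOrder_eq_natCard (α := E)
      rw [← hw]
      exact orderOf_le_of_pow_eq_one hpp.pos (Subtype.ext w.2.1)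
    have he : ⁅y, x⁆ ∈ E :=
      ⟨hWV y hy x hx, Subgroup.commutator_mem_commutator (Subgroup.mem_top y) (Subgroup.mem_top x)⟩
    have hc := le_center_of_card_le hL hEc he
    exact mul_pow_of_central hp (by rw [commutatorElement_def]; group)
      (Subgroup.mem_center_iff.1 hc x).symm (Subgroup.mem_center_iff.1 hc y).symm he.1
  let f : W →* V :=
    { toFun := fun y => ⟨(y : L) ^ p, (hW y).1 y.2⟩
      map_one' := Subtype.ext (one_pow p)
      map_mul' := fun x y => Subtype.ext (hhom x x.2 y y.2) }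
  have hVW : V ≤ W := fun v hv => (hW v).2 ((show v ^ p = 1 from hv).symm ▸ V.one_mem)
  have hker : f.ker = V.subgroupOf W := by
    ext y
    rw [MonoidHom.mem_ker, Subgroup.mem_subgroupOf, Subtype.ext_iff]
    rfl
  have hsurj : Function.Surjective f := by
    rw [← MonoidHom.range_eq_top]
    refine Subgroup.eq_top_of_card_eq _ ?_
    refine Nat.eq_of_mul_eq_mul_left (Nat.card_pos (α := V)) ?_
    have h1 := f.ker.card_mul_index
    rw [Subgroup.index_ker, hker, Nat.card_congr (Subgroup.subgroupOfEquivOfLe hVW).toEquiv, hWc] at h1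
    rw [h1, hVc]; ring
  refine ⟨V, W, fun g => Iff.rfl, hVc, hW, hWc,
    fun x hx y hy => ⟨hhom x hx y hy, hcomm x hx y hy⟩, fun v hv => ?_⟩
  obtain ⟨y, hy⟩ := hsurj ⟨v, hv⟩
  exact ⟨y, y.2, congrArg Subtype.val hy⟩

end CfsgLib.FGS
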