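import Mathlib
import Cfsg.Agent.PrimePowerClass.Main

/-!
Coprime actions on abelian groups all of whose orbit sizes are powers of one prime: first facts.
-/

set_option linter.style.haveILetI false

namespace CfsgLib.FGS.OrbitPower

open MulAction Subgroup

universe u v

/-- All orbit sizes of `K` on `V` are powers of `p`. -/
def POrb (p : ℕ) (K : Type u) (V : Type v) [Group K] [AddCommGroup V] [DistribMulAction K V] :
    Prop :=
  ∀ w : V, ∃ a, (stabilizer K w).index = p ^ a

variable {K : Type u} {V : Type v} [Group K] [AddCommGroup V] [DistribMulAction K V] {p : ℕ}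

theorem pow_of_dvd [hp : Fact p.Prime] {n a : ℕ} (h : n ∣ p ^ a) : ∃ b, n = p ^ b :=
  CfsgLib.PrimePowerClass.pPow_of_dvd h

theorem POrb.normal [Finite K] [Fact p.Prime] (h : POrb p K V) (N : Subgroup K) [N.Normal] : POrb p N V := by
  intro w
  obtain ⟨a, ha⟩ := h w
  have e : stabilizer N w = (stabilizer K w).subgroupOf N := by
    ext x
    rfl
  refine pow_of_dvd (a := a) ?_
  rw [e, ← ha]
  exact CfsgLib.PrimePowerClass.relIndex_dvd_index _ N

/-- A normal subgroup of order prime to `p` acts trivially. -/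
theorem eq_bot_of_not_dvd [Finite K] [FaithfulSMul K V] [hp : Fact p.Prime] (h : POrb p K V)
    (N : Subgroup K) [N.Normal] (hN : ¬ p ∣ Nat.card N) : N = ⊥ := by
  refine (Subgroup.eq_bot_iff_forall N).mpr fun x hx => FaithfulSMul.eq_of_smul_eq_smul fun w : V => ?_
  obtain ⟨a, ha⟩ := h.normal N w
  have h1 : stabilizer N w = ⊤ := by
    rw [← Subgroup.index_eq_one, ha]
    rcases Nat.eq_zero_or_pos a with rfl | hpos
    · rw [pow_zero]
    · exact absurd ((dvd_pow_self p hpos.ne').trans (ha ▸ Subgroup.index_dvd_card _)) hN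
  rw [one_smul]
  exact mem_stabilizer_iff.mp (show (⟨x, hx⟩ : N) ∈ stabilizer N w from h1 ▸ mem_top _)

/-- A Sylow `p`-subgroup has the same orbits as the whole group. -/
theorem exists_smul_eq_sylow [Finite K] [hp : Fact p.Prime] (h : POrb p K V) (P : Sylow p K)
    (k : K) (w : V) : ∃ x ∈ (P : Subgroup K), x • w = k • w := by
  obtain ⟨a, ha⟩ := h w
  set S := stabilizer K w with hS
  have hco : Nat.Coprime (P : Subgroup K).index S.index := by
    rw [ha]
    exact Nat.Coprime.pow_right _ (Nat.Coprime.symm (hp.out.coprime_iff_not_dvd.mpr P.not_dvd_index))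

  have hidx : ((P : Subgroup K) ⊓ S).index = (P : Subgroup K).index * S.index := by
    refine Nat.dvd_antisymm ?_ ?_
    · have h1 := Subgroup.index_inf_le (H := (P : Subgroup K)) (K := S)
      have h2 : (P : Subgroup K).index * S.index ∣ ((P : Subgroup K) ⊓ S).index :=
        hco.mul_dvd_of_dvd_of_dvd (Subgroup.index_dvd_of_le inf_le_left)
          (Subgroup.index_dvd_of_le inf_le_right)
      have h3 : ((P : Subgroup K) ⊓ S).index = (P : Subgroup K).index * S.index :=
        le_antisymm h1 (Nat.le_of_dvd (Nat.pos_of_ne_zero FiniteIndex.index_ne_zero) h2)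
      exact h3.dvd
    · exact hco.mul_dvd_of_dvd_of_dvd (Subgroup.index_dvd_of_le inf_le_left)
        (Subgroup.index_dvd_of_le inf_le_right)
  have hrel : ((P : Subgroup K) ⊓ S).relIndex (P : Subgroup K) = S.index := by
    have h1 := Subgroup.relIndex_mul_index (inf_le_left : (P : Subgroup K) ⊓ S ≤ P)
    rw [hidx, mul_comm (P : Subgroup K).index] at h1
    exact Nat.eq_of_mul_eq_mul_right (Nat.pos_of_ne_zero FiniteIndex.index_ne_zero) h1
  have hs : stabilizer (P : Subgroup K) w = S.subgroupOf P := by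
    ext x
    rfl
  have hcard : Set.ncard (orbit (P : Subgroup K) w) = Set.ncard (orbit K w) := by
    rw [← index_stabilizer, ← index_stabilizer, hs]
    rw [Subgroup.inf_relIndex_left] at hrel
    exact hrel
  have hsub : orbit (P : Subgroup K) w ⊆ orbit K w := by
    rintro _ ⟨x, rfl⟩
    exact ⟨(x : K), rfl⟩
  have hfin : (orbit K w).Finite := Set.finite_range _
  have heq := Set.eq_of_subset_of_ncard_le hsub hcard.ge hfin
  have hk : k • w ∈ orbit (P : Subgroup K) w := heq ▸ mem_orbit w k
  obtain ⟨x, hx⟩ := hk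
  exact ⟨x, x.2, hx⟩

/-- An element acting trivially on a subgroup and on the quotient by it has order dividing `|W|`. -/
theorem eq_one_of_trivial [Finite K] [FaithfulSMul K V] (W : AddSubgroup V)
    (hco : Nat.Coprime (Nat.card W) (Nat.card K)) (k : K) (hW : ∀ w ∈ W, k • w = w)
    (hV : ∀ w : V, k • w - w ∈ W) : k = 1 := by
  have hpow : ∀ (n : ℕ) (w : V), k ^ n • w = w + n • (k • w - w) := by
    intro n
    induction n with
    | zero => intro w; simp
    | succ n ih =>
      intro w
      rw [pow_succ', mul_smul, ih, smul_add, hW _ (W.nsmul_mem (hV w) n), succ_nsmul]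
      abel
  have h1 : k ^ Nat.card W = 1 := FaithfulSMul.eq_of_smul_eq_smul fun w : V => by
    rw [hpow, one_smul, show Nat.card W • (k • w - w) = 0 from ?_, add_zero]
    exact congrArg Subtype.val (card_nsmul_eq_zero' (x := (⟨k • w - w, hV w⟩ : W)))
  have h2 : orderOf k ∣ Nat.gcd (Nat.card W) (Nat.card K) :=
    Nat.dvd_gcd (orderOf_dvd_of_pow_eq_one h1) (orderOf_dvd_natCard k)
  rw [hco, Nat.dvd_one, orderOf_eq_one_iff] at h2
  exact h2

/-- The image of `K` in the unit group of the endomorphisms of a module. -/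
noncomputable abbrev image (K : Type u) (V : Type v) [Group K] [AddCommGroup V]
    [DistribMulAction K V] : Subgroup (AddMonoid.End V)ˣ :=
  (DistribMulAction.toAddMonoidEnd K V).toHomUnits.range

theorem image_smul (k : K) (w : V) :
    (DistribMulAction.toAddMonoidEnd K V).toHomUnits k • w = k • w := rfl

theorem POrb.image (h : POrb p K V) : POrb p (image K V) V := by
  intro w
  obtain ⟨a, ha⟩ := h w
  refine ⟨a, ?_⟩
  have e : stabilizer K w = (stabilizer (OrbitPower.image K V) w).comap
      (DistribMulAction.toAddMonoidEnd K V).toHomUnits.rangeRestrict := by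
    ext k
    rfl
  rw [← Subgroup.index_comap_of_surjective _
    (DistribMulAction.toAddMonoidEnd K V).toHomUnits.rangeRestrict_surjective, ← e, ha]

theorem card_image_dvd : Nat.card (image K V) ∣ Nat.card K :=
  Subgroup.card_range_dvd _

/-- The counting of pairs under a 2-transitive action. -/
theorem choose_two_dvd {I : Type*} [Finite I] [MulAction K I]
    (h2 : ∀ {a b c d : I}, a ≠ b → c ≠ d → ∃ g : K, g • a = c ∧ g • b = d)
    {i j : I} (hij : i ≠ j) (S : Subgroup K)
    (hS : ∀ g ∈ S, (g • i = i ∧ g • j = j) ∨ (g • i = j ∧ g • j = i)) :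
    (Nat.card I).choose 2 ∣ S.index := by
  classical
  cases nonempty_fintype I
  let T : Subgroup K :=
  { carrier := {g | (g • i = i ∧ g • j = j) ∨ (g • i = j ∧ g • j = i)}
    one_mem' := Or.inl ⟨one_smul _ _, one_smul _ _⟩
    mul_mem' := by
      rintro a b (⟨a1, a2⟩ | ⟨a1, a2⟩) (⟨b1, b2⟩ | ⟨b1, b2⟩) <;>
        simp only [Set.mem_ofPred_eq, mul_smul, b1, b2, a1, a2] <;> simp
    inv_mem' := by
      rintro a (⟨a1, a2⟩ | ⟨a1, a2⟩)
      · exact Or.inl ⟨inv_smul_eq_iff.mpr a1.symm, inv_smul_eq_iff.mpr a2.symm⟩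
      · exact Or.inr ⟨inv_smul_eq_iff.mpr a2.symm, inv_smul_eq_iff.mpr a1.symm⟩ }
  refine dvd_trans ?_ (Subgroup.index_dvd_of_le (show S ≤ T from hS))
  let f : K ⧸ T → {s : Finset I // s.card = 2} := fun x => Quotient.liftOn' x
    (fun g => ⟨{g • i, g • j}, Finset.card_pair fun e => hij (smul_left_cancel g e)⟩) (by
      intro a b hab
      rw [QuotientGroup.leftRel_apply] at hab
      apply Subtype.ext
      change ({a • i, a • j} : Finset I) = {b • i, b • j}
      have hb : ∀ x : I, b • x = a • ((a⁻¹ * b) • x) := fun x => by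
        rw [← mul_smul, mul_inv_cancel_left]
      rcases hab with ⟨e1, e2⟩ | ⟨e1, e2⟩
      · rw [hb i, hb j, e1, e2]
      · rw [hb i, hb j, e1, e2, Finset.pair_comm])
  have hf : Function.Bijective f := by
    constructor
    · intro x y hxy
      induction x using QuotientGroup.induction_on with | H a => ?_
      induction y using QuotientGroup.induction_on with | H b => ?_
      rw [QuotientGroup.eq]
      have e : ({a • i, a • j} : Finset I) = {b • i, b • j} := congrArg Subtype.val hxy
      have h1 : b • i = a • i ∨ b • i = a • j := by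
        have : b • i ∈ ({a • i, a • j} : Finset I) := e ▸ Finset.mem_insert_self _ _
        simpa using this
      have h2 : b • j = a • i ∨ b • j = a • j := by
        have : b • j ∈ ({a • i, a • j} : Finset I) := e ▸ (by simp)
        simpa using this
      have hne : b • i ≠ b • j := fun e => hij (smul_left_cancel b e)
      change ((a⁻¹ * b) • i = i ∧ (a⁻¹ * b) • j = j) ∨ ((a⁻¹ * b) • i = j ∧ (a⁻¹ * b) • j = i)
      simp only [mul_smul, inv_smul_eq_iff]
      rcases h1 with h1 | h1 <;> rcases h2 with h2 | h2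
      · exact absurd (h1.trans h2.symm) hne
      · exact Or.inl ⟨h1, h2⟩
      · exact Or.inr ⟨h1, h2⟩
      · exact absurd (h1.trans h2.symm) hne
    · rintro ⟨s, hs⟩
      obtain ⟨c, d, hcd, rfl⟩ := Finset.card_eq_two.mp hs
      obtain ⟨g, g1, g2⟩ := h2 hij hcd
      exact ⟨QuotientGroup.mk g, Subtype.ext (show ({g • i, g • j} : Finset I) = _ by rw [g1, g2])⟩
  rw [Subgroup.index, Nat.card_congr (Equiv.ofBijective f hf), Nat.card_eq_fintype_card,
    Nat.card_eq_fintype_card, Fintype.card_finset_len]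

/-- An odd prime power `n` with `n.choose 2` a prime power is three. -/
theorem eq_three [hp : Fact p.Prime] {k a : ℕ} (hk : 1 ≤ k) (hodd : Odd p)
    (h : (p ^ k).choose 2 ∣ p ^ a) : p ^ k = 3 := by
  obtain ⟨m, hm⟩ : Odd (p ^ k) := hodd.pow
  rw [Nat.choose_two_right, hm] at h
  have h1 : (2 * m + 1) * (2 * m + 1 - 1) / 2 = (2 * m + 1) * m := by
    rw [show 2 * m + 1 - 1 = m * 2 by omega, ← mul_assoc, Nat.mul_div_cancel _ two_pos]
  rw [h1] at h
  have hm1 : m ∣ p ^ a := (Dvd.intro_left _ rfl).trans h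
  obtain ⟨b, hb⟩ := pow_of_dvd hm1
  have hp3 := hp.out.two_le
  rcases Nat.eq_zero_or_pos b with rfl | hpos
  · simp [hm, hb]
  · exfalso
    have h2 : p ∣ 2 * m + 1 := hm ▸ dvd_pow_self p (by omega)
    have h3 : p ∣ 2 * m := (hb ▸ dvd_pow_self p hpos.ne' : p ∣ m).mul_left 2
    exact hp.out.not_dvd_one ((Nat.dvd_add_right h3).mp h2)

/-- A finite group with an abelian subgroup of prime power index is solvable. -/
theorem isSolvable_of_abelian_index : ∀ (n : ℕ) (G : Type u) [Group G] [Finite G],
    Nat.card G ≤ n → ∀ (p : ℕ) [Fact p.Prime] (A : Subgroup G), IsMulCommutative A →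
    (∃ a, A.index = p ^ a) → Group.IsSolvable G := by
  intro n
  induction n with
  | zero => intro G _ _ hG; exact absurd hG (not_le.mpr Nat.card_pos)
  | succ n ih =>
  intro G _ _ hG p _ A hA hidx
  obtain ⟨a, ha⟩ := hidx
  have quot : ∀ N : Subgroup G, N.Normal → N ≠ ⊥ → Group.IsSolvable N → Group.IsSolvable G := by
    intro N hN hN1 hNs
    have hlt : Nat.card (G ⧸ N) < Nat.card G := by
      have h1 := card_eq_card_quotient_mul_card_subgroup N
      have h2 : 1 < Nat.card N :=
        lt_of_le_of_ne Nat.card_pos fun e => hN1 (Subgroup.card_eq_one.mp e.symm)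
      have h3 : 0 < Nat.card (G ⧸ N) := Nat.card_pos
      nlinarith
    have hc : IsMulCommutative (A.map (QuotientGroup.mk' N)) := by
      refine ⟨⟨?_⟩⟩
      rintro ⟨_, x, hx, rfl⟩ ⟨_, y, hy, rfl⟩
      apply Subtype.ext
      change QuotientGroup.mk' N x * QuotientGroup.mk' N y =
        QuotientGroup.mk' N y * QuotientGroup.mk' N x
      rw [← map_mul, ← map_mul]
      exact congrArg _ (congrArg Subtype.val (hA.is_comm.comm ⟨x, hx⟩ ⟨y, hy⟩))
    have := ih (G ⧸ N) (by omega) p (A.map (QuotientGroup.mk' N)) hc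
      (pow_of_dvd (a := a) (ha ▸ Subgroup.index_map_dvd _ (QuotientGroup.mk'_surjective N)))
    exact (Group.isSolvable_iff_subgroup_quotient N).mpr ⟨hNs, this⟩
  by_cases hAb : A = ⊥
  · subst hAb
    rw [Subgroup.index_bot] at ha
    have := (IsPGroup.of_card ha : IsPGroup p G).isNilpotent
    infer_instance
  obtain ⟨⟨x, hx⟩, hx1⟩ := Subgroup.ne_bot_iff_exists_ne_one.mp hAb
  by_cases hcore : Cfsg.pCore p G = ⊥
  · have hcl : ∃ b, (centralizer ({x} : Set G)).index = p ^ b := by
      refine pow_of_dvd (a := a) (ha ▸ Subgroup.index_dvd_of_le fun y hy => ?_)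
      rw [mem_centralizer_singleton_iff]
      exact congrArg Subtype.val (hA.is_comm.comm ⟨y, hy⟩ ⟨x, hx⟩)
    have hF := CfsgLib.PrimePowerClass.mem_fitting_aux (Nat.card G) G le_rfl x hcl hcore
    have hne : Cfsg.fittingSubgroup G ≠ ⊥ := fun e =>
      hx1 (Subtype.ext (Subgroup.mem_bot.mp (e ▸ hF)))
    have := CfsgLib.Solvable.fittingSubgroup_isNilpotent (G := G)
    exact quot _ CfsgLib.Solvable.fittingSubgroup_normal hne inferInstance
  · have := (CfsgLib.Solvable.isPGroup_pCore (G := G) p).isNilpotent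
    exact quot _ (CfsgLib.Solvable.pCore_normal p) hcore inferInstance

end CfsgLib.FGS.OrbitPower
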