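import Cfsg.Agent.FGS.OrbitBasics
import Cfsg.Agent.Perm.BurnsidePrime

/-!
Coprime actions with prime power orbits: reducible and imprimitive actions.
-/

set_option linter.style.haveILetI false

namespace CfsgLib.FGS.OrbitPower

open MulAction Subgroup

universe u

variable {K V : Type u} [Group K] [AddCommGroup V] [DistribMulAction K V] {p q : ℕ}

/-- The statement to be proved, for all modules of order less than `n`. -/
def Sol (q p n : ℕ) : Prop :=
  ∀ (W H : Type u) [AddCommGroup W] [Group H] [DistribMulAction H W] [Finite W] [Finite H],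
    Nat.card W < n → (∃ d, Nat.card W = q ^ d) → ¬ q ∣ Nat.card H → POrb p H W →
      Group.IsSolvable (image H W)

/-- The action on an invariant subgroup. -/
@[instance_reducible]
def subAction (W : AddSubgroup V) (hW : ∀ k : K, ∀ w ∈ W, k • w ∈ W) : DistribMulAction K W where
  smul k w := ⟨k • (w : V), hW k w w.2⟩
  one_smul w := Subtype.ext (one_smul K (w : V))
  mul_smul a b w := Subtype.ext (mul_smul a b (w : V))
  smul_zero a := Subtype.ext (smul_zero a)
  smul_add a x y := Subtype.ext (smul_add a (x : V) (y : V))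

/-- The action on the quotient by an invariant subgroup. -/
@[instance_reducible]
def quotAction (W : AddSubgroup V) (hW : ∀ k : K, ∀ w ∈ W, k • w ∈ W) :
    DistribMulAction K (V ⧸ W) where
  smul k := QuotientAddGroup.map W W (DistribSMul.toAddMonoidHom V k) fun w hw => hW k w hw
  one_smul x := by
    induction x using QuotientAddGroup.induction_on with
    | H x => exact congrArg (QuotientAddGroup.mk (s := W)) (one_smul K x)
  mul_smul a b x := by
    induction x using QuotientAddGroup.induction_on with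
    | H x => exact congrArg (QuotientAddGroup.mk (s := W)) (mul_smul a b x)
  smul_zero a := map_zero _
  smul_add a x y := map_add _ x y

theorem POrb.sub [Fact p.Prime] (h : POrb p K V) (W : AddSubgroup V)
    (hW : ∀ k : K, ∀ w ∈ W, k • w ∈ W) : @POrb p K W _ _ (subAction W hW) := by
  intro w
  obtain ⟨a, ha⟩ := h (w : V)
  refine ⟨a, ?_⟩
  rw [← ha]
  congr 1
  ext k
  exact ⟨fun e => congrArg Subtype.val e, fun e => Subtype.ext e⟩

theorem POrb.quot [Fact p.Prime] (h : POrb p K V) (W : AddSubgroup V)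
    (hW : ∀ k : K, ∀ w ∈ W, k • w ∈ W) : @POrb p K (V ⧸ W) _ _ (quotAction W hW) := by
  intro w
  induction w using QuotientAddGroup.induction_on with
  | H w =>
    obtain ⟨a, ha⟩ := h w
    refine pow_of_dvd (a := a) (ha ▸ Subgroup.index_dvd_of_le fun k hk => ?_)
    exact congrArg (QuotientAddGroup.mk (s := W)) (mem_stabilizer_iff.mp hk)

theorem card_lt_sub [Finite V] (W : AddSubgroup V) (hW : W ≠ ⊤) : Nat.card W < Nat.card V :=
  lt_of_le_of_ne (Nat.le_of_dvd Nat.card_pos W.card_addSubgroup_dvd_card) fun e => hW (W.eq_top_of_card_eq e)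

theorem card_lt_quot [Finite V] (W : AddSubgroup V) (hW : W ≠ ⊥) :
    Nat.card (V ⧸ W) < Nat.card V := by
  have h1 := W.card_eq_card_quotient_mul_card_addSubgroup
  have h2 : 1 < Nat.card W := lt_of_le_of_ne Nat.card_pos fun e =>
    hW (W.eq_bot_of_card_eq e.symm)
  have h3 : 0 < Nat.card (V ⧸ W) := Nat.card_pos
  nlinarith

omit [Group K] in
theorem coprime_card [hq : Fact q.Prime] {W : Type u} [AddCommGroup W] (hd : ∃ d, Nat.card W = q ^ d)
    (hK : ¬ q ∣ Nat.card K) : Nat.Coprime (Nat.card W) (Nat.card K) := by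
  obtain ⟨d, hd⟩ := hd
  rw [hd]
  exact Nat.Coprime.pow_left _ (hq.out.coprime_iff_not_dvd.mpr hK)

theorem sub_pow [Fact q.Prime] (hV : ∃ d, Nat.card V = q ^ d) (W : AddSubgroup V) :
    ∃ d, Nat.card W = q ^ d := by
  obtain ⟨d, hd⟩ := hV
  exact pow_of_dvd (a := d) (hd ▸ W.card_addSubgroup_dvd_card)

theorem quot_pow [Fact q.Prime] (hV : ∃ d, Nat.card V = q ^ d) (W : AddSubgroup V) :
    ∃ d, Nat.card (V ⧸ W) = q ^ d := by
  obtain ⟨d, hd⟩ := hV
  exact pow_of_dvd (a := d) (hd ▸ W.card_quotient_dvd_card)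

theorem toHomUnits_eq_one {W : Type u} [AddCommGroup W] [DistribMulAction K W] {k : K}
    (h : (DistribMulAction.toAddMonoidEnd K W).toHomUnits.rangeRestrict k = 1) (w : W) :
    k • w = w := by
  have h1 : (DistribMulAction.toAddMonoidEnd K W).toHomUnits k = 1 := congrArg Subtype.val h
  rw [← image_smul k w, h1, one_smul]

/-- A reducible action. -/
theorem solvable_of_reducible [Finite K] [Finite V] [FaithfulSMul K V] [Fact p.Prime]
    [Fact q.Prime] (hsol : Sol.{u} q p (Nat.card V)) (hV : ∃ d, Nat.card V = q ^ d)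
    (hK : ¬ q ∣ Nat.card K) (h : POrb p K V) (W : AddSubgroup V) (hW0 : W ≠ ⊥) (hW1 : W ≠ ⊤)
    (hW : ∀ k : K, ∀ w ∈ W, k • w ∈ W) : Group.IsSolvable K := by
  let iW := subAction W hW
  let iQ := quotAction W hW
  have h1 := hsol W K (card_lt_sub W hW1) (sub_pow hV W) hK (h.sub W hW)
  have h2 := hsol (V ⧸ W) K (card_lt_quot W hW0) (quot_pow hV W) hK (h.quot W hW)
  refine Group.isSolvable_of_isSolvable_injective
    (f := (DistribMulAction.toAddMonoidEnd K W).toHomUnits.rangeRestrict.prod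
      (DistribMulAction.toAddMonoidEnd K (V ⧸ W)).toHomUnits.rangeRestrict) ?_
  rw [injective_iff_map_eq_one]
  intro k hk
  rw [MonoidHom.prod_apply, Prod.ext_iff] at hk
  refine eq_one_of_trivial W (coprime_card (sub_pow hV W) hK) k
    (fun w hw => congrArg Subtype.val (toHomUnits_eq_one hk.1 ⟨w, hw⟩)) (fun w => ?_)
  have h3 : ((k • w : V) : V ⧸ W) = (w : V ⧸ W) := toHomUnits_eq_one hk.2 (w : V ⧸ W)
  rw [← QuotientAddGroup.eq_zero_iff, QuotientAddGroup.mk_sub, h3, sub_self]

/-- A normal subgroup leaving each of a generating family of subgroups invariant. -/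
theorem solvable_of_components [Finite K] [Finite V] [FaithfulSMul K V] [Fact p.Prime]
    [Fact q.Prime] (hsol : Sol.{u} q p (Nat.card V)) (hV : ∃ d, Nat.card V = q ^ d)
    (hK : ¬ q ∣ Nat.card K) (h : POrb p K V) {I : Type} [Fintype I] (U : I → AddSubgroup V)
    (hU : ∀ i, U i ≠ ⊤) (hinv : ∀ i, ∀ k : K, ∀ w ∈ U i, k • w ∈ U i)
    (hgen : ∀ k : K, (∀ i, ∀ w ∈ U i, k • w = w) → ∀ w : V, k • w = w) : Group.IsSolvable K := by
  classical
  have key : ∀ i, ∃ n, ∀ k ∈ derivedSeries K n, ∀ w ∈ U i, k • w = w := by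
    intro i
    let iW := subAction (U i) (hinv i)
    obtain ⟨n, hn⟩ := hsol (U i) K (card_lt_sub _ (hU i)) (sub_pow hV _) hK (h.sub _ (hinv i))
    refine ⟨n, fun k hk w hw => ?_⟩
    have h1 : (DistribMulAction.toAddMonoidEnd K (U i)).toHomUnits.rangeRestrict k ∈
        derivedSeries (image K (U i)) n :=
      map_derivedSeries_le_derivedSeries _ n ⟨k, hk, rfl⟩
    rw [hn, Subgroup.mem_bot] at h1
    exact congrArg Subtype.val (toHomUnits_eq_one h1 ⟨w, hw⟩)
  choose n hn using key
  refine ⟨⟨Finset.univ.sup n, (Subgroup.eq_bot_iff_forall _).mpr fun k hk => ?_⟩⟩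
  refine FaithfulSMul.eq_of_smul_eq_smul fun w : V => ?_
  rw [one_smul]
  exact hgen k (fun i => hn i k (derivedSeries_antitone K (Finset.le_sup (Finset.mem_univ i)) hk)) w

/-- An action permuting a decomposition into `p` summands. -/
theorem solvable_of_decomposition [Finite K] [Finite V] [FaithfulSMul K V] [hp : Fact p.Prime]
    [Fact q.Prime] (hsol : Sol.{u} q p (Nat.card V)) (hV : ∃ d, Nat.card V = q ^ d)
    (hK : ¬ q ∣ Nat.card K) (h : POrb p K V) (P : Sylow p K)
    (hirr : ∀ W : AddSubgroup V, (∀ k : K, ∀ w ∈ W, k • w ∈ W) → W = ⊥ ∨ W = ⊤)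
    (π : Fin p → V →+ V) (U : Fin p → AddSubgroup V) (hU : ∀ i, U i ≠ ⊥)
    (hmem : ∀ i v, π i v ∈ U i) (hfix : ∀ i, ∀ v ∈ U i, π i v = v)
    (hzero : ∀ i j, i ≠ j → ∀ v ∈ U j, π i v = 0) (hsum : ∀ v, ∑ i, π i v = v)
    (hperm : ∀ g ∈ (P : Subgroup K), ∀ i, ∃ j, ∀ v ∈ U i, g • v ∈ U j) :
    Group.IsSolvable K := by
  classical
  have uniq : ∀ {i j} {v : V}, v ≠ 0 → v ∈ U i → v ∈ U j → i = j := by
    intro i j v hv hi hj
    by_contra hij
    exact hv (by rw [← hfix i v hi, hzero i j hij v hj])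
  have hex : ∀ (k : K) (i : Fin p), ∃ j, ∀ v ∈ U i, k • v ∈ U j := by
    intro k i
    have hone : ∀ v ∈ U i, ∃ j, k • v ∈ U j := by
      intro v hv
      obtain ⟨x, hx, e⟩ := exists_smul_eq_sylow h P k v
      obtain ⟨j, hj⟩ := hperm x hx i
      exact ⟨j, e ▸ hj v hv⟩
    obtain ⟨⟨a, ha⟩, ha0⟩ := (AddSubgroup.ne_bot_iff_exists_ne_zero (H := U i)).mp (hU i)
    have ha0' : k • a ≠ 0 := fun e => ha0 (Subtype.ext ((smul_eq_zero_iff_eq k).mp e))
    obtain ⟨j, hj⟩ := hone a ha
    refine ⟨j, fun v hv => ?_⟩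
    obtain ⟨l, hl⟩ := hone v hv
    by_cases hv0 : k • v = 0
    · rw [hv0]; exact (U j).zero_mem
    obtain ⟨m, hm⟩ := hone (a + v) ((U i).add_mem ha hv)
    rw [smul_add] at hm
    by_contra hvj
    have hlj : l ≠ j := fun e => hvj (e ▸ hl)
    have e1 : π j (k • a + k • v) = k • a := by
      rw [map_add, hfix j _ hj, hzero j l hlj.symm _ hl, add_zero]
    have e2 : π l (k • a + k • v) = k • v := by
      rw [map_add, hfix l _ hl, hzero l j hlj _ hj, zero_add]
    have hmj : m = j := by
      by_contra hne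
      rw [hzero j m (fun e => hne e.symm) _ hm] at e1
      exact ha0' e1.symm
    have hml : m = l := by
      by_contra hne
      rw [hzero l m (fun e => hne e.symm) _ hm] at e2
      exact hv0 e2.symm
    exact hlj (hml.symm.trans hmj)
  choose σ hσ using hex
  have hσu : ∀ (k : K) (i j : Fin p), (∀ v ∈ U i, k • v ∈ U j) → σ k i = j := by
    intro k i j hj
    obtain ⟨⟨a, ha⟩, ha0⟩ := (AddSubgroup.ne_bot_iff_exists_ne_zero (H := U i)).mp (hU i)
    exact uniq (fun e => ha0 (Subtype.ext ((smul_eq_zero_iff_eq k).mp e))) (hσ k i a ha) (hj a ha)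
  let act : MulAction K (Fin p) :=
    { smul := σ
      one_smul := fun i => hσu 1 i i fun v hv => by rwa [one_smul]
      mul_smul := fun a b i => hσu (a * b) i (σ a (σ b i)) fun v hv => by
        rw [mul_smul]; exact hσ a _ _ (hσ b i v hv) }
  have hact : ∀ (k : K) (i : Fin p), ∀ v ∈ U i, k • v ∈ U (k • i) := hσ
  have htr : MulAction.IsPretransitive K (Fin p) := by
    refine ⟨fun i j => ?_⟩
    by_contra hno
    let O := orbit K i
    let W : AddSubgroup V := ⨆ l : O, U l
    have hWinv : ∀ k : K, ∀ w ∈ W, k • w ∈ W := by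
      intro k w hw
      have hle : W ≤ W.comap (DistribSMul.toAddMonoidHom V k) :=
        iSup_le fun l v hv => le_iSup (fun l : O => U l)
          ⟨k • (l : Fin p), mem_orbit_of_mem_orbit k l.2⟩ (hact k _ v hv)
      exact hle hw
    have hjW : W ≤ (π j).ker := iSup_le fun l v hv =>
      hzero j l (fun e => hno (e ▸ l.2)) v hv
    rcases hirr W hWinv with hb | ht
    · exact hU i (le_bot_iff.mp (hb ▸ le_iSup (fun l : O => U l) ⟨i, mem_orbit_self i⟩))
    · obtain ⟨⟨a, ha⟩, ha0⟩ := (AddSubgroup.ne_bot_iff_exists_ne_zero (H := U j)).mp (hU j)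
      have h1 : π j a = 0 := hjW (ht ▸ AddSubgroup.mem_top a)
      rw [hfix j a ha] at h1
      exact ha0 (Subtype.ext h1)
  set f := MulAction.toPermHom K (Fin p) with hf
  have hker : Group.IsSolvable f.ker := by
    have hKn : ¬ q ∣ Nat.card f.ker := fun hd => hK (hd.trans (Subgroup.card_subgroup_dvd_card _))
    refine solvable_of_components hsol hV hKn (h.normal f.ker) U (fun i ht => ?_) (fun i k w hw => ?_)
      (fun k hk w => ?_)
    · obtain ⟨j, hj⟩ := Fintype.exists_ne_of_one_lt_card (by simpa using hp.out.one_lt) i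
      obtain ⟨⟨a, ha⟩, ha0⟩ := (AddSubgroup.ne_bot_iff_exists_ne_zero (H := U j)).mp (hU j)
      exact ha0 (Subtype.ext ((hfix j a ha).symm.trans
        (hzero j i hj a (ht ▸ AddSubgroup.mem_top a))))
    · have e : (k : K) • i = i := Equiv.congr_fun (MonoidHom.mem_ker.mp k.2) i
      have h1 := hact (k : K) i w hw
      rwa [e] at h1
    · conv_rhs => rw [← hsum w]
      conv_lhs => rw [← hsum w, Finset.smul_sum]
      exact Finset.sum_congr rfl fun i _ => hk i _ (hmem i w)
  have hrange : Group.IsSolvable f.range := by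
    have htr' : MulAction.IsPretransitive f.range (Fin p) := by
      refine ⟨fun i j => ?_⟩
      obtain ⟨k, hk⟩ := MulAction.exists_smul_eq K i j
      exact ⟨⟨f k, k, rfl⟩, hk⟩
    rcases CfsgLib.Perm.PrimeDegree.burnside (Fintype.card_fin p) f.range with hs | h2
    · exact hs
    refine CfsgLib.Perm.PrimeDegree.isSolvable_of_card_le_three (Fintype.card_fin p) ?_ f.range
    rcases hp.out.eq_two_or_odd' with rfl | hodd
    · omega
    have h2' : ∀ {a b c d : Fin p}, a ≠ b → c ≠ d → ∃ g : K, g • a = c ∧ g • b = d := by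
      intro a b c d hab hcd
      obtain ⟨⟨_, k, rfl⟩, h1, h3⟩ := MulAction.is_two_pretransitive_iff.mp h2 hab hcd
      exact ⟨k, h1, h3⟩
    obtain ⟨i, j, hij⟩ : ∃ i j : Fin p, i ≠ j :=
      ⟨⟨0, hp.out.pos⟩, ⟨1, hp.out.one_lt⟩, fun e => by simpa using congrArg Fin.val e⟩
    obtain ⟨⟨a, ha⟩, ha0⟩ := (AddSubgroup.ne_bot_iff_exists_ne_zero (H := U i)).mp (hU i)
    obtain ⟨⟨b, hb⟩, hb0⟩ := (AddSubgroup.ne_bot_iff_exists_ne_zero (H := U j)).mp (hU j)
    obtain ⟨m, hm⟩ := h (a + b)
    have hd := choose_two_dvd h2' hij (stabilizer K (a + b)) (fun g hg => by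
      have hne : g • i ≠ g • j := fun e => hij (smul_left_cancel g e)
      have hga : g • a ≠ 0 := fun e => ha0 (Subtype.ext ((smul_eq_zero_iff_eq g).mp e))
      have hgb : g • b ≠ 0 := fun e => hb0 (Subtype.ext ((smul_eq_zero_iff_eq g).mp e))
      have hg' : g • a + g • b = a + b := by rw [← smul_add]; exact mem_stabilizer_iff.mp hg
      have main : ∀ (s t : Fin p) (x y : V), x ∈ U s → y ∈ U t → x ≠ 0 → s ≠ t →
          x + y = a + b → s = i ∨ s = j := by
        intro s t x y hx hy hx0 hst e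
        by_contra hs
        push Not at hs
        have := congrArg (π s) e
        rw [map_add, map_add, hfix s x hx, hzero s t hst y hy, hzero s i hs.1 a ha,
          hzero s j hs.2 b hb, add_zero, add_zero] at this
        exact hx0 this
      have h1 := main _ _ _ _ (hact g i a ha) (hact g j b hb) hga hne hg'
      have h2 := main _ _ _ _ (hact g j b hb) (hact g i a ha) hgb hne.symm
        (by rw [add_comm, hg'])
      rcases h1 with h1 | h1 <;> rcases h2 with h2 | h2
      · exact absurd (h1.trans h2.symm) hne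
      · exact Or.inl ⟨h1, h2⟩
      · exact Or.inr ⟨h1, h2⟩
      · exact absurd (h1.trans h2.symm) hne)
    rw [Nat.card_fin, hm] at hd
    have := eq_three (k := 1) (a := m) le_rfl hodd (by rwa [pow_one])
    rw [pow_one] at this
    omega
  exact Group.isSolvable_of_ker_le_range f.ker.subtype f.rangeRestrict (by
    rw [MonoidHom.ker_rangeRestrict, Subgroup.range_subtype])

end CfsgLib.FGS.OrbitPower
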