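import Cfsg.Agent.FGS.OrbitDecompose
import Cfsg.Agent.Classification.CyclicNormalAbelian
import Cfsg.Agent.FrobComp.SylowStructure
import Cfsg.Agent.Solvable.Nilpotent

/-!
Irreducible coprime actions with prime power orbits: a non-cyclic normal abelian subgroup of the
Sylow subgroup yields a decomposition.
-/

set_option linter.style.haveILetI false

namespace CfsgLib.FGS.OrbitPower

open MulAction Subgroup

universe u

variable {K V : Type u} [Group K] [AddCommGroup V] [DistribMulAction K V] {p q : ℕ}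

/-- A subgroup invariant under a Sylow `p`-subgroup is invariant. -/
theorem inv_of_sylow [Finite K] [Fact p.Prime] (h : POrb p K V) (P : Sylow p K) (W : AddSubgroup V)
    (hW : ∀ g ∈ (P : Subgroup K), ∀ w ∈ W, g • w ∈ W) (k : K) (w : V) (hw : w ∈ W) : k • w ∈ W := by
  obtain ⟨x, hx, e⟩ := exists_smul_eq_sylow h P k w
  exact e ▸ hW x hx w hw

/-- The sum of the translates under the powers of an element of exponent `m` is fixed. -/
theorem smul_sum_pow (y : K) {m : ℕ} (hy : y ^ m = 1) (x : V) :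
    y • ∑ i ∈ Finset.range m, y ^ i • x = ∑ i ∈ Finset.range m, y ^ i • x := by
  rw [Finset.smul_sum]
  have h1 := Finset.sum_range_succ' (fun i => y ^ i • x) m
  rw [Finset.sum_range_succ, hy, pow_zero, one_smul] at h1
  calc ∑ i ∈ Finset.range m, y • y ^ i • x
      = ∑ i ∈ Finset.range m, y ^ (i + 1) • x :=
        Finset.sum_congr rfl fun i _ => by rw [pow_succ', mul_smul]
    _ = _ := (add_right_cancel h1).symm

/-- The subgroup of fixed points of an element. -/
def fixedBy' (k : K) : AddSubgroup V where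
  carrier := {x | k • x = x}
  zero_mem' := smul_zero k
  add_mem' := fun {a b} (ha : k • a = a) (hb : k • b = b) =>
    (smul_add k a b).trans (congrArg₂ (· + ·) ha hb)
  neg_mem' := fun {a} (ha : k • a = a) => (smul_neg k a).trans (congrArg Neg.neg ha)

theorem mem_fixedBy' {k : K} {x : V} : x ∈ fixedBy' k ↔ k • x = x := Iff.rfl

theorem smul_pow_eq_self {k : K} {x : V} (hx : k • x = x) (n : ℕ) : k ^ n • x = x := by
  induction n with
  | zero => rw [pow_zero, one_smul]
  | succ n ih => rw [pow_succ', mul_smul, ih, hx]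

theorem exists_special_pair [hp : Fact p.Prime] {P : Type*} [Group P] [Finite P]
    (hP : IsPGroup p P) (hn : ¬ Classification.CyclicNormal.AllCyclic P) :
    ∃ z v : P, z ^ p = 1 ∧ z ≠ 1 ∧ (∀ g, Commute g z) ∧ v ^ p = 1 ∧ v ∉ zpowers z ∧
      ∀ g : P, ∃ j : ℕ, g * v * g⁻¹ = z ^ j * v := by
  unfold Classification.CyclicNormal.AllCyclic at hn
  push Not at hn
  obtain ⟨A, hAn, hAc, hA⟩ := hn
  have hcomm : ∀ x y : A, x * y = y * x := fun x y => hAc.is_comm.comm x y
  have hnu : ¬ FrobComp.UniqueOrderP p A := fun hu =>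
    hA (FrobComp.isCyclic_of_uniqueOrderP (hP.to_subgroup A) hu (Or.inl hcomm))
  unfold FrobComp.UniqueOrderP at hnu
  push Not at hnu
  obtain ⟨x, y, hxp, hyp, hx1, hyx⟩ := hnu
  let Ω : Subgroup P :=
    { carrier := {w | w ∈ A ∧ w ^ p = 1}
      one_mem' := ⟨A.one_mem, one_pow _⟩
      mul_mem' := by
        rintro a b ⟨ha, ha'⟩ ⟨hb, hb'⟩
        refine ⟨A.mul_mem ha hb, ?_⟩
        have hc : Commute a b := congrArg Subtype.val (hcomm ⟨a, ha⟩ ⟨b, hb⟩)
        rw [hc.mul_pow, ha', hb', one_mul]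
      inv_mem' := by
        rintro a ⟨ha, ha'⟩
        exact ⟨A.inv_mem ha, by rw [inv_pow, ha', inv_one]⟩ }
  have hΩn : Ω.Normal := ⟨fun w hw g => ⟨hAn.conj_mem w hw.1 g, by
    rw [conj_pow, hw.2, mul_one, mul_inv_cancel]⟩⟩
  have hxΩ : (x : P) ∈ Ω := ⟨x.2, by simpa using congrArg Subtype.val hxp⟩
  have hyΩ : (y : P) ∈ Ω := ⟨y.2, by simpa using congrArg Subtype.val hyp⟩
  have := hP.isNilpotent
  have hne : Ω ≠ ⊥ := fun e => hx1 (Subtype.ext (Subgroup.mem_bot.mp (e ▸ hxΩ)))
  obtain ⟨⟨z, hz⟩, hz1'⟩ := Subgroup.ne_bot_iff_exists_ne_one.mp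
    (CfsgLib.Solvable.inf_center_ne_bot (N := Ω) hne)
  have hz1 : z ≠ 1 := fun e => hz1' (Subtype.ext e)
  have hzc : ∀ g, Commute g z := fun g => Subgroup.mem_center_iff.mp hz.2 g
  have hzo : orderOf z = p := orderOf_eq_prime hz.1.2 hz1
  set Z := zpowers z with hZ
  have hZn : Z.Normal := ⟨fun w hw g => by
    obtain ⟨j, rfl⟩ := Subgroup.mem_zpowers_iff.mp hw
    rw [((hzc g).zpow_right j).eq, mul_inv_cancel_right]
    exact hw⟩
  have hΩZ : ¬ Ω ≤ Z := by
    intro hle
    have hxo : orderOf (x : P) = p := orderOf_eq_prime hxΩ.2 fun e => hx1 (Subtype.ext e)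
    have e : zpowers (x : P) = Z := Subgroup.eq_of_le_of_card_ge (zpowers_le.mpr (hle hxΩ))
      (by rw [Nat.card_zpowers, Nat.card_zpowers, hxo, hzo])
    obtain ⟨j, hj⟩ := Subgroup.mem_zpowers_iff.mp (e ▸ hle hyΩ : (y : P) ∈ zpowers (x : P))
    exact hyx (Subgroup.mem_zpowers_iff.mpr ⟨j, Subtype.ext (by simpa using hj)⟩)
  set π := QuotientGroup.mk' Z with hπ
  have himgn : (Ω.map π).Normal := hΩn.map π (QuotientGroup.mk'_surjective Z)
  have himg : Ω.map π ≠ ⊥ := fun e => hΩZ fun w hw =>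
    (QuotientGroup.eq_one_iff w).mp (Subgroup.mem_bot.mp (e ▸ ⟨w, hw, rfl⟩ : π w ∈ (⊥ : Subgroup _)))
  obtain ⟨⟨w, hw⟩, hw1⟩ := Subgroup.ne_bot_iff_exists_ne_one.mp
    (CfsgLib.Solvable.inf_center_ne_bot (N := Ω.map π) himg)
  obtain ⟨v, hv, rfl⟩ := hw.1
  refine ⟨z, v, hz.1.2, hz1, hzc, hv.2, fun h => hw1 (Subtype.ext ?_), fun g => ?_⟩
  · exact (QuotientGroup.eq_one_iff v).mpr h
  · have h1 : g * v * g⁻¹ * v⁻¹ ∈ Z := by
      refine (QuotientGroup.eq_one_iff _).mp ?_
      have h2 := Subgroup.mem_center_iff.mp hw.2 (π g)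
      change π (g * v * g⁻¹ * v⁻¹) = 1
      rw [map_mul, map_mul, map_mul, map_inv, map_inv, h2, mul_inv_cancel_right, mul_inv_cancel]
    obtain ⟨j, hj⟩ := (mem_powers_iff_mem_zpowers (x := z)).mpr h1
    exact ⟨j, by simp [hj, mul_assoc]⟩

/-- The imprimitive case given by a non-cyclic normal abelian subgroup. -/
theorem solvable_of_not_allCyclic [Finite K] [Finite V] [FaithfulSMul K V] [hp : Fact p.Prime]
    [hq : Fact q.Prime] (hsol : Sol.{u} q p (Nat.card V)) (hV : ∃ d, Nat.card V = q ^ d)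
    (hK : ¬ q ∣ Nat.card K) (h : POrb p K V) (P : Sylow p K)
    (hirr : ∀ W : AddSubgroup V, (∀ k : K, ∀ w ∈ W, k • w ∈ W) → W = ⊥ ∨ W = ⊤)
    (hn : ¬ Classification.CyclicNormal.AllCyclic (P : Subgroup K)) :
    Group.IsSolvable K := by
  obtain ⟨z, v, hzp, hz1, hzc, hvp, hvz, hconj⟩ := exists_special_pair P.2 hn
  have hpN : Nat.Coprime (Nat.card V) p := by
    obtain ⟨d, hd⟩ := hV
    rw [hd]
    refine Nat.Coprime.pow_left _ ((Nat.coprime_primes hq.out hp.out).mpr fun e => hK ?_)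
    rw [e]
    have h1 : orderOf z = p := orderOf_eq_prime hzp hz1
    exact h1 ▸ (Subgroup.orderOf_coe z).symm ▸ orderOf_dvd_natCard (z : K)
  let e := nsmulCoprime hpN
  have hfix0 : ∀ x : V, z • x = x → x = 0 := by
    intro x hx
    rcases hirr (fixedBy' z) (fun k w hw => inv_of_sylow h P _ (fun g hg w hw => by
        rw [mem_fixedBy'] at hw ⊢
        change z • (⟨g, hg⟩ : (P : Subgroup K)) • w = (⟨g, hg⟩ : (P : Subgroup K)) • w
        rw [← mul_smul, ← (hzc ⟨g, hg⟩).eq, mul_smul, hw]) k w hw) with hb | ht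
    · exact AddSubgroup.mem_bot.mp (hb ▸ (show x ∈ fixedBy' z from hx))
    · exfalso
      exact hz1 (FaithfulSMul.eq_of_smul_eq_smul fun w : V => by
        rw [one_smul]; exact (ht ▸ AddSubgroup.mem_top w : w ∈ fixedBy' z))
  let S : Fin p → V →+ V := fun i =>
    ∑ k ∈ Finset.range p, DistribSMul.toAddMonoidHom V ((z ^ (i : ℕ) * v) ^ k)
  have hS : ∀ i x, S i x = ∑ k ∈ Finset.range p, (z ^ (i : ℕ) * v) ^ k • x := fun i x => by
    simp [S]
  let hom : V ≃+ V :=
    { e with map_add' := fun a b => nsmul_add a b p }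
  let π : Fin p → V →+ V := fun i => hom.symm.toAddMonoidHom.comp (S i)
  have hπ : ∀ i x, π i x = hom.symm (S i x) := fun _ _ => rfl
  let U : Fin p → AddSubgroup V := fun i => fixedBy' (z ^ (i : ℕ) * v)
  have hexp : ∀ i : Fin p, (z ^ (i : ℕ) * v) ^ p = 1 := fun i => by
    rw [((hzc v).symm.pow_left (i : ℕ)).mul_pow, ← pow_mul, mul_comm (i : ℕ) p, pow_mul, hzp,
      one_pow, hvp, one_mul]
  have hmem : ∀ i x, π i x ∈ U i := by
    intro i x
    rw [mem_fixedBy', hπ]
    apply hom.injective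
    change p • ((z ^ (i : ℕ) * v) • hom.symm (S i x)) = hom (hom.symm (S i x))
    rw [← smul_comm (z ^ (i : ℕ) * v) p]
    change (z ^ (i : ℕ) * v) • hom (hom.symm (S i x)) = _
    rw [AddEquiv.apply_symm_apply, hS]
    exact smul_sum_pow _ (hexp i) x
  have hfix : ∀ i, ∀ x ∈ U i, π i x = x := by
    intro i x hx
    rw [hπ, AddEquiv.symm_apply_eq, hS,
      Finset.sum_congr rfl (fun k _ => smul_pow_eq_self hx k), Finset.sum_const, Finset.card_range]
    rfl
  have zorb : ∀ (m : ℕ), ¬ p ∣ m → ∀ x : V, ∑ k ∈ Finset.range p, (z ^ m) ^ k • x = 0 := by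
    intro m hm x
    refine hfix0 _ ?_
    have hfx := smul_sum_pow (z ^ m) (m := p) (by rw [← pow_mul, mul_comm, pow_mul, hzp, one_pow]) x
    obtain ⟨c, -, hc⟩ := Nat.exists_mul_mod_eq_one_of_coprime
      ((Nat.Coprime.symm (hp.out.coprime_iff_not_dvd.mpr hm)) : Nat.Coprime m p) hp.out.one_lt
    have hz' : (z ^ m) ^ c = z := by
      conv_rhs => rw [← pow_one z, ← hc]
      rw [← pow_mul, ← pow_eq_pow_mod _ hzp]
    have h1 := smul_pow_eq_self hfx c
    rwa [hz'] at h1
  have hzero : ∀ i j, i ≠ j → ∀ x ∈ U j, π i x = 0 := by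
    intro i j hij x hx
    rw [hπ, AddEquiv.map_eq_zero_iff, hS]
    have hd : ∃ m : ℕ, ¬ p ∣ m ∧ z ^ (i : ℕ) * v = z ^ m * (z ^ (j : ℕ) * v) := by
      refine ⟨(i : ℕ) + (p - j), fun hd => hij (Fin.ext ?_), ?_⟩
      · obtain ⟨c, hc⟩ := hd
        have hi := i.isLt
        have hj := j.isLt
        rcases c with _ | _ | c
        · omega
        · omega
        · have : p * 2 ≤ p * (c + 1 + 1) := Nat.mul_le_mul_left p (by omega)
          omega
      · rw [← mul_assoc, ← pow_add, add_assoc, Nat.sub_add_cancel j.isLt.le, pow_add, hzp, mul_one]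
    obtain ⟨m, hm, he⟩ := hd
    have hc : Commute (z ^ m) (z ^ (j : ℕ) * v) :=
      ((Commute.refl z).pow_pow m j).mul_right ((hzc v).symm.pow_left m)
    rw [he]
    refine (Finset.sum_congr rfl fun k _ => ?_).trans (zorb m hm x)
    rw [hc.mul_pow, mul_smul, smul_pow_eq_self hx]
  have hsum : ∀ x, ∑ i, π i x = x := by
    intro x
    simp only [hπ, ← map_sum, AddEquiv.symm_apply_eq, hS]
    rw [Finset.sum_comm, Finset.sum_eq_single 0]
    · simp [Fintype.card_fin]
      rfl
    · intro k hk hk0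
      have hkp : ¬ p ∣ k := fun hd => by
        have := Nat.le_of_dvd (Nat.pos_of_ne_zero hk0) hd
        have := Finset.mem_range.mp hk
        omega
      rw [← zorb k hkp (v ^ k • x), ← Fin.sum_univ_eq_sum_range (fun i => (z ^ k) ^ i • v ^ k • x)]
      refine Finset.sum_congr rfl fun i _ => ?_
      rw [((hzc v).symm.pow_left (i : ℕ)).mul_pow, mul_smul, ← pow_mul, ← pow_mul, mul_comm]
    · intro h0
      exact absurd (Finset.mem_range.mpr hp.out.pos) h0
  have hperm : ∀ g ∈ (P : Subgroup K), ∀ i, ∃ j, ∀ x ∈ U i, g • x ∈ U j := by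
    intro g hg i
    obtain ⟨c, hc⟩ := hconj ⟨g, hg⟩
    refine ⟨⟨((i : ℕ) + c) % p, Nat.mod_lt _ hp.out.pos⟩, fun x hx => ?_⟩
    rw [mem_fixedBy'] at hx ⊢
    set G : (P : Subgroup K) := ⟨g, hg⟩ with hG
    change (z ^ (((i : ℕ) + c) % p) * v) • G • x = G • x
    rw [← pow_eq_pow_mod _ hzp, pow_add, mul_assoc, ← hc, ← mul_assoc, ← mul_assoc,
      ← ((hzc G).pow_right (i : ℕ)).eq, mul_assoc G, ← mul_smul, inv_mul_cancel_right, mul_smul, hx]
  have hne : ∀ i, U i ≠ ⊥ := by
    by_contra hne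
    push Not at hne
    obtain ⟨i₀, hi₀⟩ := hne
    have key : ∀ i, U i = ⊥ := by
      by_cases hcen : ∀ g : (P : Subgroup K), Commute g v
      · intro i
        refine (hirr (U i) (fun k w hw => inv_of_sylow h P _ (fun g hg w hw => ?_) k w hw)).resolve_right
          fun ht => hvz ?_
        · rw [mem_fixedBy'] at hw ⊢
          change (z ^ (i : ℕ) * v) • (⟨g, hg⟩ : (P : Subgroup K)) • w =
            (⟨g, hg⟩ : (P : Subgroup K)) • w
          rw [← mul_smul, ← (((hzc ⟨g, hg⟩).pow_right (i : ℕ)).mul_right (hcen ⟨g, hg⟩)).eq,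
            mul_smul, hw]
        · have h1 : z ^ (i : ℕ) * v = 1 := FaithfulSMul.eq_of_smul_eq_smul fun w : V => by
            rw [one_smul]
            exact (ht ▸ AddSubgroup.mem_top w : w ∈ U i)
          rw [eq_inv_of_mul_eq_one_right h1]
          exact inv_mem (Subgroup.pow_mem _ (mem_zpowers z) _)
      · push Not at hcen
        obtain ⟨g, hg⟩ := hcen
        obtain ⟨c, hc⟩ := hconj g
        have hcp : ¬ p ∣ c := by
          rintro ⟨d, rfl⟩
          rw [pow_mul, hzp, one_pow, one_mul, mul_inv_eq_iff_eq_mul] at hc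
          exact hg hc
        intro i
        obtain ⟨t, -, ht⟩ := Nat.exists_mul_mod_eq_one_of_coprime
          ((Nat.Coprime.symm (hp.out.coprime_iff_not_dvd.mpr hcp)) : Nat.Coprime c p) hp.out.one_lt
        -- `g ^ m` moves component `i` to component `i₀`
        set m := t * ((i₀ : ℕ) + (p - i)) with hm
        have hgm : ∀ n : ℕ, g ^ n * v * (g ^ n)⁻¹ = z ^ (c * n) * v := by
          intro n
          induction n with
          | zero => simp
          | succ n ih =>
            calc g ^ (n + 1) * v * (g ^ (n + 1))⁻¹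
                = g * (g ^ n * v * (g ^ n)⁻¹) * g⁻¹ := by rw [pow_succ']; group
              _ = g * z ^ (c * n) * v * g⁻¹ := by rw [ih]; group
              _ = z ^ (c * n) * (g * v * g⁻¹) := by rw [((hzc g).pow_right (c * n)).eq]; group
              _ = z ^ (c * (n + 1)) * v := by rw [hc, ← mul_assoc, ← pow_add, Nat.mul_succ]
        have hmv : z ^ (c * m) = z ^ ((i₀ : ℕ) + (p - i)) := by
          rw [hm, ← mul_assoc, pow_mul, pow_eq_pow_mod _ hzp, ht, pow_one]
        refine (AddSubgroup.eq_bot_iff_forall _).mpr fun x hx => ?_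
        have hx' : g ^ m • x ∈ U i₀ := by
          rw [mem_fixedBy'] at hx ⊢
          have e1 : g ^ m * (z ^ (i : ℕ) * v) = z ^ (i₀ : ℕ) * v * g ^ m := by
            rw [← mul_assoc, ((hzc (g ^ m)).pow_right (i : ℕ)).eq, mul_assoc,
              mul_inv_eq_iff_eq_mul.mp (hgm m), ← mul_assoc, ← mul_assoc, ← pow_add, pow_add, hmv,
              ← pow_add, show (i : ℕ) + ((i₀ : ℕ) + (p - i)) = (i₀ : ℕ) + p by omega, pow_add, hzp,
              mul_one]
          rw [← mul_smul, ← e1, mul_smul, hx]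
        rw [hi₀, AddSubgroup.mem_bot, smul_eq_zero_iff_eq] at hx'
        exact hx'
    have : ∀ x : V, x = 0 := fun x => by
      rw [← hsum x]
      exact Finset.sum_eq_zero fun i _ => AddSubgroup.mem_bot.mp (key i ▸ hmem i x)
    exact hz1 (FaithfulSMul.eq_of_smul_eq_smul fun w : V => by rw [this w, smul_zero, one_smul])
  exact solvable_of_decomposition hsol hV hK h P hirr π U hne hmem hfix hzero hsum hperm

end CfsgLib.FGS.OrbitPower
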