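import Cfsg.Agent.FGS.OrbitImprimitive

/-!
Irreducible coprime actions with prime power orbits: quaternion, dihedral and semidihedral Sylow
subgroups.
-/

set_option linter.style.haveILetI false

namespace CfsgLib.FGS.OrbitPower

open MulAction Subgroup

universe u

/-- A semilinear involution inverting a root of unity of 2-power order up to a Frobenius power
forces a field with at most `q ^ 2` elements. -/
theorem card_field_le_sq (E : Type*) [Field E] [Finite E] (q : ℕ) [hq : Fact q.Prime] [CharP E q]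
    (ζ : E) (hgen : Subring.closure ({ζ} : Set E) = ⊤) {n : ℕ} (hn : 2 ≤ n)
    (hζ : orderOf ζ = 2 ^ n) {s : ℕ} (hs : s % 4 = 3) (ψ : E →+* E) (h1 : ψ ζ = ζ ^ s)
    (h2 : ψ (ψ ζ) = ζ) : Nat.card E ≤ q ^ 2 := by
  let := ZMod.algebra E q
  have hcom : ψ.comp (algebraMap (ZMod q) E) = algebraMap (ZMod q) E := Subsingleton.elim _ _
  let ψ' : E →ₐ[ZMod q] E := AlgHom.mk ψ fun r => RingHom.congr_fun hcom r
  have hψ : ∀ x, ψ' x = ψ x := fun _ => rfl
  obtain ⟨⟨i, hi'⟩, hi⟩ := (FiniteField.bijective_frobeniusAlgHom_pow (ZMod q) E).2 ψ'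
  have hfrob : ∀ x, ψ x = x ^ q ^ i := by
    intro x
    rw [← hψ, ← hi, AlgHom.coe_pow, FiniteField.coe_frobeniusAlgHom, ZMod.card, pow_iterate]
  have h4 : 4 ∣ 2 ^ n := by
    obtain ⟨m, rfl⟩ := Nat.exists_eq_add_of_le hn
    exact ⟨2 ^ m, by rw [pow_add]; norm_num⟩
  have hmod : q ^ i % 4 = 3 := by
    have e : ζ ^ (q ^ i) = ζ ^ s := by rw [← hfrob, h1]
    have hζ0 : IsOfFinOrder ζ := orderOf_pos_iff.mp (hζ ▸ Nat.two_pow_pos n)
    have h : q ^ i ≡ s [MOD 2 ^ n] := hζ ▸ (hζ0.pow_eq_pow_iff_modEq).mp e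
    exact Eq.trans (h.of_dvd h4) hs
  have hodd : ¬ 2 ∣ q := by
    intro hd
    obtain rfl := ((Nat.prime_dvd_prime_iff_eq Nat.prime_two hq.out).mp hd).symm
    rcases i with _ | _ | i
    · simp at hmod
    · simp at hmod
    · have : 4 ∣ 2 ^ (i + 1 + 1) := ⟨2 ^ i, by rw [pow_succ, pow_succ]; ring⟩
      omega
  have hiodd : ¬ 2 ∣ i := by
    rintro ⟨j, rfl⟩
    rw [pow_mul, Nat.pow_mod] at hmod
    have hq4 : q ^ 2 % 4 = 1 := by
      have : q % 4 = 1 ∨ q % 4 = 3 := by omega
      rw [Nat.pow_mod]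
      rcases this with h | h <;> rw [h]
    rw [hq4] at hmod
    simp at hmod
  have hper1 : Function.IsPeriodicPt (fun x : E => x ^ q) (2 * i) ζ := by
    change (fun x : E => x ^ q)^[2 * i] ζ = ζ
    rw [pow_iterate]
    conv_rhs => rw [← h2, hfrob, hfrob, ← pow_mul, ← pow_add]
    change ζ ^ q ^ (2 * i) = ζ ^ q ^ (i + i)
    rw [two_mul]
  have hper2 : Function.IsPeriodicPt (fun x : E => x ^ q) (2 ^ n) ζ := by
    change (fun x : E => x ^ q)^[2 ^ n] ζ = ζ
    rw [pow_iterate]
    have hco : Nat.Coprime q (2 ^ n) :=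
      Nat.Coprime.pow_right _ (Nat.Coprime.symm (Nat.prime_two.coprime_iff_not_dvd.mpr hodd))
    have hphi : (2 : ℕ) ^ n = Nat.totient (2 ^ n) * 2 := by
      rw [Nat.totient_prime_pow Nat.prime_two (by omega)]
      simp only [Nat.add_one_sub_one, mul_one]
      rw [← pow_succ, Nat.sub_add_cancel (by omega)]
    have h : q ^ (2 ^ n) ≡ 1 [MOD 2 ^ n] := by
      calc q ^ (2 ^ n) = (q ^ Nat.totient (2 ^ n)) ^ 2 := by rw [← pow_mul, ← hphi]
        _ ≡ 1 ^ 2 [MOD 2 ^ n] := (Nat.ModEq.pow_totient hco).pow _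
        _ = 1 := one_pow _
    conv_rhs => rw [← pow_one ζ]
    have hζ0 : IsOfFinOrder ζ := orderOf_pos_iff.mp (hζ ▸ Nat.two_pow_pos n)
    refine hζ0.pow_eq_pow_iff_modEq.mpr ?_
    rw [hζ]
    exact h
  have hgcd : Nat.gcd (2 * i) (2 ^ n) = 2 := by
    obtain ⟨m, rfl⟩ := Nat.exists_eq_add_of_le (show 1 ≤ n by omega)
    rw [pow_add, pow_one, Nat.gcd_mul_left,
      Nat.Coprime.pow_right m (Nat.Coprime.symm (Nat.prime_two.coprime_iff_not_dvd.mpr hiodd)),
      mul_one]
  have hζ2 : ζ ^ q ^ 2 = ζ := by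
    have h := hper1.gcd hper2
    rw [hgcd] at h
    have h' : (fun x : E => x ^ q)^[2] ζ = ζ := h
    rwa [pow_iterate] at h'
  have hall : ∀ x : E, x ^ q ^ 2 = x := by
    intro x
    have hle : Subring.closure ({ζ} : Set E) ≤
        RingHom.eqLocus (iterateFrobenius E q 2) (RingHom.id E) := by
      rw [Subring.closure_le, Set.singleton_subset_iff]
      change iterateFrobenius E q 2 ζ = ζ
      rw [iterateFrobenius_def, hζ2]
    have h : iterateFrobenius E q 2 x = x := hle (hgen ▸ Subring.mem_top x)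
    rwa [iterateFrobenius_def] at h
  obtain ⟨g, hg⟩ := IsCyclic.exists_generator (α := Eˣ)
  have hq2 : 1 ≤ q ^ 2 := Nat.one_le_pow _ _ hq.out.pos
  have hq3 : 2 ≤ q ^ 2 := (hq.out.two_le).trans (Nat.le_self_pow two_ne_zero q)
  have hg1 : g ^ (q ^ 2 - 1) = 1 := by
    apply Units.ext
    rw [Units.val_pow_eq_pow_val, Units.val_one]
    have h := hall (g : E)
    nth_rw 1 [show q ^ 2 = (q ^ 2 - 1) + 1 by omega] at h
    rw [pow_succ] at h
    exact mul_right_cancel₀ g.ne_zero (h.trans (one_mul _).symm)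
  have h := orderOf_le_of_pow_eq_one (by omega) hg1
  rw [orderOf_eq_card_of_forall_mem_zpowers hg, Nat.card_units] at h
  omega

variable {K V : Type u} [Group K] [AddCommGroup V] [DistribMulAction K V] {p q : ℕ}

/-- An irreducible action on at most `q ^ 2` points. -/
theorem solvable_of_card_le_sq [Finite K] [Finite V] [FaithfulSMul K V] [hp : Fact p.Prime]
    [hq : Fact q.Prime] (hV : ∃ d, Nat.card V = q ^ d)
    (hK : ¬ q ∣ Nat.card K) (h : POrb p K V) (hle : Nat.card V ≤ q ^ 2) : Group.IsSolvable K := by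
  by_cases hV0 : ∀ v : V, v = 0
  · have : Subsingleton K := ⟨fun a b => FaithfulSMul.eq_of_smul_eq_smul fun v : V => by
      rw [hV0 v, smul_zero, smul_zero]⟩
    infer_instance
  push Not at hV0
  obtain ⟨v, hv⟩ := hV0
  set L := AddSubgroup.zmultiples v with hL
  obtain ⟨a, ha⟩ := h v
  refine isSolvable_of_abelian_index (Nat.card K) K le_rfl p (stabilizer K v) ?_ ⟨a, ha⟩
  have hLd : ∃ d, Nat.card L = q ^ d := sub_pow hV L
  have hL1 : 1 < Nat.card L := by
    rw [Nat.card_zmultiples]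
    have h0 := addOrderOf_pos v
    have h1 : addOrderOf v ≠ 1 := fun e => hv (AddMonoid.addOrderOf_eq_one_iff.mp e)
    omega
  have hLq : q ≤ Nat.card L := by
    obtain ⟨d, hd⟩ := hLd
    rcases d with _ | d
    · rw [pow_zero] at hd; omega
    · rw [hd]; exact Nat.le_self_pow d.succ_ne_zero q
  have hQ : IsAddCyclic (V ⧸ L) := by
    have hmul := L.card_eq_card_quotient_mul_card_addSubgroup
    obtain ⟨d, hd⟩ := quot_pow hV L
    have h3 : Nat.card (V ⧸ L) ≤ q := by nlinarith [hq.out.pos, Nat.card_pos (α := V ⧸ L)]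
    have hd2 : d = 0 ∨ d = 1 := by
      rcases d with _ | _ | d
      · exact Or.inl rfl
      · exact Or.inr rfl
      · exfalso
        have := Nat.pow_le_pow_right hq.out.pos (show 2 ≤ d + 1 + 1 by omega)
        have := hq.out.two_le
        nlinarith
    rcases hd2 with rfl | rfl
    · have : Subsingleton (V ⧸ L) := (Nat.card_eq_one_iff_unique.mp (by simpa using hd)).1
      exact isAddCyclic_of_subsingleton
    · exact isAddCyclic_of_prime_card (p := q) (by simpa using hd)
  have hinv : ∀ g : stabilizer K v, ∀ w ∈ L, (g : K) • w = w := by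
    intro g w hw
    obtain ⟨j, rfl⟩ := AddSubgroup.mem_zmultiples_iff.mp hw
    rw [smul_comm, mem_stabilizer_iff.mp g.2]
  have hLinv : ∀ g : stabilizer K v, ∀ w ∈ L, g • w ∈ L := fun g w hw => by
    rw [Subgroup.smul_def, hinv g w hw]; exact hw
  let iQ := quotAction (K := stabilizer K v) L hLinv
  refine ⟨⟨fun g h' => ?_⟩⟩
  apply Subtype.ext
  have key : ∀ x : V ⧸ L, g • h' • x = h' • g • x := by
    intro x
    obtain ⟨mg, hmg⟩ := AddMonoidHom.map_addCyclic (DistribSMul.toAddMonoidHom (V ⧸ L) g)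
    obtain ⟨mh, hmh⟩ := AddMonoidHom.map_addCyclic (DistribSMul.toAddMonoidHom (V ⧸ L) h')
    change DistribSMul.toAddMonoidHom (V ⧸ L) g (DistribSMul.toAddMonoidHom (V ⧸ L) h' x) =
      DistribSMul.toAddMonoidHom (V ⧸ L) h' (DistribSMul.toAddMonoidHom (V ⧸ L) g x)
    simp only [hmh, hmg]
    exact smul_comm mg mh x
  have hc : (g * h' * g⁻¹ * h'⁻¹ : stabilizer K v) = 1 := by
    refine eq_one_of_trivial L (coprime_card hLd fun hd =>
      hK (hd.trans (Subgroup.card_subgroup_dvd_card _))) _ (fun w hw => ?_) fun w => ?_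
    · rw [Subgroup.smul_def, hinv _ w hw]
    · rw [← QuotientAddGroup.eq_zero_iff, QuotientAddGroup.mk_sub, sub_eq_zero]
      change (g * h' * g⁻¹ * h'⁻¹) • (w : V ⧸ L) = (w : V ⧸ L)
      rw [mul_smul, mul_smul, mul_smul, key, smul_inv_smul, smul_inv_smul]
  exact congrArg Subtype.val (mul_inv_eq_one.mp (by rw [← hc]; group) : g * h' = h' * g)

/-- The semilinear case: a Sylow 2-subgroup with a cyclic subgroup of index two. -/
theorem solvable_of_semilinear [Finite K] [Finite V] [FaithfulSMul K V]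
    [hq : Fact q.Prime] (hsol : Sol.{u} q 2 (Nat.card V)) (hV : ∃ d, Nat.card V = q ^ d)
    (hK : ¬ q ∣ Nat.card K) (h : POrb 2 K V) (P : Sylow 2 K)
    (hirr : ∀ W : AddSubgroup V, (∀ k : K, ∀ w ∈ W, k • w ∈ W) → W = ⊥ ∨ W = ⊤)
    (hqV : ∀ v : V, q • v = 0) {a b : K}
    (hgen : ∀ x ∈ (P : Subgroup K), x ∈ zpowers a ∨ b⁻¹ * x ∈ zpowers a)
    {n : ℕ} (hn : 2 ≤ n) (ha : orderOf a = 2 ^ n) {s : ℕ} (hs : s % 4 = 3)
    (hb : b * a * b⁻¹ = a ^ s) (hb2 : b * b ∈ zpowers a) : Group.IsSolvable K := by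
  have hb' : b⁻¹ * a * b = a ^ s := by
    obtain ⟨j, hj⟩ := Subgroup.mem_zpowers_iff.mp hb2
    calc b⁻¹ * a * b = b * ((b * b)⁻¹ * a * (b * b)) * b⁻¹ := by group
      _ = b * a * b⁻¹ := by rw [← hj]; group
      _ = a ^ s := hb
  have hapow : ∀ (W : AddSubgroup V), (∀ w ∈ W, a • w ∈ W) → ∀ x ∈ zpowers a, ∀ w ∈ W, x • w ∈ W := by
    intro W hW x hx w hw
    obtain ⟨m, rfl⟩ := mem_powers_iff_mem_zpowers.mpr hx
    clear hx
    change a ^ m • w ∈ W
    induction m with
    | zero => rw [pow_zero, one_smul]; exact hw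
    | succ m ih => rw [pow_succ', mul_smul]; exact hW _ ih
  by_cases hred : ∃ W : AddSubgroup V, W ≠ ⊥ ∧ W ≠ ⊤ ∧ ∀ w ∈ W, a • w ∈ W
  · obtain ⟨W, hW0, hW1, hWa⟩ := hred
    let W' : AddSubgroup V := W.map (DistribSMul.toAddMonoidHom V b)
    have hW'a : ∀ w ∈ W', a • w ∈ W' := by
      rintro _ ⟨w, hw, rfl⟩
      refine ⟨a ^ s • w, hapow W hWa _ (Subgroup.pow_mem _ (mem_zpowers a) s) w hw, ?_⟩
      change b • a ^ s • w = a • b • w
      rw [← mul_smul, ← mul_smul, ← hb']
      group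
    have hbW' : ∀ w ∈ W', b • w ∈ W := by
      rintro _ ⟨w, hw, rfl⟩
      change b • b • w ∈ W
      rw [← mul_smul]
      exact hapow W hWa _ hb2 w hw
    have hbW : ∀ w ∈ W, b • w ∈ W' := fun w hw => ⟨w, hw, rfl⟩
    have hinvP : ∀ X : AddSubgroup V, (∀ w ∈ X, a • w ∈ X) → (∀ w ∈ X, b • w ∈ X) →
        X = ⊥ ∨ X = ⊤ := by
      intro X hXa hXb
      refine hirr X fun k w hw => inv_of_sylow h P X (fun g hg w hw => ?_) k w hw
      rcases hgen g hg with hga | hga
      · exact hapow X hXa g hga w hw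
      · rw [show g = b * (b⁻¹ * g) by group, mul_smul]
        exact hXb _ (hapow X hXa _ hga w hw)
    have hinf : W ⊓ W' = ⊥ := by
      refine (hinvP _ (fun w hw => AddSubgroup.mem_inf.mpr ⟨hWa w hw.1, hW'a w hw.2⟩)
        (fun w hw => AddSubgroup.mem_inf.mpr ⟨hbW' w hw.2, hbW w hw.1⟩)).resolve_right fun e => hW1 ?_
      exact top_le_iff.mp (e ▸ inf_le_left)
    have hsup : W ⊔ W' = ⊤ := by
      refine (hinvP _ (fun w hw => ?_) (fun w hw => ?_)).resolve_left fun e => hW0 ?_
      · obtain ⟨x, hx, y, hy, rfl⟩ := AddSubgroup.mem_sup.mp hw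
        rw [smul_add]
        exact add_mem (AddSubgroup.mem_sup_left (hWa x hx)) (AddSubgroup.mem_sup_right (hW'a y hy))
      · obtain ⟨x, hx, y, hy, rfl⟩ := AddSubgroup.mem_sup.mp hw
        rw [smul_add]
        exact add_mem (AddSubgroup.mem_sup_right (hbW x hx)) (AddSubgroup.mem_sup_left (hbW' y hy))
      · exact le_bot_iff.mp (e ▸ le_sup_left)
    have hW'0 : W' ≠ ⊥ := fun e => hW1 (by rwa [e, sup_bot_eq] at hsup)
    let T : W × W' →+ V := W.subtype.coprod W'.subtype
    have hT : Function.Bijective T := by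
      refine ⟨(injective_iff_map_eq_zero T).mpr ?_, fun v => ?_⟩
      · rintro ⟨⟨x, hx⟩, ⟨y, hy⟩⟩ e
        have e' : x + y = 0 := e
        have hxy : x = -y := eq_neg_of_add_eq_zero_left e'
        have hx0 : x = 0 := AddSubgroup.mem_bot.mp (hinf ▸ AddSubgroup.mem_inf.mpr ⟨hx, hxy.symm ▸ W'.neg_mem hy⟩)
        have hy0 : y = 0 := by rwa [hx0, zero_add] at e'
        simp [hx0, hy0]
      · obtain ⟨x, hx, y, hy, e⟩ := AddSubgroup.mem_sup.mp (hsup ▸ AddSubgroup.mem_top v)
        exact ⟨(⟨x, hx⟩, ⟨y, hy⟩), e⟩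
    let e := AddEquiv.ofBijective T hT
    let π0 : V →+ V := W.subtype.comp ((AddMonoidHom.fst W W').comp e.symm.toAddMonoidHom)
    let π1 : V →+ V := W'.subtype.comp ((AddMonoidHom.snd W W').comp e.symm.toAddMonoidHom)
    have hleft : ∀ (v : V) (hv : v ∈ W), e.symm v = (⟨v, hv⟩, 0) := fun v hv => by
      rw [AddEquiv.symm_apply_eq]
      exact (add_zero v).symm
    have hright : ∀ (v : V) (hv : v ∈ W'), e.symm v = (0, ⟨v, hv⟩) := fun v hv => by
      rw [AddEquiv.symm_apply_eq]
      exact (zero_add v).symm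
    refine solvable_of_decomposition hsol hV hK h P hirr ![π0, π1] ![W, W'] ?_ ?_ ?_ ?_ ?_ ?_
    · intro i; fin_cases i <;> assumption
    · intro i v
      fin_cases i
      · exact (e.symm v).1.2
      · exact (e.symm v).2.2
    · intro i v hv
      fin_cases i
      · change ((e.symm v).1 : V) = v
        rw [hleft v hv]
      · change ((e.symm v).2 : V) = v
        rw [hright v hv]
    · intro i j hij v hv
      fin_cases i <;> fin_cases j
      · exact absurd rfl hij
      · change ((e.symm v).1 : V) = 0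
        rw [hright v hv]
        rfl
      · change ((e.symm v).2 : V) = 0
        rw [hleft v hv]
        rfl
      · exact absurd rfl hij
    · intro v
      rw [Fin.sum_univ_two]
      exact e.apply_symm_apply v
    · intro g hg i
      rcases hgen g hg with hga | hga
      · refine ⟨i, fun v hv => ?_⟩
        fin_cases i
        · exact hapow W hWa g hga v hv
        · exact hapow W' hW'a g hga v hv
      · refine ⟨1 - i, fun v hv => ?_⟩
        rw [show g = b * (b⁻¹ * g) by group, mul_smul]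
        fin_cases i
        · exact hbW _ (hapow W hWa _ hga v hv)
        · exact hbW' _ (hapow W' hW'a _ hga v hv)
  push Not at hred
  have hred' : ∀ X : AddSubgroup V, (∀ w ∈ X, a • w ∈ X) → X ≠ ⊥ → X = ⊤ := fun X hX hX0 => by
    by_contra hX1
    obtain ⟨w, hw, hw'⟩ := hred X hX0 hX1
    exact hw' (hX w hw)
  apply solvable_of_card_le_sq hV hK h
  by_cases hV0 : Subsingleton V
  · rw [Nat.card_unique]
    exact Nat.one_le_pow _ _ hq.out.pos
  rw [not_subsingleton_iff_nontrivial] at hV0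
  obtain ⟨v0, hv0⟩ := exists_ne (0 : V)
  let φ : K →* AddMonoid.End V := DistribMulAction.toAddMonoidEnd K V
  have hφinj : Function.Injective φ := fun x y e =>
    FaithfulSMul.eq_of_smul_eq_smul fun w : V => DFunLike.congr_fun e w
  let E : Subring (AddMonoid.End V) := Subring.closure {φ a}
  have hEfin : Finite E := Finite.of_injective (fun x : E => ((x : AddMonoid.End V) : V → V))
    fun x y e => Subtype.ext (DFunLike.coe_injective e)
  have hcomm : IsMulCommutative E := Subring.isMulCommutative_closure fun x hx y hy => by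
    rw [Set.mem_singleton_iff.mp hx, Set.mem_singleton_iff.mp hy]
  let iE : CommRing E := { (inferInstance : Ring E) with mul_comm := hcomm.is_comm.comm }
  have hcommA : ∀ (x : E) (w : V), (x : AddMonoid.End V) (a • w) = a • (x : AddMonoid.End V) w := by
    intro x w
    have := congrArg Subtype.val
      (hcomm.is_comm.comm x (⟨φ a, Subring.subset_closure rfl⟩ : E))
    exact DFunLike.congr_fun this w
  have hinj : ∀ x : E, x ≠ 0 → ∀ w, (x : AddMonoid.End V) w = 0 → w = 0 := by
    intro x hx w hw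
    by_contra hw0
    apply hx
    have hker : AddMonoidHom.ker (x : AddMonoid.End V) = ⊤ := hred' _ (fun y hy => by
      change (x : AddMonoid.End V) (a • y) = 0
      rw [hcommA, show (x : AddMonoid.End V) y = 0 from hy, smul_zero])
      fun e => hw0 (AddSubgroup.mem_bot.mp (e ▸ (hw : w ∈ AddMonoidHom.ker (x : AddMonoid.End V))))
    apply Subtype.ext
    refine AddMonoidHom.ext fun y => ?_
    exact (hker ▸ AddSubgroup.mem_top y : y ∈ AddMonoidHom.ker (x : AddMonoid.End V))
  have : Nontrivial E := ⟨⟨0, 1, fun e => hv0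
    (DFunLike.congr_fun (congrArg Subtype.val e) v0).symm⟩⟩
  have : NoZeroDivisors E := ⟨fun {x y} hxy => by
    by_contra hne
    push Not at hne
    obtain ⟨w, hw⟩ : ∃ w, (y : AddMonoid.End V) w ≠ 0 := by
      by_contra hall
      push Not at hall
      exact hne.2 (Subtype.ext (AddMonoidHom.ext hall))
    exact hw (hinj x hne.1 _ (DFunLike.congr_fun (congrArg Subtype.val hxy) w))⟩
  have : IsDomain E := NoZeroDivisors.to_isDomain E
  let iF : Field E := (Finite.isField_of_domain E).toField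
  let ev : E →+ V :=
    { toFun := fun x => (x : AddMonoid.End V) v0
      map_zero' := rfl
      map_add' := fun _ _ => rfl }
  have hev : Function.Surjective ev := by
    rw [← AddMonoidHom.range_eq_top]
    refine hred' _ ?_ fun e => hv0 (AddSubgroup.mem_bot.mp (e ▸ (⟨1, rfl⟩ : v0 ∈ ev.range)))
    rintro _ ⟨x, rfl⟩
    exact ⟨(⟨φ a, Subring.subset_closure rfl⟩ : E) * x, rfl⟩
  refine (Nat.card_le_card_of_surjective ev hev).trans ?_
  have hq0 : ((q : ℕ) : E) = 0 := by
    rw [← nsmul_one]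
    exact Subtype.ext (AddMonoidHom.ext fun w => hqV w)
  have : CharP E q := (CharP.charP_iff_prime_eq_zero hq.out).mpr hq0
  let ζ : E := ⟨φ a, Subring.subset_closure rfl⟩
  have hζ : orderOf ζ = 2 ^ n := by
    rw [← ha, ← orderOf_injective φ hφinj a]
    exact (orderOf_injective E.subtype.toMonoidHom Subtype.coe_injective ζ).symm
  let c : AddMonoid.End V →+* AddMonoid.End V :=
    { toFun := fun x => φ b * x * φ b⁻¹
      map_one' := by rw [mul_one, ← map_mul, mul_inv_cancel, map_one]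
      map_mul' := fun x y => by
        calc φ b * (x * y) * φ b⁻¹ = φ b * x * (φ b⁻¹ * φ b) * (y * φ b⁻¹) := by
              rw [← map_mul, inv_mul_cancel, map_one, mul_one]; simp [mul_assoc]
          _ = _ := by simp [mul_assoc]
      map_zero' := by rw [mul_zero, zero_mul]
      map_add' := fun x y => by rw [mul_add, add_mul] }
  have hca : c (φ a) = φ a ^ s := by
    change φ b * φ a * φ b⁻¹ = _
    rw [← map_mul, ← map_mul, hb, map_pow]
  have hcE : ∀ x : E, c x ∈ E := by
    intro x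
    have : E ≤ E.comap c := Subring.closure_le.mpr (Set.singleton_subset_iff.mpr (by
      rw [SetLike.mem_coe, Subring.mem_comap, hca]
      exact E.pow_mem (Subring.subset_closure rfl) s))
    exact this x.2
  let ψ : E →+* E := (c.comp E.subtype).codRestrict E hcE
  refine card_field_le_sq E q ζ ?_ hn hζ hs ψ (Subtype.ext ?_) (Subtype.ext ?_)
  · rw [eq_top_iff]
    rintro ⟨x, hx⟩ -
    have : E ≤ (Subring.closure ({ζ} : Set E)).map E.subtype :=
      Subring.closure_le.mpr (Set.singleton_subset_iff.mpr ⟨ζ, Subring.subset_closure rfl, rfl⟩)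
    obtain ⟨y, hy, e⟩ := this hx
    rwa [show y = ⟨x, hx⟩ from Subtype.ext e] at hy
  · change c (φ a) = _
    rw [hca]
    rfl
  · change c (c (φ a)) = φ a
    change φ b * (φ b * φ a * φ b⁻¹) * φ b⁻¹ = φ a
    rw [← map_mul, ← map_mul, ← map_mul, ← map_mul]
    congr 1
    obtain ⟨j, hj⟩ := Subgroup.mem_zpowers_iff.mp hb2
    calc b * (b * a * b⁻¹) * b⁻¹ = (b * b) * a * (b * b)⁻¹ := by group
      _ = a := by rw [← hj]; group

end CfsgLib.FGS.OrbitPower
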