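import Mathlib.GroupTheory.Sylow
import Mathlib.GroupTheory.SpecificGroups.Cyclic
import Mathlib.NumberTheory.Basic

/-!
Groups with a normal Sylow subgroup and cyclic quotient: a coprime generator modulo the Sylow
subgroup, and `p'`-elements acting on cyclic `p`-groups.
-/

set_option autoImplicit false
set_option linter.style.haveILetI false

namespace CfsgLib.FGS

variable {p : ℕ} [Fact p.Prime]

/-- A `p'`-element inducing on `⟨s⟩` an automorphism fixing its element of order `p` commutes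
with `s`. -/
theorem commute_of_fixes_bottom {G : Type*} [Group G] {s x : G} {n : ℕ}
    (hs : orderOf s = p ^ (n + 1)) (hx : (orderOf x).Coprime p)
    (hconj : x * s * x⁻¹ ∈ Subgroup.zpowers s)
    (hbot : x * s ^ p ^ n * x⁻¹ = s ^ p ^ n) : Commute x s := by
  obtain ⟨j, hj⟩ := Subgroup.mem_zpowers_iff.1 hconj
  have hiter : ∀ k : ℕ, x ^ k * s * (x ^ k)⁻¹ = s ^ (j ^ k) := by
    intro k
    induction k with
    | zero => simp
    | succ k ih =>
      calc x ^ (k + 1) * s * (x ^ (k + 1))⁻¹ = x * (x ^ k * s * (x ^ k)⁻¹) * x⁻¹ := by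
            rw [pow_succ']; group
        _ = (x * s * x⁻¹) ^ (j ^ k) := by rw [ih, conj_zpow]
        _ = s ^ (j ^ (k + 1)) := by rw [← hj, ← zpow_mul, pow_succ']
  have hp : (p : ℤ) ∣ j - 1 := by
    have h1 : s ^ (j * (p ^ n : ℕ)) = s ^ ((p ^ n : ℕ) : ℤ) := by
      rw [zpow_mul, hj, conj_zpow, zpow_natCast, hbot]
    rw [zpow_eq_zpow_iff_modEq, hs, Int.modEq_comm, Int.modEq_iff_dvd, pow_succ, Nat.cast_mul,
      show j * ((p ^ n : ℕ) : ℤ) - ((p ^ n : ℕ) : ℤ) = ((p ^ n : ℕ) : ℤ) * (j - 1) by ring] at h1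
    exact Int.dvd_of_mul_dvd_mul_left
      (by exact_mod_cast pow_ne_zero n (Fact.out : p.Prime).ne_zero) h1
  have h2 : x ^ p ^ n * s * (x ^ p ^ n)⁻¹ = s := by
    rw [hiter]
    conv_rhs => rw [← zpow_one s]
    rw [zpow_eq_zpow_iff_modEq, hs, Int.modEq_comm, Int.modEq_iff_dvd]
    have := dvd_sub_pow_of_dvd_sub hp n
    rw [one_pow] at this
    exact_mod_cast this
  have h3 : x ∈ Subgroup.zpowers (x ^ p ^ n) := mem_zpowers_pow_iff.2 (hx.symm.pow_left n)
  obtain ⟨i, hi⟩ := Subgroup.mem_zpowers_iff.1 h3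
  rw [← hi]
  exact Commute.zpow_left (mul_inv_eq_iff_eq_mul.1 h2) i

/-- If `H/S` is cyclic with `S` a normal Sylow subgroup then `H = S⟨x⟩` for a `p'`-element `x`. -/
theorem exists_coprime_generator {H : Type*} [Group H] [Finite H] (S : Sylow p H)
    [(S : Subgroup H).Normal] [IsCyclic (H ⧸ (S : Subgroup H))] :
    ∃ x : H, (orderOf x).Coprime p ∧ (S : Subgroup H) ⊔ Subgroup.zpowers x = ⊤ := by
  obtain ⟨q, hq⟩ := IsCyclic.exists_generator (α := H ⧸ (S : Subgroup H))
  obtain ⟨y, rfl⟩ := QuotientGroup.mk_surjective q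
  have hco : (Nat.card S).Coprime (S : Subgroup H).index := S.card_coprime_index
  refine ⟨y ^ Nat.card S, ?_, ?_⟩
  · have hd : orderOf (y ^ Nat.card S) ∣ (S : Subgroup H).index := orderOf_dvd_of_pow_eq_one (by
      rw [← pow_mul, Subgroup.card_mul_index, pow_card_eq_one'])
    exact (((Fact.out : p.Prime).coprime_iff_not_dvd.2 S.not_dvd_index).symm).coprime_dvd_left hd
  · refine eq_top_iff.2 fun z _ => ?_
    have hgen : (y : H ⧸ (S : Subgroup H)) ∈
        Subgroup.zpowers ((y : H ⧸ (S : Subgroup H)) ^ Nat.card S) :=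
      mem_zpowers_pow_iff.2 (hco.coprime_dvd_right (by
        rw [Subgroup.index_eq_card]; exact orderOf_dvd_natCard _))
    have hz : (z : H ⧸ (S : Subgroup H)) ∈
        Subgroup.zpowers ((y : H ⧸ (S : Subgroup H)) ^ Nat.card S) :=
      Subgroup.zpowers_le.2 hgen (hq z)
    obtain ⟨i, hi⟩ := Subgroup.mem_zpowers_iff.1 hz
    rw [← QuotientGroup.mk_pow, ← QuotientGroup.mk_zpow, QuotientGroup.eq] at hi
    rw [show z = (y ^ Nat.card S) ^ i * (((y ^ Nat.card S) ^ i)⁻¹ * z) by group]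
    exact Subgroup.mul_mem _ (Subgroup.mem_sup_right (Subgroup.zpow_mem_zpowers _ i))
      (Subgroup.mem_sup_left hi)

omit [Fact p.Prime] in
/-- A cyclic normal Sylow subgroup centralised by a coprime generator. -/
theorem isCyclic_of_commute {H : Type*} [Group H] [Finite H] {S : Subgroup H} [IsCyclic S] {x : H}
    (hS : IsPGroup p S) (hx : (orderOf x).Coprime p) (htop : S ⊔ Subgroup.zpowers x = ⊤)
    (hc : ∀ s ∈ S, Commute x s) : IsCyclic H := by
  obtain ⟨⟨s, hs⟩, hgen⟩ := IsCyclic.exists_generator (α := S)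
  obtain ⟨k, hk⟩ := hS ⟨s, hs⟩
  have hk' : s ^ p ^ k = 1 := congrArg Subtype.val hk
  have hcop : (orderOf x).Coprime (orderOf s) :=
    (hx.pow_right k).coprime_dvd_right (orderOf_dvd_of_pow_eq_one hk')
  have hxc : Commute s x := (hc s hs).symm
  have h1 : s ∈ Subgroup.zpowers (s * x) := by
    have h2 : (s * x) ^ orderOf x = s ^ orderOf x := by
      rw [hxc.mul_pow, pow_orderOf_eq_one, mul_one]
    have h3 : s ∈ Subgroup.zpowers (s ^ orderOf x) := mem_zpowers_pow_iff.2 hcop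
    exact Subgroup.zpowers_le.2 (h2 ▸ Subgroup.npow_mem_zpowers _ _) h3
  refine ⟨⟨s * x, fun z => ?_⟩⟩
  have hle : S ⊔ Subgroup.zpowers x ≤ Subgroup.zpowers (s * x) := by
    refine sup_le (fun t ht => ?_) (Subgroup.zpowers_le.2 ?_)
    · obtain ⟨i, hi⟩ := Subgroup.mem_zpowers_iff.1 (hgen ⟨t, ht⟩)
      rw [show t = s ^ i from (congrArg Subtype.val hi).symm]
      exact Subgroup.zpow_mem _ h1 i
    · have h4 := Subgroup.mul_mem _ (Subgroup.inv_mem _ h1) (Subgroup.mem_zpowers (s * x))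
      simpa [mul_assoc] using h4
  exact hle (htop ▸ Subgroup.mem_top z)

/-- A normal `p`-subgroup `R` with `H = R⟨x⟩`: every Sylow subgroup is normal with cyclic quotient. -/
theorem sylow_normal_of_sup_zpowers {G : Type*} [Group G] [Finite G] {R : Subgroup G}
    (hR : IsPGroup p R) {x : G} (hxR : x ∈ Subgroup.normalizer (R : Set G)) :
    (∀ S : Sylow p ↥(R ⊔ Subgroup.zpowers x), (S : Subgroup ↥(R ⊔ Subgroup.zpowers x)).Normal) ∧
      ∀ (S : Sylow p ↥(R ⊔ Subgroup.zpowers x))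
        [(S : Subgroup ↥(R ⊔ Subgroup.zpowers x)).Normal],
        IsCyclic (↥(R ⊔ Subgroup.zpowers x) ⧸ (S : Subgroup ↥(R ⊔ Subgroup.zpowers x))) := by
  set H := R ⊔ Subgroup.zpowers x
  have hle : H ≤ Subgroup.normalizer (R : Set G) :=
    sup_le Subgroup.le_normalizer (Subgroup.zpowers_le.2 hxR)
  haveI hn : (R.subgroupOf H).Normal :=
    (Subgroup.normal_subgroupOf_iff_le_normalizer le_sup_left).2 hle
  let x' : H := ⟨x, Subgroup.mem_sup_right (Subgroup.mem_zpowers x)⟩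
  have hgen : R.subgroupOf H ⊔ Subgroup.zpowers x' = ⊤ := by
    rw [show Subgroup.zpowers x' = (Subgroup.zpowers x).subgroupOf H from ?_,
      ← Subgroup.subgroupOf_sup le_sup_left le_sup_right, Subgroup.subgroupOf_self]
    ext z
    simp only [Subgroup.mem_subgroupOf, Subgroup.mem_zpowers_iff]
    exact exists_congr fun i => ⟨fun h => congrArg Subtype.val h, fun h => Subtype.ext h⟩
  have hRS : ∀ S : Sylow p H, R.subgroupOf H ≤ (S : Subgroup H) := fun S => by
    obtain ⟨Q, hQ⟩ := ((hR.to_le le_rfl).of_equiv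
      (Subgroup.subgroupOfEquivOfLe (le_sup_left : R ≤ H)).symm).exists_le_sylow
    obtain ⟨g, hg⟩ := MulAction.exists_smul_eq H Q S
    rw [← hg]
    intro z hz
    exact ⟨g⁻¹ * z * g, hQ (by simpa using hn.conj_mem z hz g⁻¹), by simp [mul_assoc]⟩
  have hnorm : ∀ S : Sylow p H, (S : Subgroup H).Normal := fun S => by
    refine Subgroup.Normal.of_commutator_le _ (le_trans ?_ (hRS S))
    rw [← Subgroup.Normal.quotient_commutative_iff_commutator_le]
    haveI : IsCyclic (H ⧸ R.subgroupOf H) := by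
      refine ⟨⟨(x' : H ⧸ R.subgroupOf H), fun q => ?_⟩⟩
      obtain ⟨z, rfl⟩ := QuotientGroup.mk_surjective q
      obtain ⟨r, hr, w, hw, rfl⟩ := Subgroup.mem_sup_of_normal_left.1 (hgen ▸ Subgroup.mem_top z)
      obtain ⟨i, rfl⟩ := Subgroup.mem_zpowers_iff.1 hw
      rw [QuotientGroup.mk_mul, (QuotientGroup.eq_one_iff r).2 hr, one_mul, QuotientGroup.mk_zpow]
      exact Subgroup.zpow_mem_zpowers _ i
    exact inferInstance
  refine ⟨hnorm, fun S _ => ⟨⟨(x' : H ⧸ (S : Subgroup H)), fun q => ?_⟩⟩⟩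
  obtain ⟨z, rfl⟩ := QuotientGroup.mk_surjective q
  obtain ⟨r, hr, w, hw, rfl⟩ := Subgroup.mem_sup_of_normal_left.1 (hgen ▸ Subgroup.mem_top z)
  obtain ⟨i, rfl⟩ := Subgroup.mem_zpowers_iff.1 hw
  rw [QuotientGroup.mk_mul, (QuotientGroup.eq_one_iff r).2 (hRS S hr), one_mul,
    QuotientGroup.mk_zpow]
  exact Subgroup.zpow_mem_zpowers _ i

end CfsgLib.FGS
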