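/-
Flavell's bound in group form: on an elementary abelian normal section, irreducible under a solvable subgroup
generated by conjugates of an element of prime order `p ≥ 5`, that element centralizes less than half.
-/
import Cfsg.Agent.FGS.FixedHalf
import Mathlib.Algebra.Module.ZMod
import Mathlib.FieldTheory.Finiteness

set_option autoImplicit false

namespace CfsgLib.FGS

open Module Subgroup
open scoped IsMulCommutative

variable {G : Type*} [Group G]

/-- Conjugation on an abelian normal subgroup as a linear representation. -/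
def conjRep {q : ℕ} (W A : Subgroup G) [W.Normal] [IsMulCommutative W]
    [Module (ZMod q) (Additive W)] : A →* Module.End (ZMod q) (Additive W) where
  toFun a := AddMonoidHom.toZModLinearMap q
    ((MulAut.conjNormal (a : G) : MulAut W).toMonoidHom.toAdditive)
  map_one' := by
    refine LinearMap.ext fun v => Additive.toMul.injective (Subtype.ext ?_)
    show (((MulAut.conjNormal ((1 : A) : G) : MulAut W) (Additive.toMul v : W) : W) : G) =
      ((Additive.toMul v : W) : G)
    rw [MulAut.conjNormal_apply]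
    simp
  map_mul' a b := by
    refine LinearMap.ext fun v => Additive.toMul.injective (Subtype.ext ?_)
    show (((MulAut.conjNormal ((a * b : A) : G) : MulAut W) (Additive.toMul v : W) : W) : G) =
      (((MulAut.conjNormal (a : G) : MulAut W) ((MulAut.conjNormal (b : G) : MulAut W) (Additive.toMul v : W)) : W) : G)
    simp only [MulAut.conjNormal_apply, Subgroup.coe_mul, mul_inv_rev, mul_assoc]

theorem conjRep_apply {q : ℕ} (W A : Subgroup G) [W.Normal] [IsMulCommutative W]
    [Module (ZMod q) (Additive W)] (a : A) (v : Additive W) :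
    ((Additive.toMul (conjRep (q := q) W A a v) : W) : G) =
      a * ((Additive.toMul v : W) : G) * (a : G)⁻¹ :=
  MulAut.conjNormal_apply (a : G) (Additive.toMul v : W)

theorem card_sq_lt_aux [Finite G] {p : ℕ} [Fact p.Prime] (hp : 3 < p) {F : Type*} [Field F] [Finite F]
    (W A : Subgroup G) [W.Normal] [IsMulCommutative W] [Module F (Additive W)]
    (φ : A →* Module.End F (Additive W))
    (hφ : ∀ (a : A) (v : Additive W), ((Additive.toMul (φ a v) : W) : G) =
      a * ((Additive.toMul v : W) : G) * (a : G)⁻¹)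
    [Group.IsSolvable A] {x : G} (hxA : x ∈ A) (hxp : x ^ p = 1)
    (hgen : normalClosure ({(⟨x, hxA⟩ : A)} : Set A) = ⊤)
    (hirr : ∀ U : Subgroup G, U ≤ W → (∀ g ∈ A, ∀ u ∈ U, g * u * g⁻¹ ∈ U) → U = ⊥ ∨ U = W)
    (hx : x ∉ centralizer (W : Set G)) :
    Nat.card ↥(W ⊓ centralizer ({x} : Set G)) * Nat.card ↥(W ⊓ centralizer ({x} : Set G)) < Nat.card W := by
  classical
  haveI : Module.Finite F (Additive W) := Module.Finite.of_finite
  have hker : φ ⟨x, hxA⟩ ≠ 1 := by
    intro h
    refine hx (mem_centralizer_iff.mpr fun w hw => ?_)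
    have h1 := hφ ⟨x, hxA⟩ (Additive.ofMul ⟨w, hw⟩)
    rw [h] at h1
    have h2 : w = x * w * x⁻¹ := h1
    exact eq_mul_inv_iff_mul_eq.mp h2
  let Q := A ⧸ φ.ker
  let ρ : Q →* Module.End F (Additive W) := QuotientGroup.lift φ.ker φ le_rfl
  have hinj : Function.Injective ρ := by
    intro a b hab
    obtain ⟨a, rfl⟩ := QuotientGroup.mk'_surjective _ a
    obtain ⟨b, rfl⟩ := QuotientGroup.mk'_surjective _ b
    refine QuotientGroup.eq.mpr (MonoidHom.mem_ker.mpr ?_)
    have hab' : φ a = φ b := hab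
    rw [map_mul, ← hab', ← map_mul, inv_mul_cancel, map_one]
  haveI : Nontrivial (Additive W) := by
    by_contra hn
    haveI := not_nontrivial_iff_subsingleton.mp hn
    exact hker (LinearMap.ext fun v => Subsingleton.elim _ _)
  have hirr' : ∀ U : Submodule F (Additive W),
      (∀ g, ∀ v ∈ U, ρ g v ∈ U) → U = ⊥ ∨ U = ⊤ := by
    intro U hU
    let S : Subgroup G :=
      { carrier := {g | ∃ h : g ∈ W, Additive.ofMul (⟨g, h⟩ : W) ∈ U}
        mul_mem' := fun {a b} ⟨ha, ha'⟩ ⟨hb, hb'⟩ => ⟨W.mul_mem ha hb, U.add_mem ha' hb'⟩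
        one_mem' := ⟨W.one_mem, U.zero_mem⟩
        inv_mem' := fun {a} ⟨ha, ha'⟩ => ⟨W.inv_mem ha, U.neg_mem ha'⟩ }
    have hmem : ∀ v : Additive W, v ∈ U ↔ ((Additive.toMul v : W) : G) ∈ S :=
      fun v => ⟨fun h => ⟨(Additive.toMul v).2, h⟩, fun ⟨_, h⟩ => h⟩
    rcases hirr S (fun g ⟨h, _⟩ => h) (fun g hg u ⟨hu, hu'⟩ => by
      have h1 := (hmem _).mp (hU ((⟨g, hg⟩ : A) : Q) _ hu')
      have h2 : ((Additive.toMul (φ ⟨g, hg⟩ (Additive.ofMul ⟨u, hu⟩)) : W) : G) ∈ S := h1
      rw [hφ] at h2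
      exact h2) with h | h
    · left
      rw [Submodule.eq_bot_iff]
      intro v hv
      exact Additive.toMul.injective (Subtype.ext (mem_bot.mp (h ▸ (hmem v).mp hv)))
    · right
      rw [Submodule.eq_top_iff']
      exact fun v => (hmem v).mpr (by rw [h]; exact (Additive.toMul v : W).2)
  have hgen' : normalClosure ({((⟨x, hxA⟩ : A) : Q)} : Set Q) = ⊤ := by
    have h1 := Subgroup.map_normalClosure ({(⟨x, hxA⟩ : A)} : Set A) (QuotientGroup.mk' φ.ker)
      (QuotientGroup.mk'_surjective _)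
    rw [hgen, ← MonoidHom.range_eq_map, MonoidHom.range_eq_top.mpr (QuotientGroup.mk'_surjective _),
      Set.image_singleton] at h1
    exact h1.symm
  have hlt := fixed_lt_half hp ρ hinj hirr' (x := ((⟨x, hxA⟩ : A) : Q))
    (by rw [← QuotientGroup.mk_pow]; exact congrArg _ (Subtype.ext hxp))
    (fun h => hker (by
      have h' : ρ ((⟨x, hxA⟩ : A) : Q) = ρ 1 := by rw [h]
      rw [map_one] at h'
      exact h')) hgen'
  set C := LinearMap.ker (ρ ((⟨x, hxA⟩ : A) : Q) - 1)
  have hC : ∀ v, v ∈ C ↔ ((Additive.toMul v : W) : G) ∈ centralizer ({x} : Set G) := by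
    intro v
    rw [LinearMap.mem_ker, LinearMap.sub_apply, sub_eq_zero, Module.End.one_apply,
      mem_centralizer_singleton_iff]
    show φ ⟨x, hxA⟩ v = v ↔ _
    constructor
    · intro h
      have h1 := hφ ⟨x, hxA⟩ v
      rw [h] at h1
      exact eq_mul_inv_iff_mul_eq.mp h1
    · intro h
      refine Additive.toMul.injective (Subtype.ext ?_)
      rw [hφ]
      exact mul_inv_eq_iff_eq_mul.mpr h.symm
  have hcC : Nat.card ↥(W ⊓ centralizer ({x} : Set G)) = Nat.card C :=
    Nat.card_congr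
      { toFun := fun g => ⟨Additive.ofMul ⟨g.1, g.2.1⟩, (hC _).mpr g.2.2⟩
        invFun := fun v => ⟨((Additive.toMul v.1 : W) : G), (Additive.toMul v.1).2, (hC _).mp v.2⟩
        left_inv := fun _ => rfl
        right_inv := fun _ => rfl }
  rw [hcC, Module.natCard_eq_pow_finrank (K := F) (V := C), ← pow_add,
    show Nat.card W = Nat.card (Additive W) from Nat.card_congr Additive.ofMul,
    Module.natCard_eq_pow_finrank (K := F) (V := Additive W)]
  exact Nat.pow_lt_pow_right Finite.one_lt_card (by omega)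

theorem card_sq_lt_of_irreducible [Finite G] {p q : ℕ} [Fact p.Prime] [Fact q.Prime] (hp : 3 < p)
    (W A : Subgroup G) [W.Normal] (hW : ∀ a ∈ W, ∀ b ∈ W, a * b = b * a) (hWq : ∀ a ∈ W, a ^ q = 1)
    [Group.IsSolvable A] {x : G} (hxA : x ∈ A) (hxp : x ^ p = 1)
    (hgen : normalClosure ({(⟨x, hxA⟩ : A)} : Set A) = ⊤)
    (hirr : ∀ U : Subgroup G, U ≤ W → (∀ g ∈ A, ∀ u ∈ U, g * u * g⁻¹ ∈ U) → U = ⊥ ∨ U = W)
    (hx : x ∉ centralizer (W : Set G)) :
    Nat.card ↥(W ⊓ centralizer ({x} : Set G)) * Nat.card ↥(W ⊓ centralizer ({x} : Set G)) < Nat.card W := by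
  haveI : IsMulCommutative W := ⟨⟨fun a b => Subtype.ext (hW a a.2 b b.2)⟩⟩
  exact @card_sq_lt_aux G _ _ p _ hp (ZMod q) _ _ W A _ _
    (AddCommGroup.zmodModule fun a => Additive.toMul.injective (Subtype.ext (hWq _ (Additive.toMul a : W).2)))
    (@conjRep G _ q W A _ _
      (AddCommGroup.zmodModule fun a => Additive.toMul.injective (Subtype.ext (hWq _ (Additive.toMul a : W).2))))
    (fun a v => MulAut.conjNormal_apply (a : G) (Additive.toMul v : W)) _ x hxA hxp hgen hirr hx

end CfsgLib.FGS
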