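/-
Flavell: for a maximal solvable subgroup `A = ⟨x, x^a⟩`, `a ∈ A`, with `x` of prime order `p ≥ 5`, every normal
`r`-subgroup of `A` centralizes every `A`-invariant `q`-subgroup, `q ≠ r`.
-/
import Cfsg.Agent.FGS.PairModule
import Cfsg.Agent.Coprime.SchurZassenhaus
import Cfsg.Agent.Solvable.Frattini

set_option autoImplicit false

namespace CfsgLib.FGS

open Subgroup
open scoped commutatorElement Pointwise

variable {H : Type*} [Group H] [Finite H]

theorem card_sup_of_disjoint (N K : Subgroup H) [N.Normal] (h : Disjoint N K) :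
    Nat.card ↥(N ⊔ K) = Nat.card N * Nat.card K := by
  have hc : ((N ⊔ K : Subgroup H) : Set H) = (N : Set H) * (K : Set H) := Subgroup.normal_mul N K
  let f : N × K → ↥(N ⊔ K) := fun z => ⟨z.1 * z.2, mul_mem_sup z.1.2 z.2.2⟩
  rw [← Nat.card_prod]
  refine (Nat.card_congr (Equiv.ofBijective f ⟨fun z z' hz => ?_, fun g => ?_⟩)).symm
  · exact Subgroup.mul_injective_of_disjoint h (congrArg Subtype.val hz)
  · obtain ⟨n, hn, k, hk, he⟩ := (hc ▸ g.2 : (g : H) ∈ (N : Set H) * (K : Set H))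
    exact ⟨(⟨n, hn⟩, ⟨k, hk⟩), Subtype.ext he⟩

theorem normalClosure_eq_top_of_pair {G : Type*} [Group G] {A : Subgroup G} {x a : G} (hxA : x ∈ A)
    (haA : a ∈ A) (hgen : A = closure ({x, a * x * a⁻¹} : Set G)) :
    normalClosure ({(⟨x, hxA⟩ : A)} : Set A) = ⊤ := by
  have h1 : A ≤ (normalClosure ({(⟨x, hxA⟩ : A)} : Set A)).map A.subtype := by
    conv_lhs => rw [hgen]
    rw [closure_le]
    intro z hz
    rcases hz with rfl | hz
    · exact ⟨⟨z, hxA⟩, subset_normalClosure (Set.mem_singleton _), rfl⟩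
    · rcases hz with rfl
      exact ⟨(⟨a, haA⟩ : A) * ⟨x, hxA⟩ * (⟨a, haA⟩ : A)⁻¹,
        normalClosure_normal.conj_mem _ (subset_normalClosure (Set.mem_singleton _)) _, rfl⟩
  rw [eq_top_iff]
  rintro g -
  obtain ⟨z, hz, hzg⟩ := h1 g.2
  rwa [Subtype.ext hzg] at hz

set_option maxHeartbeats 800000 in
/-- The minimal situation: `H = AQ` with every proper normal subgroup in `Q` centralized. -/
theorem false_of_minimal [Group.IsSolvable H] {p r q : ℕ} [Fact p.Prime] [Fact r.Prime] [Fact q.Prime]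
    (hp : 3 < p) (hrq : r ≠ q) {x a : H} (hxp : x ^ p = 1) (A R Q : Subgroup H) [hQn : Q.Normal]
    (hQ : IsPGroup q Q) (hR : IsPGroup r R) (hRA : R ≤ A)
    (hRn : ∀ g ∈ A, ∀ u ∈ R, g * u * g⁻¹ ∈ R) (haA : a ∈ A)
    (hgen : A = closure ({x, a * x * a⁻¹} : Set H)) (htop : A ⊔ Q = ⊤)
    (hnc : ¬ R ≤ centralizer (Q : Set H))
    (hprop : ∀ U : Subgroup H, U.Normal → U < Q → R ≤ centralizer (U : Set H))
    (hmax : ∀ b : H, closure ({x, b * x * b⁻¹} : Set H) = ⊤ → A = ⊤) : False := by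
  classical
  have hxA : x ∈ A := hgen.symm ▸ subset_closure (Set.mem_insert _ _)
  have hyA : a * x * a⁻¹ ∈ A := hgen.symm ▸ subset_closure (Set.mem_insert_of_mem _ rfl)
  have hRQ : Disjoint R Q := IsPGroup.disjoint_of_ne r q hrq R Q hR hQ
  -- `A ∩ Q` commutes with `R`
  have hAQc : ∀ z ∈ A, z ∈ Q → ∀ u ∈ R, z * u = u * z := by
    intro z hzA hzQ u hu
    have h1 : ⁅z, u⁆ ∈ R := by
      rw [commutatorElement_def]
      exact R.mul_mem (hRn z hzA u hu) (R.inv_mem hu)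
    have h2 : ⁅z, u⁆ ∈ Q := by
      rw [commutatorElement_def, mul_assoc, mul_assoc]
      exact Q.mul_mem hzQ (by simpa [mul_assoc] using hQn.conj_mem _ (Q.inv_mem hzQ) u)
    exact commutatorElement_eq_one_iff_mul_comm.mp (disjoint_def.mp hRQ h1 h2)
  have hAne : A ≠ ⊤ := fun h => hnc fun u hu => mem_centralizer_iff.mpr fun z hz =>
    hAQc z (h.symm ▸ mem_top z) hz u hu
  have hfin : Finite (Subgroup H) := Finite.of_injective _ SetLike.coe_injective
  have hQne : Q ≠ ⊥ := by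
    rintro rfl
    exact hnc fun u _ => mem_centralizer_iff.mpr fun z hz => by simp [mem_bot.mp hz]
  obtain ⟨N, ⟨hNn, hNQ⟩, hNmax⟩ := (wellFounded_gt (α := Subgroup H)).has_min
    {N : Subgroup H | N.Normal ∧ N < Q} ⟨⊥, inferInstance, bot_lt_iff_ne_bot.mpr hQne⟩
  have hmaxN : ∀ X : Subgroup H, X.Normal → N ≤ X → X ≤ Q → X = N ∨ X = Q := by
    intro X hX h1 h2
    rcases h2.lt_or_eq with h | h
    · exact Or.inl (h1.lt_or_eq.resolve_left (fun h' => hNmax X ⟨hX, h⟩ h')).symm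
    · exact Or.inr h
  set Φ := (frattini Q).map Q.subtype
  haveI hΦn : Φ.Normal := inferInstance
  have hΦQ : Φ ≤ Q := map_subtype_le _
  have hgenQ : ∀ X : Subgroup H, X ≤ Q → X ⊔ Φ = Q → X = Q := by
    intro X hX h
    have h1 : X.subgroupOf Q ⊔ frattini Q = ⊤ := by
      apply map_injective (f := Q.subtype) Q.subtype_injective
      rw [Subgroup.map_sup, map_subgroupOf_eq_of_le hX, ← MonoidHom.range_eq_map, range_subtype]
      exact h
    have h2 := CfsgLib.Solvable.eq_top_of_sup_frattini h1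
    exact le_antisymm hX (subgroupOf_eq_top.mp h2)
  have hΦN : Φ ≤ N := by
    rcases hmaxN (N ⊔ Φ) inferInstance le_sup_left (sup_le hNQ.le hΦQ) with h | h
    · exact le_sup_right.trans h.le
    · exact absurd (hgenQ N hNQ.le h) hNQ.ne
  have hQcomm : ∀ u ∈ Q, ∀ v ∈ Q, ⁅u, v⁆ ∈ Φ := fun u hu v hv => by
    refine ⟨⁅(⟨u, hu⟩ : Q), ⟨v, hv⟩⁆, CfsgLib.Solvable.commutator_le_frattini hQ
      (commutator_mem_commutator (mem_top _) (mem_top _)), ?_⟩
    exact map_commutatorElement Q.subtype _ _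
  have hRN : R ≤ centralizer (N : Set H) := hprop N hNn hNQ
  set π := QuotientGroup.mk' N
  set W := Q.map π
  haveI : W.Normal := hQn.map π (QuotientGroup.mk'_surjective _)
  have hker : ∀ z, π z = 1 ↔ z ∈ N := fun z => QuotientGroup.eq_one_iff z
  have hWc : ∀ u ∈ W, ∀ v ∈ W, u * v = v * u := by
    rintro _ ⟨u, hu, rfl⟩ _ ⟨v, hv, rfl⟩
    refine commutatorElement_eq_one_iff_mul_comm.mp ?_
    rw [← map_commutatorElement, hker]
    exact hΦN (hQcomm u hu v hv)
  have hWq : ∀ u ∈ W, u ^ q = 1 := by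
    rintro _ ⟨u, hu, rfl⟩
    rw [← map_pow, hker]
    exact hΦN ⟨(⟨u, hu⟩ : Q) ^ q, CfsgLib.Solvable.pow_mem_frattini hQ _, rfl⟩
  set Ab := A.map π
  set Rb := R.map π
  have hAbtop : Ab ⊔ W = ⊤ := by
    rw [← Subgroup.map_sup, htop, ← MonoidHom.range_eq_map]
    exact MonoidHom.range_eq_top.mpr (QuotientGroup.mk'_surjective _)
  have hirr : ∀ U : Subgroup (H ⧸ N), U ≤ W → (∀ g ∈ Ab, ∀ u ∈ U, g * u * g⁻¹ ∈ U) → U = ⊥ ∨ U = W := by
    intro U hU hinv
    have key : ∀ g : H ⧸ N, ∀ u ∈ U, g * u * g⁻¹ ∈ U := by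
      intro g u hu
      obtain ⟨b, hb, w, hw, rfl⟩ := mem_sup_of_normal_right.mp (hAbtop ▸ mem_top g : g ∈ Ab ⊔ W)
      have hwu : w * u * w⁻¹ = u := by rw [hWc w hw u (hU hu), mul_inv_cancel_right]
      rw [show b * w * u * (b * w)⁻¹ = b * (w * u * w⁻¹) * b⁻¹ by simp [mul_assoc], hwu]
      exact hinv b hb u hu
    haveI : U.Normal := ⟨fun u hu g => key g u hu⟩
    have hle : U.comap π ≤ Q := by
      intro z hz
      obtain ⟨v, hv, hvz⟩ := hU (mem_comap.mp hz)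
      have : v⁻¹ * z ∈ N := QuotientGroup.eq.mp hvz
      simpa using Q.mul_mem hv (hNQ.le this)
    rcases hmaxN (U.comap π) inferInstance (fun z hz => mem_comap.mpr (by rw [(hker z).mpr hz]; exact one_mem U))
      hle with h | h
    · left
      rw [eq_bot_iff]
      intro u hu
      obtain ⟨z, rfl⟩ := QuotientGroup.mk'_surjective _ u
      exact mem_bot.mpr ((hker z).mpr (h ▸ mem_comap.mpr hu))
    · right
      refine le_antisymm hU ?_
      rintro _ ⟨v, hv, rfl⟩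
      rw [← h] at hv
      exact hv
  -- `R` has no fixed points on `W`
  have hCR : ∀ w ∈ W, (∀ u ∈ Rb, u * w = w * u) → w = 1 := by
    have hinv : ∀ g ∈ Ab, ∀ w ∈ W ⊓ centralizer (Rb : Set (H ⧸ N)),
        g * w * g⁻¹ ∈ W ⊓ centralizer (Rb : Set (H ⧸ N)) := by
      rintro _ ⟨g, hg, rfl⟩ w ⟨hw, hwc⟩
      refine ⟨‹W.Normal›.conj_mem _ hw _, mem_centralizer_iff.mpr ?_⟩
      rintro _ ⟨u, hu, rfl⟩
      have hu' : g⁻¹ * u * g ∈ R := by simpa using hRn g⁻¹ (A.inv_mem hg) u hu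
      have h1 := mem_centralizer_iff.mp hwc _ (mem_map_of_mem π hu')
      simp only [map_mul, map_inv] at h1
      calc π u * (π g * w * (π g)⁻¹) = π g * ((π g)⁻¹ * π u * π g * w) * (π g)⁻¹ := by simp [mul_assoc]
        _ = π g * (w * ((π g)⁻¹ * π u * π g)) * (π g)⁻¹ := by rw [h1]
        _ = π g * w * (π g)⁻¹ * π u := by simp [mul_assoc]
    rcases hirr _ inf_le_left hinv with h | h
    · intro w hw hc
      exact mem_bot.mp (h ▸ ⟨hw, mem_centralizer_iff.mpr hc⟩)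
    · exfalso
      apply hnc
      intro u hu
      rw [mem_centralizer_iff]
      intro v hv
      have hn : v⁻¹ * (u * v * u⁻¹) ∈ N := by
        have h1 : π v ∈ W ⊓ centralizer (Rb : Set (H ⧸ N)) := h.symm ▸ mem_map_of_mem π hv
        have h2 := mem_centralizer_iff.mp h1.2 (π u) (mem_map_of_mem π hu)
        refine (hker _).mp ?_
        simp only [map_mul, map_inv]
        rw [h2]
        simp [mul_assoc]
      set n := v⁻¹ * (u * v * u⁻¹) with hndef
      have hun : u * n = n * u := (mem_centralizer_iff.mp (hRN hu) n hn).symm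
      have hit : ∀ k : ℕ, u ^ k * v * (u ^ k)⁻¹ = v * n ^ k := by
        intro k
        induction k with
        | zero => simp
        | succ k ih =>
          have hnk : u * n ^ k * u⁻¹ = n ^ k := by
            rw [(show Commute u n from hun).pow_right k, mul_inv_cancel_right]
          calc u ^ (k + 1) * v * (u ^ (k + 1))⁻¹ = u * (u ^ k * v * (u ^ k)⁻¹) * u⁻¹ := by
                rw [pow_succ' u k]; simp [mul_assoc]
            _ = (u * v * u⁻¹) * (u * n ^ k * u⁻¹) := by rw [ih]; simp [mul_assoc]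
            _ = v * n ^ (k + 1) := by
              rw [hnk, pow_succ' n k, ← mul_assoc v, hndef]; simp [mul_assoc]
      obtain ⟨j, hj⟩ := hR ⟨u, hu⟩
      have hj' : u ^ r ^ j = 1 := by simpa using congrArg Subtype.val hj
      have h3 := hit (r ^ j)
      rw [hj'] at h3
      simp at h3
      obtain ⟨i, hi⟩ := hQ ⟨n, hNQ.le hn⟩
      have hi' : n ^ q ^ i = 1 := by simpa using congrArg Subtype.val hi
      have hn1 : n = 1 := orderOf_eq_one_iff.mp (Nat.eq_one_of_dvd_coprimes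
        (((Nat.coprime_primes (Fact.out : r.Prime) (Fact.out : q.Prime)).mpr hrq).pow j i)
        (orderOf_dvd_of_pow_eq_one h3) (orderOf_dvd_of_pow_eq_one hi'))
      rw [hndef, inv_mul_eq_one] at hn1
      exact (eq_mul_inv_iff_mul_eq.mp hn1)
  have hRW : Disjoint W Rb := by
    rw [disjoint_def]
    intro z hzW hzR
    exact hCR z hzW (fun u hu => by
      obtain ⟨g, hg, rfl⟩ := hzR
      obtain ⟨v, hv, hvg⟩ := hzW
      obtain ⟨j, hj⟩ := hR ⟨g, hg⟩
      obtain ⟨i, hi⟩ := hQ ⟨v, hv⟩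
      have h1 : π g ^ r ^ j = 1 := by rw [← map_pow]; simp [show g ^ r ^ j = 1 by simpa using congrArg Subtype.val hj]
      have h2 : π g ^ q ^ i = 1 := by
        rw [← hvg, ← map_pow]; simp [show v ^ q ^ i = 1 by simpa using congrArg Subtype.val hi]
      have : π g = 1 := orderOf_eq_one_iff.mp (Nat.eq_one_of_dvd_coprimes
        (((Nat.coprime_primes (Fact.out : r.Prime) (Fact.out : q.Prime)).mpr hrq).pow j i)
        (orderOf_dvd_of_pow_eq_one h1) (orderOf_dvd_of_pow_eq_one h2))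
      rw [this, mul_one, one_mul])
  have hAW : ∀ z ∈ Ab, z ∈ W → z = 1 := by
    rintro _ ⟨g, hg, rfl⟩ hzW
    obtain ⟨v, hv, hvg⟩ := hzW
    have hgQ : g ∈ Q := by
      have : v⁻¹ * g ∈ N := QuotientGroup.eq.mp hvg
      simpa using Q.mul_mem hv (hNQ.le this)
    refine hCR _ ⟨v, hv, hvg⟩ ?_
    rintro _ ⟨u, hu, rfl⟩
    rw [← map_mul, ← map_mul, hAQc g hg hgQ u hu]
  have hxW : π x ∉ centralizer (W : Set (H ⧸ N)) := by
    intro hx
    apply hnc
    have hAc : A ≤ (centralizer (W : Set (H ⧸ N))).comap π := by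
      rw [hgen, closure_le]
      intro z hz
      rcases hz with rfl | hz
      · exact mem_comap.mpr hx
      · rcases hz with rfl
        rw [SetLike.mem_coe, mem_comap, map_mul, map_mul, map_inv]
        exact (inferInstance : (centralizer (W : Set (H ⧸ N))).Normal).conj_mem _ hx _
    exfalso
    obtain ⟨w, hw, hw1⟩ : ∃ w ∈ W, w ≠ 1 := by
      by_contra hcon
      push Not at hcon
      refine hNQ.not_ge fun v hv => (hker v).mp (hcon _ (mem_map_of_mem π hv))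
    exact hw1 (hCR w hw fun u hu => by
      obtain ⟨g, hg, rfl⟩ := hu
      exact (mem_centralizer_iff.mp (mem_comap.mp (hAc (hRA hg))) w hw).symm)
  -- the centralizer of `x` in `W` is small
  have hgenA : normalClosure ({(⟨π x, mem_map_of_mem π hxA⟩ : Ab)} : Set Ab) = ⊤ := by
    refine normalClosure_eq_top_of_pair (a := π a) _ (mem_map_of_mem π haA) ?_
    show A.map π = _
    rw [hgen, MonoidHom.map_closure, Set.image_pair, map_mul, map_mul, map_inv]
  haveI : Group.IsSolvable Ab := inferInstance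
  have hcard := card_sq_lt_of_irreducible (q := q) hp W Ab hWc hWq (mem_map_of_mem π hxA)
    (by rw [← map_pow, hxp, map_one]) hgenA hirr hxW
  set C := W ⊓ centralizer ({π x} : Set (H ⧸ N))
  -- the bad set
  have hbad : ∃ v ∈ Q, ∀ c ∈ C, ∀ c' ∈ C, π v ≠ (π a)⁻¹ * c * π a * c' := by
    by_contra hcon
    push Not at hcon
    let f : C × C → H ⧸ N := fun z => (π a)⁻¹ * z.1 * π a * z.2
    have hsub : (W : Set (H ⧸ N)) ⊆ Set.range f := by
      rintro _ ⟨v, hv, rfl⟩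
      obtain ⟨c, hc, c', hc', he⟩ := hcon v hv
      exact ⟨(⟨c, hc⟩, ⟨c', hc'⟩), he.symm⟩
    have h1 : Nat.card W ≤ Nat.card (Set.range f) := Nat.card_mono (Set.finite_range f) hsub
    have h2 : Nat.card (Set.range f) ≤ Nat.card (C × C) :=
      Nat.card_le_card_of_surjective (Set.rangeFactorization f) Set.rangeFactorization_surjective
    rw [Nat.card_prod] at h2
    omega
  obtain ⟨v, hv, hvbad⟩ := hbad
  set b := a * v with hbdef
  set B := closure ({x, b * x * b⁻¹} : Set H)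
  have hxB : x ∈ B := subset_closure (Set.mem_insert _ _)
  have hyB : b * x * b⁻¹ ∈ B := subset_closure (Set.mem_insert_of_mem _ rfl)
  have hBQ : B ⊔ Q = ⊤ := by
    rw [eq_top_iff, ← htop]
    refine sup_le ?_ le_sup_right
    rw [hgen, closure_le]
    intro z hz
    rcases hz with rfl | hz
    · exact mem_sup_left hxB
    · rcases hz with rfl
      have hz' : a * (v * x * v⁻¹ * x⁻¹)⁻¹ * a⁻¹ * (b * x * b⁻¹) = a * x * a⁻¹ := by
        simp [hbdef, mul_assoc]
      rw [SetLike.mem_coe, ← hz']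
      refine mul_mem (mem_sup_right (hQn.conj_mem _ (Q.inv_mem ?_) a)) (mem_sup_left hyB)
      have : x * v⁻¹ * x⁻¹ ∈ Q := hQn.conj_mem _ (Q.inv_mem hv) x
      simpa [mul_assoc] using Q.mul_mem hv this
  have hnormal : ∀ X : Subgroup H, Φ ≤ X → X ≤ Q → (∀ g ∈ B, ∀ z ∈ X, g * z * g⁻¹ ∈ X) → X.Normal := by
    intro X h1 h2 h3
    refine ⟨fun z hz g => ?_⟩
    obtain ⟨c, hc, w, hw, rfl⟩ := mem_sup_of_normal_right.mp (hBQ ▸ mem_top g : g ∈ B ⊔ Q)
    have h4 : w * z * w⁻¹ ∈ X := by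
      have := X.mul_mem (h1 (hQcomm w hw z (h2 hz))) hz
      simpa [commutatorElement_def] using this
    have := h3 c hc _ h4
    simpa [mul_assoc] using this
  have hI : ∀ X : Subgroup H, X.Normal → X ≤ Q → ∀ g ∈ B, ∀ z ∈ (B ⊓ Q) ⊔ X, g * z * g⁻¹ ∈ (B ⊓ Q) ⊔ X := by
    intro X hX hXQ g hg z hz
    obtain ⟨i, hi, w, hw, rfl⟩ := mem_sup_of_normal_right.mp hz
    have : g * (i * w) * g⁻¹ = (g * i * g⁻¹) * (g * w * g⁻¹) := by simp [mul_assoc]
    rw [this]
    exact mul_mem (mem_sup_left ⟨B.mul_mem (B.mul_mem hg hi.1) (B.inv_mem hg), hQn.conj_mem _ hi.2 g⟩)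
      (mem_sup_right (hX.conj_mem _ hw g))
  have hX1 := hnormal ((B ⊓ Q) ⊔ N) (hΦN.trans le_sup_right) (sup_le inf_le_right hNQ.le)
    (hI N hNn hNQ.le)
  rcases hmaxN _ hX1 le_sup_right (sup_le inf_le_right hNQ.le) with hcase | hcase
  swap
  · -- `B` covers `Q/N`, so `B = H`
    have hX2 := hnormal ((B ⊓ Q) ⊔ Φ) le_sup_right (sup_le inf_le_right hΦQ) (hI Φ hΦn hΦQ)
    rcases (sup_le (inf_le_right : B ⊓ Q ≤ Q) hΦQ).lt_or_eq with h | h
    · apply hnc
      intro u hu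
      have h1 : ((B ⊓ Q) ⊔ Φ) ⊔ N = Q := by
        rw [sup_assoc, sup_eq_right.mpr hΦN, hcase]
      have h2 : Q ≤ centralizer ({u} : Set H) := by
        rw [← h1]
        refine sup_le (fun z hz => ?_) (fun z hz => ?_)
        · exact mem_centralizer_singleton_iff.mpr
            (mem_centralizer_iff.mp (hprop _ hX2 h hu) z hz)
        · exact mem_centralizer_singleton_iff.mpr (mem_centralizer_iff.mp (hRN hu) z hz)
      exact mem_centralizer_iff.mpr fun z hz => mem_centralizer_singleton_iff.mp (h2 hz)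
    · have hQB : Q ≤ B := (hgenQ _ inf_le_right h).ge.trans inf_le_left
      exact hAne (hmax b (by rw [← hBQ, sup_eq_left.mpr hQB]))
  -- `B` gives a complement of `W`
  set Bb := B.map π
  have hBW : ∀ z ∈ Bb, z ∈ W → z = 1 := by
    rintro _ ⟨g, hg, rfl⟩ ⟨w, hw, hwg⟩
    have hgQ : g ∈ Q := by
      have : w⁻¹ * g ∈ N := QuotientGroup.eq.mp hwg
      simpa using Q.mul_mem hw (hNQ.le this)
    exact (hker g).mpr (hcase ▸ mem_sup_left ⟨hg, hgQ⟩)
  have hBbtop : W ⊔ Bb = ⊤ := by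
    rw [sup_comm, ← Subgroup.map_sup, hBQ, ← MonoidHom.range_eq_map]
    exact MonoidHom.range_eq_top.mpr (QuotientGroup.mk'_surjective _)
  set K := Bb ⊓ (W ⊔ Rb)
  have hWK : W ⊔ Rb = W ⊔ K := by
    refine le_antisymm (fun z hz => ?_) (sup_le le_sup_left inf_le_right)
    obtain ⟨w, hw, c, hc, rfl⟩ := mem_sup_of_normal_left.mp (hBbtop ▸ mem_top z : z ∈ W ⊔ Bb)
    refine mul_mem_sup hw ⟨hc, ?_⟩
    simpa using mul_mem (mem_sup_left (W.inv_mem hw) : w⁻¹ ∈ W ⊔ Rb) hz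
  have hWKd : Disjoint W K := disjoint_def.mpr fun hz hzK => hBW _ hzK.1 hz
  have hcardK : Nat.card K = Nat.card Rb := by
    have h1 := card_sup_of_disjoint W K hWKd
    rw [← hWK, card_sup_of_disjoint W Rb hRW] at h1
    exact Nat.eq_of_mul_eq_mul_left Nat.card_pos h1.symm
  have hcop : (Nat.card W).Coprime (Nat.card Rb) := by
    obtain ⟨i, hi⟩ := IsPGroup.iff_card.mp (hQ.map π)
    obtain ⟨j, hj⟩ := IsPGroup.iff_card.mp (hR.map π)
    rw [hi, hj]
    exact ((Nat.coprime_primes (Fact.out : q.Prime) (Fact.out : r.Prime)).mpr hrq.symm).pow i j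
  have hWsolv : Group.IsSolvable W := inferInstance
  obtain ⟨w, hw, hwK⟩ := CfsgLib.Coprime.exists_conj_eq_of_sup_eq (N := W) (H := Rb) (K := K)
    le_normalizer_of_normal le_normalizer_of_normal hcop hcardK hWK (Or.inl hWsolv)
  haveI hWRn : (W ⊔ Rb).Normal := by
    refine ⟨fun z hz g => ?_⟩
    obtain ⟨c, hc, t, ht, rfl⟩ := mem_sup_of_normal_right.mp (hAbtop ▸ mem_top g : g ∈ Ab ⊔ W)
    obtain ⟨w1, hw1, u, hu, rfl⟩ := mem_sup_of_normal_left.mp hz
    have h1 : t * (w1 * u) * t⁻¹ ∈ W ⊔ Rb :=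
      mul_mem (mul_mem (mem_sup_left ht) (mul_mem_sup hw1 hu)) (mem_sup_left (W.inv_mem ht))
    obtain ⟨w2, hw2, u2, hu2, he⟩ := mem_sup_of_normal_left.mp h1
    rw [show c * t * (w1 * u) * (c * t)⁻¹ = c * (t * (w1 * u) * t⁻¹) * c⁻¹ by simp [mul_assoc], ← he,
      show c * (w2 * u2) * c⁻¹ = (c * w2 * c⁻¹) * (c * u2 * c⁻¹) by simp [mul_assoc]]
    refine mul_mem_sup (‹W.Normal›.conj_mem _ hw2 c) ?_
    obtain ⟨g0, hg0, rfl⟩ := hc
    obtain ⟨u0, hu0, rfl⟩ := hu2
    exact ⟨g0 * u0 * g0⁻¹, hRn g0 hg0 u0 hu0, by simp⟩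
  have hBA : ∀ m ∈ Bb, w⁻¹ * m * w ∈ Ab := by
    intro m hm
    have hK : ∀ z ∈ Rb, (w⁻¹ * m * w) * z * (w⁻¹ * m * w)⁻¹ ∈ Rb := by
      intro z hz
      have h1 : w * z * w⁻¹ ∈ K := by
        rw [← hwK]
        exact Subgroup.smul_mem_pointwise_smul _ _ _ hz
      have h2 : m * (w * z * w⁻¹) * m⁻¹ ∈ K :=
        ⟨Bb.mul_mem (Bb.mul_mem hm h1.1) (Bb.inv_mem hm), hWRn.conj_mem _ h1.2 m⟩
      rw [← hwK, Subgroup.mem_pointwise_smul_iff_inv_smul_mem] at h2
      simpa [mul_assoc] using h2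
    obtain ⟨c, hc, t, ht, he⟩ :=
      mem_sup_of_normal_right.mp (hAbtop ▸ mem_top (w⁻¹ * m * w) : w⁻¹ * m * w ∈ Ab ⊔ W)
    have ht1 : t = 1 := by
      refine hCR t ht fun z hz => ?_
      have h1 := hK z hz
      rw [← he] at h1
      obtain ⟨c0, hc0, rfl⟩ := hc
      obtain ⟨z1, hz1, hz1'⟩ := h1
      have h2 : t * z * t⁻¹ ∈ Rb := by
        refine ⟨c0⁻¹ * z1 * c0, by simpa using hRn c0⁻¹ (A.inv_mem hc0) z1 hz1, ?_⟩
        simp only [map_mul, map_inv, hz1']
        simp [mul_assoc]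
      have h3 : t * z * t⁻¹ * z⁻¹ ∈ W := by
        have := W.mul_mem ht (‹W.Normal›.conj_mem _ (W.inv_mem ht) z)
        simpa [mul_assoc] using this
      have h4 := disjoint_def.mp hRW h3 (Rb.mul_mem h2 (Rb.inv_mem hz))
      exact (mul_inv_eq_iff_eq_mul.mp (mul_inv_eq_one.mp h4)).symm
    rw [← he, ht1, mul_one]
    exact hc
  have hkey : ∀ s, s ∈ W → s⁻¹ * π x * s ∈ Ab → s ∈ C := by
    intro s hs h
    have h1 := Ab.mul_mem h (Ab.inv_mem (mem_map_of_mem π hxA))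
    have h2 : s⁻¹ * π x * s * (π x)⁻¹ ∈ W := by
      have := W.mul_mem (W.inv_mem hs) (‹W.Normal›.conj_mem _ hs (π x))
      simpa [mul_assoc] using this
    have h3 := hAW _ h1 h2
    refine ⟨hs, mem_centralizer_singleton_iff.mpr ?_⟩
    rw [mul_inv_eq_one, mul_assoc, inv_mul_eq_iff_eq_mul] at h3
    exact h3.symm
  have hwC : w ∈ C := hkey w hw (hBA _ (mem_map_of_mem π hxB))
  set u := (π a)⁻¹ * w * π a with hudef
  have huW : u ∈ W := by simpa [hudef] using ‹W.Normal›.conj_mem _ hw (π a)⁻¹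
  have hvu : (π v)⁻¹ * u ∈ C := by
    refine hkey _ (W.mul_mem (W.inv_mem (mem_map_of_mem π hv)) huW) ?_
    have h1 := hBA _ (mem_map_of_mem π hyB)
    have h2 := Ab.mul_mem (Ab.mul_mem (Ab.inv_mem (mem_map_of_mem π haA)) h1) (mem_map_of_mem π haA)
    simpa [hbdef, hudef, mul_assoc] using h2
  apply hvbad w hwC ((π v)⁻¹ * u)⁻¹ (C.inv_mem hvu)
  have hWcuv := hWc u huW (π v) (mem_map_of_mem π hv)
  rw [mul_inv_rev, inv_inv, ← hudef, ← mul_assoc]
  simp

end CfsgLib.FGS
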