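/-
Flavell: if `A = ⟨x, x^a⟩`, `a ∈ A`, is maximal solvable of this shape, `x` of prime order `p ≥ 5`, then `F(A)`
together with any `A`-invariant nilpotent subgroup generates a nilpotent subgroup.
-/
import Cfsg.Agent.FGS.PairCentralize
import Cfsg.Agent.Solvable.Fitting

set_option autoImplicit false

namespace CfsgLib.FGS

open Subgroup

variable {G : Type*} [Group G]

theorem join_conj_eq_closure (x b : G) :
    zpowers x ⊔ (zpowers x).map (MulAut.conj b).toMonoidHom = closure ({x, b * x * b⁻¹} : Set G) := by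
  rw [MonoidHom.map_zpowers, zpowers_eq_closure, zpowers_eq_closure, ← Subgroup.closure_union, Set.singleton_union]
  rfl

theorem map_conj_eq_of_mem_normalizer {K : Subgroup G} {g : G} (hg : g ∈ normalizer (K : Set G)) :
    K.map (MulAut.conj g).toMonoidHom = K := by
  ext z
  constructor
  · rintro ⟨y, hy, rfl⟩
    exact (mem_normalizer_iff.mp hg y).mp hy
  · intro hz
    refine ⟨g⁻¹ * z * g, ?_, by simp [mul_assoc]⟩
    refine (mem_normalizer_iff.mp hg _).mpr ?_
    simpa [mul_assoc] using hz

theorem mem_normalizer_of_map_conj_eq {K : Subgroup G} {g : G}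
    (h : K.map (MulAut.conj g).toMonoidHom = K) : g ∈ normalizer (K : Set G) := by
  rw [mem_normalizer_iff]
  intro z
  constructor
  · intro hz
    rw [← h]
    exact ⟨z, hz, rfl⟩
  · intro hz
    rw [← h] at hz
    obtain ⟨y, hy, hyz⟩ := hz
    have : y = z := by simpa using hyz
    exact this ▸ hy

theorem mem_normalizer_sup {K L : Subgroup G} {g : G} (hK : g ∈ normalizer (K : Set G))
    (hL : g ∈ normalizer (L : Set G)) : g ∈ normalizer ((K ⊔ L : Subgroup G) : Set G) :=
  mem_normalizer_of_map_conj_eq (by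
    rw [Subgroup.map_sup, map_conj_eq_of_mem_normalizer hK, map_conj_eq_of_mem_normalizer hL])

theorem mem_normalizer_map_char {V : Subgroup G} (K : Subgroup V) [K.Characteristic] {g : G}
    (hg : g ∈ normalizer (V : Set G)) : g ∈ normalizer ((K.map V.subtype : Subgroup G) : Set G) := by
  refine mem_normalizer_of_map_conj_eq ?_
  set φ : MulAut V := V.normalizerMonoidHom ⟨g, hg⟩
  have hcomm : (MulAut.conj g).toMonoidHom.comp V.subtype = V.subtype.comp φ.toMonoidHom := by
    ext v; rfl
  rw [Subgroup.map_map, hcomm, ← Subgroup.map_map, characteristic_iff_map_eq.mp ‹_› φ]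

variable [Finite G]

theorem isSolvable_sup_of_pGroup {q : ℕ} [Fact q.Prime] (A Q : Subgroup G) [Group.IsSolvable A]
    (hQ : IsPGroup q Q) (hAQ : A ≤ normalizer (Q : Set G)) : Group.IsSolvable ↥(A ⊔ Q) := by
  have hle : A ⊔ Q ≤ normalizer (Q : Set G) := sup_le hAQ le_normalizer
  haveI : (Q.subgroupOf (A ⊔ Q)).Normal := normal_subgroupOf_of_le_normalizer hle
  haveI : Group.IsNilpotent Q := hQ.isNilpotent
  haveI : Group.IsSolvable (Q.subgroupOf (A ⊔ Q)) :=
    Group.isSolvable_of_isSolvable_injective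
      (f := (Subgroup.subgroupOfEquivOfLe (le_sup_right : Q ≤ A ⊔ Q)).toMonoidHom)
      (MulEquiv.injective _)
  set π := QuotientGroup.mk' (Q.subgroupOf (A ⊔ Q))
  have hsurj : Function.Surjective (π.comp (Subgroup.inclusion (le_sup_left : A ≤ A ⊔ Q))) := by
    intro z
    obtain ⟨⟨g, hg⟩, rfl⟩ := QuotientGroup.mk'_surjective _ z
    have hg' : g ∈ A ⊔ Q := hg
    rw [← SetLike.mem_coe, coe_mul_of_left_le_normalizer_right A Q hAQ] at hg'
    obtain ⟨a, ha, u, hu, rfl⟩ := hg'
    refine ⟨⟨a, ha⟩, ?_⟩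
    refine QuotientGroup.eq.mpr ?_
    rw [mem_subgroupOf]
    simpa using hu
  haveI : Group.IsSolvable (↥(A ⊔ Q) ⧸ Q.subgroupOf (A ⊔ Q)) := Group.isSolvable_of_surjective hsurj
  exact Group.isSolvable_of_ker_le_range (Q.subgroupOf (A ⊔ Q)).subtype π (by simp [π])

/-- A normal `r`-subgroup of a maximal pair subgroup centralizes every invariant `q`-subgroup. -/
theorem le_centralizer_of_invariant {p r q : ℕ} [Fact p.Prime] [Fact r.Prime] [Fact q.Prime]
    (hp : 3 < p) (hrq : r ≠ q) {x a : G} (hxp : x ^ p = 1) (A R : Subgroup G) [Group.IsSolvable A]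
    (haA : a ∈ A) (hgen : A = closure ({x, a * x * a⁻¹} : Set G))
    (hmax : ∀ B : Subgroup G, A ≤ B → Group.IsSolvable B →
      (∃ b ∈ B, B = closure ({x, b * x * b⁻¹} : Set G)) → B = A)
    (hR : IsPGroup r R) (hRA : R ≤ A) (hRn : ∀ g ∈ A, ∀ u ∈ R, g * u * g⁻¹ ∈ R) :
    ∀ (d : ℕ) (Q : Subgroup G), Nat.card Q = d → IsPGroup q Q → A ≤ normalizer (Q : Set G) →
      R ≤ centralizer (Q : Set G) := by
  intro d
  induction d using Nat.strong_induction_on with
  | _ d ih =>
  intro Q hd hQ hAQ
  by_contra hnc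
  set H := A ⊔ Q with hH
  haveI : Group.IsSolvable H := isSolvable_sup_of_pGroup A Q hQ hAQ
  haveI : (Q.subgroupOf H).Normal := normal_subgroupOf_of_le_normalizer (sup_le hAQ le_normalizer)
  have hxA : x ∈ A := hgen.symm ▸ subset_closure (Set.mem_insert _ _)
  have hAH : A ≤ H := le_sup_left
  have hclo : ∀ b : H, (closure ({⟨x, hAH hxA⟩, b * ⟨x, hAH hxA⟩ * b⁻¹} : Set H)).map H.subtype =
      closure ({x, (b : G) * x * (b : G)⁻¹} : Set G) := by
    intro b
    rw [MonoidHom.map_closure, Set.image_pair]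
    rfl
  refine false_of_minimal (p := p) (r := r) (q := q) hp hrq (x := ⟨x, hAH hxA⟩) (a := ⟨a, hAH haA⟩)
    (Subtype.ext hxp) (A.subgroupOf H) (R.subgroupOf H) (Q.subgroupOf H)
    (hQ.of_injective (Subgroup.subgroupOfEquivOfLe (le_sup_right : Q ≤ H)).toMonoidHom (MulEquiv.injective _))
    (hR.of_injective (Subgroup.subgroupOfEquivOfLe (hRA.trans hAH)).toMonoidHom (MulEquiv.injective _))
    (fun g hg => hRA hg) (fun g hg u hu => hRn g hg u hu) haA ?_ ?_ ?_ ?_ ?_
  · apply map_injective (f := H.subtype) H.subtype_injective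
    rw [hclo, map_subgroupOf_eq_of_le hAH]
    exact hgen
  · apply map_injective (f := H.subtype) H.subtype_injective
    rw [Subgroup.map_sup, map_subgroupOf_eq_of_le hAH, map_subgroupOf_eq_of_le le_sup_right,
      ← MonoidHom.range_eq_map, range_subtype]
  · intro h
    apply hnc
    intro u hu
    rw [mem_centralizer_iff]
    intro z hz
    exact congrArg Subtype.val (mem_centralizer_iff.mp
      (h (show (⟨u, hAH (hRA hu)⟩ : H) ∈ R.subgroupOf H from hu))
      (⟨z, (le_sup_right : Q ≤ H) hz⟩ : H) hz)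
  · intro U hUn hUQ
    set U' := U.map H.subtype
    have hU'Q : U' ≤ Q := by
      rintro _ ⟨z, hz, rfl⟩
      exact hUQ.le hz
    have hlt : Nat.card U' < d := by
      rw [← hd]
      refine lt_of_le_of_ne (Nat.le_of_dvd Nat.card_pos (card_dvd_of_le hU'Q)) fun he => hUQ.ne ?_
      have h' := eq_of_le_of_card_ge hU'Q he.ge
      apply map_injective (f := H.subtype) H.subtype_injective
      rw [map_subgroupOf_eq_of_le le_sup_right]
      exact h'
    have hAU : A ≤ normalizer (U' : Set G) := by
      intro g hg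
      refine mem_normalizer_of_map_conj_eq ?_
      have h1 : U.map (MulAut.conj (⟨g, hAH hg⟩ : H)).toMonoidHom = U :=
        map_conj_eq_of_mem_normalizer (by rw [normalizer_eq_top]; exact mem_top _)
      conv_rhs => rw [show U' = U.map H.subtype from rfl, ← h1]
      rw [Subgroup.map_map, Subgroup.map_map]
      rfl
    have hc := ih _ hlt U' rfl (hQ.to_le hU'Q) hAU
    intro u hu
    rw [mem_centralizer_iff]
    intro z hz
    exact Subtype.ext (mem_centralizer_iff.mp (hc hu) z (mem_map_of_mem H.subtype hz))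
  · intro b hb
    have hB : closure ({x, (b : G) * x * (b : G)⁻¹} : Set G) = H := by
      rw [← hclo b, hb, ← MonoidHom.range_eq_map, range_subtype]
    have := hmax H hAH inferInstance ⟨b, b.2, hB.symm⟩
    exact subgroupOf_eq_top.mpr this.le

/-- `F(A)V` is nilpotent. -/
theorem isNilpotent_fitting_sup {p : ℕ} [Fact p.Prime] (hp : 3 < p) {x a : G} (hxp : x ^ p = 1)
    (A : Subgroup G) [Group.IsSolvable A] (haA : a ∈ A) (hgen : A = closure ({x, a * x * a⁻¹} : Set G))
    (hmax : ∀ B : Subgroup G, A ≤ B → Group.IsSolvable B →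
      (∃ b ∈ B, B = closure ({x, b * x * b⁻¹} : Set G)) → B = A)
    (V : Subgroup G) (hV : Group.IsNilpotent V) (hAV : A ≤ normalizer (V : Set G)) :
    Group.IsNilpotent ↥((Cfsg.fittingSubgroup A).map A.subtype ⊔ V) := by
  set R : Nat.Primes → Subgroup G := fun r => (Cfsg.pCore (r : ℕ) A).map A.subtype
  set U : Nat.Primes → Subgroup G := fun r => (Cfsg.pCore (r : ℕ) V).map V.subtype
  set L := (Cfsg.fittingSubgroup A).map A.subtype ⊔ V
  have hF : (Cfsg.fittingSubgroup A).map A.subtype = ⨆ r, R r := by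
    rw [CfsgLib.Solvable.fittingSubgroup_eq_iSup, Subgroup.map_iSup]
  have hVU : V = ⨆ r, U r := by
    have h : Cfsg.fittingSubgroup V = ⊤ := top_le_iff.mp
      (CfsgLib.Solvable.le_fittingSubgroup (N := ⊤) (haveI := hV; Group.nilpotent_of_mulEquiv Subgroup.topEquiv.symm))
    conv_lhs => rw [← range_subtype V, MonoidHom.range_eq_map, ← h,
      CfsgLib.Solvable.fittingSubgroup_eq_iSup, Subgroup.map_iSup]
  have hRA : ∀ r, R r ≤ A := fun r => map_subtype_le _
  have hUV : ∀ r, U r ≤ V := fun r => map_subtype_le _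
  have hRn : ∀ r, A ≤ normalizer (R r : Set G) := fun r g hg => by
    haveI := CfsgLib.Solvable.pCore_characteristic (G := A) (r : ℕ)
    exact mem_normalizer_map_char _ (le_normalizer hg)
  have hUn : ∀ r, normalizer (V : Set G) ≤ normalizer (U r : Set G) := fun r g hg => by
    haveI := CfsgLib.Solvable.pCore_characteristic (G := V) (r : ℕ)
    exact mem_normalizer_map_char _ hg
  have hcent : ∀ r q : Nat.Primes, r ≠ q → R r ≤ centralizer (U q : Set G) := by
    intro r q hne
    haveI : Fact (r : ℕ).Prime := ⟨r.2⟩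
    haveI : Fact (q : ℕ).Prime := ⟨q.2⟩
    exact le_centralizer_of_invariant hp (fun h => hne (Subtype.ext h)) hxp A (R r) haA hgen hmax
      ((CfsgLib.Solvable.isPGroup_pCore _).map _) (hRA r)
      (fun g hg u hu => (mem_normalizer_iff.mp (hRn r hg) u).mp hu) _ (U q) rfl
      ((CfsgLib.Solvable.isPGroup_pCore _).map _) (hAV.trans (hUn q))
  set S : Nat.Primes → Subgroup G := fun r => R r ⊔ U r
  have hSp : ∀ r : Nat.Primes, IsPGroup (r : ℕ) (S r) := fun r =>
    IsPGroup.to_sup_of_normal_right' ((CfsgLib.Solvable.isPGroup_pCore _).map _)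
      ((CfsgLib.Solvable.isPGroup_pCore _).map _) ((hRA r).trans (hAV.trans (hUn r)))
  have hL : L = ⨆ r, S r := by
    show (Cfsg.fittingSubgroup A).map A.subtype ⊔ V = _
    conv_lhs => rw [hF, hVU]
    rw [← iSup_sup_eq]
  have hnorm : ∀ r, L ≤ normalizer (S r : Set G) := by
    intro r
    rw [hL]
    refine iSup_le fun q => ?_
    rcases eq_or_ne q r with rfl | hne
    · exact le_normalizer
    refine sup_le (fun g hg => ?_) (fun g hg => ?_)
    · exact mem_normalizer_sup (hRn r (hRA q hg)) (hUn r (hAV (hRA q hg)))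
    · refine mem_normalizer_sup ?_ (hUn r (le_normalizer (hUV q hg)))
      rw [mem_normalizer_iff]
      intro z
      have key : ∀ y ∈ R r, g * y = y * g := fun y hy =>
        mem_centralizer_iff.mp (hcent r q hne.symm hy) g hg
      constructor
      · intro hz
        rw [key z hz, mul_inv_cancel_right]
        exact hz
      · intro hz
        have h1 := key _ hz
        have h2 : g * z * g⁻¹ = z := by
          have h3 : g * (g * z * g⁻¹) = g * z := by rw [h1]; simp [mul_assoc]
          exact mul_left_cancel h3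
        rwa [h2] at hz
  have htop : Cfsg.fittingSubgroup L = ⊤ := by
    rw [eq_top_iff]
    apply map_le_map_iff_of_injective L.subtype_injective |>.mp
    rw [← MonoidHom.range_eq_map, range_subtype]
    conv_lhs => rw [hL]
    refine iSup_le fun r => ?_
    have hle : S r ≤ L := hL ▸ le_iSup S r
    haveI : Fact (r : ℕ).Prime := ⟨r.2⟩
    haveI : ((S r).subgroupOf L).Normal := normal_subgroupOf_of_le_normalizer (hnorm r)
    have h1 : (S r).subgroupOf L ≤ Cfsg.fittingSubgroup L :=
      (CfsgLib.Solvable.le_pCore ((hSp r).of_injective (subgroupOfEquivOfLe hle).toMonoidHom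
        (MulEquiv.injective _))).trans (CfsgLib.Solvable.pCore_le_fittingSubgroup _)
    have h2 := map_mono (f := L.subtype) h1
    rwa [map_subgroupOf_eq_of_le hle] at h2
  haveI := CfsgLib.Solvable.fittingSubgroup_isNilpotent (G := L)
  exact Group.nilpotent_of_mulEquiv ((MulEquiv.subgroupCongr htop).trans Subgroup.topEquiv)

end CfsgLib.FGS
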