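import Mathlib.GroupTheory.Sylow
import Mathlib.GroupTheory.GroupAction.ConjAct
import Mathlib.Algebra.IsPrimePow

/-!
Small facts: prime-power parts of elements outside a subgroup, fixed points of a `p`-subgroup in a
normal subgroup of order divisible by `p`.
-/

namespace CfsgLib.FGS

variable {G : Type*} [Group G]

/-- An element outside a subgroup has a power of prime-power order outside it. -/
theorem exists_pow_primePow_not_mem [Finite G] {N : Subgroup G} {x : G} (hx : x ∉ N) :
    ∃ k p m : ℕ, p.Prime ∧ 0 < m ∧ x ^ k ∉ N ∧ orderOf (x ^ k) = p ^ m := by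
  induction hn : orderOf x using Nat.strong_induction_on generalizing x with
  | _ n ih =>
    subst hn
    have hne : orderOf x ≠ 1 := fun h => hx (by rw [orderOf_eq_one_iff.1 h]; exact N.one_mem)
    have hp := Nat.minFac_prime hne
    have hpd := Nat.minFac_dvd (orderOf x)
    set p := (orderOf x).minFac with hpdef
    have hn0 := (orderOf_pos x).ne'
    have he : 0 < (orderOf x).factorization p := hp.factorization_pos_of_dvd hn0 hpd
    set a := p ^ (orderOf x).factorization p with hadef
    set b := orderOf x / a with hbdef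
    have hab : a * b = orderOf x := Nat.ordProj_mul_ordCompl_eq_self (orderOf x) p
    by_cases hb : b = 1
    · exact ⟨1, p, (orderOf x).factorization p, hp, he, by rwa [pow_one],
        by rw [pow_one]; rw [hb, mul_one] at hab; exact hab.symm⟩
    have hco : a.Coprime b := (Nat.coprime_ordCompl hp hn0).pow_left _
    have ha1 : 1 < a := Nat.one_lt_pow he.ne' hp.one_lt
    have hb1 : 1 < b := by
      rcases Nat.eq_zero_or_pos b with h | h
      · rw [h, mul_zero] at hab; exact absurd hab.symm hn0
      · omega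
    have hnot : x ^ a ∉ N ∨ x ^ b ∉ N := by
      by_contra hcon
      push Not at hcon
      apply hx
      have h1 := Nat.gcd_eq_gcd_ab a b
      rw [hco.gcd_eq_one, Nat.cast_one] at h1
      rw [← zpow_one x, h1, zpow_add, zpow_mul, zpow_mul, zpow_natCast, zpow_natCast]
      exact N.mul_mem (N.zpow_mem hcon.1 _) (N.zpow_mem hcon.2 _)
    have step : ∀ c d : ℕ, c * d = orderOf x → 1 < c → x ^ c ∉ N →
        ∃ k p m : ℕ, p.Prime ∧ 0 < m ∧ x ^ k ∉ N ∧ orderOf (x ^ k) = p ^ m := by
      intro c d hcd hc hnc
      have hcd' : c ∣ orderOf x := ⟨d, hcd.symm⟩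
      have ho : orderOf (x ^ c) = orderOf x / c := orderOf_pow_of_dvd (by omega) hcd'
      obtain ⟨k, q, m, hq, hm, hk, hk'⟩ :=
        ih _ (ho ▸ Nat.div_lt_self (orderOf_pos x) hc) hnc rfl
      exact ⟨c * k, q, m, hq, hm, by rwa [pow_mul], by rwa [pow_mul]⟩
    rcases hnot with h | h
    · exact step a b hab ha1 h
    · exact step b a (by rw [mul_comm, hab]) hb1 h

/-- If commuting elements have coprime orders and the second is nontrivial, multiplying changes the order. -/
theorem orderOf_mul_ne [Finite G] {x y : G} (hc : Commute x y)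
    (hco : (orderOf x).Coprime (orderOf y)) (hy : y ≠ 1) : orderOf (x * y) ≠ orderOf x := by
  rw [hc.orderOf_mul_eq_mul_orderOf_of_coprime hco]
  intro h
  exact hy (orderOf_eq_one_iff.1 ((Nat.mul_eq_left (orderOf_pos x).ne').1 h))

/-- An element of `p`-power order outside a normal subgroup forces `p` to divide the index. -/
theorem dvd_index_of_not_mem [Finite G] {p : ℕ} (hp : p.Prime) {N : Subgroup G} [N.Normal] {x : G}
    (hx : x ∉ N) {m : ℕ} (hm : orderOf x = p ^ m) : p ∣ N.index := by
  have h1 : orderOf (x : G ⧸ N) ∣ p ^ m := hm ▸ orderOf_map_dvd (QuotientGroup.mk' N) x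
  obtain ⟨i, -, hi⟩ := (Nat.dvd_prime_pow hp).1 h1
  have hi0 : i ≠ 0 := by
    intro h
    rw [h, pow_zero, orderOf_eq_one_iff, QuotientGroup.eq_one_iff] at hi
    exact hx hi
  exact ((dvd_pow_self p hi0).trans (hi ▸ dvd_refl _)).trans
    (orderOf_dvd_natCard (x : G ⧸ N))

/-- A Sylow subgroup is not inside a normal subgroup of index divisible by `p`. -/
theorem sylow_not_le [Finite G] {p : ℕ} [Fact p.Prime] (P : Sylow p G) {N : Subgroup G}
    (h : p ∣ N.index) : ¬ (P : Subgroup G) ≤ N :=
  fun hle => P.not_dvd_index (h.trans (Subgroup.index_dvd_of_le hle))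

/-- A `p`-subgroup fixes a nontrivial element of a normal subgroup of order divisible by `p`. -/
theorem exists_mem_ne_one_commute [Finite G] {p : ℕ} [hp : Fact p.Prime] {P M : Subgroup G}
    [M.Normal] (hP : IsPGroup p P) (h : p ∣ Nat.card M) :
    ∃ z ∈ M, z ≠ 1 ∧ ∀ y ∈ P, y * z = z * y := by
  letI : MulAction P M :=
    MulAction.compHom M ((MulAut.conjNormal : G →* MulAut M).comp P.subtype)
  have hfix : (1 : M) ∈ MulAction.fixedPoints P M := by
    intro y
    show MulAut.conjNormal (y : G) (1 : M) = 1
    exact map_one _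
  obtain ⟨z, hz, hz1⟩ := hP.exists_fixed_point_of_prime_dvd_card_of_fixed_point M h hfix
  refine ⟨z, z.2, fun h1 => hz1 (Subtype.ext h1.symm), fun y hy => ?_⟩
  have h2 : ((MulAut.conjNormal y z : M) : G) = (z : G) := congrArg Subtype.val (hz ⟨y, hy⟩)
  rw [MulAut.conjNormal_apply, mul_inv_eq_iff_eq_mul] at h2
  exact h2

end CfsgLib.FGS
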