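import Mathlib
import Cfsg.Agent.SL2Classes.Basic
import Cfsg.Agent.SL2Trace.Order
import Cfsg.Agent.GroupBasics.Conjugates

/-!
Conjugacy classes of the elements of order `p` in `SL(2, F)`, `F` finite of characteristic `p`.
-/

set_option autoImplicit false

namespace CfsgLib.FGS.SL2Unipotent

open Matrix
open scoped MatrixGroups

variable {F : Type*} [Field F]

/-- Upper unitriangular elements. -/
def uni (b : F) : SL(2, F) := ⟨!![1, b; 0, 1], by simp [det_fin_two_of]⟩

theorem coe_uni (b : F) : ((uni b : SL(2, F)) : Matrix (Fin 2) (Fin 2) F) = !![1, b; 0, 1] := rfl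

theorem eq_uni {g : SL(2, F)} (h00 : (g : Matrix (Fin 2) (Fin 2) F) 0 0 = 1) (h11 : (g : Matrix (Fin 2) (Fin 2) F) 1 1 = 1) (h10 : (g : Matrix (Fin 2) (Fin 2) F) 1 0 = 0) :
    g = uni ((g : Matrix (Fin 2) (Fin 2) F) 0 1) := by
  apply Subtype.ext
  ext i j
  fin_cases i <;> fin_cases j <;> simp [coe_uni, h00, h11, h10]

theorem isConj_uni {b b' : F} (hb : b ≠ 0) (hb' : b' ≠ 0) :
    IsConj (uni b) (uni b') ↔ IsSquare (b * b') := by
  constructor
  · intro h
    obtain ⟨P, hP⟩ := isConj_iff.1 h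
    have h' : P * uni b = uni b' * P := mul_inv_eq_iff_eq_mul.1 hP
    have e := congrArg Subtype.val h'
    have e11 := congrFun (congrFun e 1) 1
    have e01 := congrFun (congrFun e 0) 1
    simp [coe_uni, mul_apply] at e11 e01
    have hdet := SL2Trace.det_eq_one P
    refine ⟨b' * (P : Matrix (Fin 2) (Fin 2) F) 1 1, ?_⟩
    rcases e11 with h0 | h0
    · linear_combination b' * (P : Matrix (Fin 2) (Fin 2) F) 1 1 * e01 - b * b' * hdet - (P : Matrix (Fin 2) (Fin 2) F) 0 1 * b * b' * h0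
    · subst h0
      linear_combination b' * (P : Matrix (Fin 2) (Fin 2) F) 1 1 * e01
  · rintro ⟨r, hr⟩
    have hr0 : r ≠ 0 := by
      rintro rfl
      exact mul_ne_zero hb hb' (by simpa using hr)
    let P : SL(2, F) := ⟨!![b' / r, 0; 0, r / b'], by rw [det_fin_two_of]; field_simp; ring⟩
    have hP : (P : Matrix (Fin 2) (Fin 2) F) = !![b' / r, 0; 0, r / b'] := rfl
    refine isConj_iff.2 ⟨P, mul_inv_eq_iff_eq_mul.2 ?_⟩
    · apply Matrix.SpecialLinearGroup.ext
      intro i j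
      fin_cases i <;> fin_cases j <;> simp [coe_uni, mul_apply, hP]
      field_simp
      linear_combination hr

theorem exists_uni (p : ℕ) [Fact p.Prime] [CharP F p] {g : SL(2, F)} (hg : orderOf g = p) :
    ∃ b : F, b ≠ 0 ∧ IsConj g (uni b) := by
  have hg1 : g ≠ 1 := fun h => (Fact.out : p.Prime).ne_one (by rw [← hg, h, orderOf_one])
  have hp : ((g : Matrix (Fin 2) (Fin 2) F) - 1) ^ p = 0 := by
    rw [sub_pow_char_of_commute p (Commute.one_right (g : Matrix (Fin 2) (Fin 2) F)), one_pow,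
      ← Matrix.SpecialLinearGroup.coe_pow, ← hg, pow_orderOf_eq_one, Matrix.SpecialLinearGroup.coe_one, sub_self]
  have htr : (g : Matrix (Fin 2) (Fin 2) F) 0 0 + (g : Matrix (Fin 2) (Fin 2) F) 1 1 = 2 := by
    have h := (isNilpotent_trace_of_isNilpotent ⟨p, hp⟩).eq_zero
    rw [trace_sub, trace_one, trace_fin_two, Fintype.card_fin, sub_eq_zero] at h
    exact_mod_cast h
  have hdet := SL2Trace.det_eq_one g
  -- the nilpotent part `!![x, y; z, -x]` has `x² + y z = 0`
  by_cases hy : (g : Matrix (Fin 2) (Fin 2) F) 0 1 = 0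
  · have hx : (g : Matrix (Fin 2) (Fin 2) F) 0 0 = 1 := by
      have h : ((g : Matrix (Fin 2) (Fin 2) F) 0 0 - 1) ^ 2 = 0 := by
        linear_combination (g : Matrix (Fin 2) (Fin 2) F) 0 0 * htr - hdet - (g : Matrix (Fin 2) (Fin 2) F) 1 0 * hy
      exact sub_eq_zero.1 (pow_eq_zero_iff two_ne_zero |>.1 h)
    have h11 : (g : Matrix (Fin 2) (Fin 2) F) 1 1 = 1 := by linear_combination htr - hx
    have hz : (g : Matrix (Fin 2) (Fin 2) F) 1 0 ≠ 0 := fun h => hg1 (Subtype.ext (by
      ext i j; fin_cases i <;> fin_cases j <;> simp [hx, h11, hy, h]))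
    let P : SL(2, F) := ⟨!![0, -1; 1, 0], by simp [det_fin_two_of]⟩
    have hP : (P : Matrix (Fin 2) (Fin 2) F) = !![0, -1; 1, 0] := rfl
    refine ⟨-(g : Matrix (Fin 2) (Fin 2) F) 1 0, neg_ne_zero.2 hz,
      IsConj.symm (isConj_iff.2 ⟨P, mul_inv_eq_iff_eq_mul.2 (Matrix.SpecialLinearGroup.ext _ _ ?_)⟩)⟩
    intro i j
    fin_cases i <;> fin_cases j <;> simp [coe_uni, mul_apply, hx, h11, hy, hP]
  · let P : SL(2, F) := ⟨!![1, 0; -((g : Matrix (Fin 2) (Fin 2) F) 0 0 - 1) /
      (g : Matrix (Fin 2) (Fin 2) F) 0 1, 1], by simp [det_fin_two_of]⟩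
    have hP : (P : Matrix (Fin 2) (Fin 2) F) = !![1, 0; -((g : Matrix (Fin 2) (Fin 2) F) 0 0 - 1) /
      (g : Matrix (Fin 2) (Fin 2) F) 0 1, 1] := rfl
    refine ⟨(g : Matrix (Fin 2) (Fin 2) F) 0 1, hy, IsConj.symm (isConj_iff.2
      ⟨P, mul_inv_eq_iff_eq_mul.2 (Matrix.SpecialLinearGroup.ext _ _ ?_)⟩)⟩
    intro i j
    fin_cases i <;> fin_cases j <;> simp [coe_uni, mul_apply, hP] <;>
      field_simp <;> grind

variable [Fintype F]

theorem card_class [DecidableEq F] (p : ℕ) [Fact p.Prime] [CharP F p] {g : SL(2, F)}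
    (hg : orderOf g = p) :
    Nat.card (ConjClasses.mk g).carrier * (Finset.univ.filter fun z : F => z ^ 2 = 1).card =
      Fintype.card F ^ 2 - 1 := by
  obtain ⟨b, hb, hgb⟩ := exists_uni p hg
  rw [ConjClasses.mk_eq_mk_iff_isConj.2 hgb, Nat.card_coe_set_eq, CfsgLib.GroupBasics.card_carrier_eq_index_centralizer]
  set C := Subgroup.centralizer ({uni b} : Set SL(2, F))
  have hC : Nat.card C =
      Fintype.card F * (Finset.univ.filter fun z : F => z ^ 2 = 1).card := by
    refine SL2Classes.card_centralizer_unipotent ?_ 1 (one_pow 2) ?_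
    · left; simpa [coe_uni] using hb
    · simp [SL2Tori.tr, coe_uni, trace_fin_two, two_mul, one_add_one_eq_two]
  have h := C.card_mul_index
  rw [Linear.card_SL_two, hC, mul_assoc] at h
  rw [mul_comm]
  exact Nat.eq_of_mul_eq_mul_left Fintype.card_pos h

theorem orderOf_uni (p : ℕ) [Fact p.Prime] [CharP F p] {b : F} (hb : b ≠ 0) :
    orderOf (uni b) = p := by
  have hpow : ∀ n : ℕ, uni b ^ n = uni ((n : F) * b) := by
    intro n
    induction n with
    | zero => apply Subtype.ext; ext i j; fin_cases i <;> fin_cases j <;> simp [coe_uni]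
    | succ n ih =>
      rw [pow_succ, ih]
      apply Subtype.ext
      ext i j
      fin_cases i <;> fin_cases j <;> simp [Matrix.SpecialLinearGroup.coe_mul, coe_uni, mul_apply]
      ring
  refine orderOf_eq_prime ?_ ?_
  · rw [hpow, CharP.cast_eq_zero, zero_mul]
    apply Subtype.ext; ext i j; fin_cases i <;> fin_cases j <;> simp [coe_uni]
  · intro h
    apply hb
    have := congrFun (congrFun (congrArg Subtype.val h) 0) 1
    simpa [coe_uni] using this

end CfsgLib.FGS.SL2Unipotent
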