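import Cfsg.Agent.PLocal.Cores
import Mathlib.GroupTheory.IsSubnormal
import Mathlib.GroupTheory.Nilpotent
import Mathlib.Data.Finset.Powerset
import Mathlib.Algebra.BigOperators.Ring.Finset

/-!
The subnormalizer of a `p`-subgroup and Casolo's counting formula.
-/

namespace CfsgLib.FGS.Subnormalizer

open scoped Pointwise

/-- `g` normalizes some `p`-subgroup containing `R`. -/
def Adm (p : ℕ) {G : Type*} [Group G] (R : Subgroup G) (g : G) : Prop :=
  ∃ K : Subgroup G, R ≤ K ∧ IsPGroup p K ∧ g ∈ Subgroup.normalizer (K : Set G)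

theorem isSubnormal_of_isNilpotent {G : Type*} [Group G] [Finite G] [Group.IsNilpotent G]
    (H : Subgroup G) : H.IsSubnormal := by
  induction hn : Nat.card G - Nat.card H using Nat.strong_induction_on generalizing H with
  | _ n ih =>
    rcases eq_or_ne H ⊤ with rfl | hne
    · exact Subgroup.IsSubnormal.top
    have hlt := Group.normalizerCondition_of_isNilpotent H (lt_top_iff_ne_top.2 hne)
    refine Subgroup.IsSubnormal.step H _ Subgroup.le_normalizer (ih _ ?_ _ rfl) Subgroup.normal_in_normalizer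
    have h1 : Nat.card H < Nat.card (Subgroup.normalizer (H : Set G)) := by
      rcases Nat.lt_or_ge (Nat.card H) (Nat.card (Subgroup.normalizer (H : Set G))) with h | h
      · exact h
      · exact absurd (Subgroup.eq_of_le_of_card_ge hlt.le h) hlt.ne
    have h2 := Subgroup.card_le_card_group (Subgroup.normalizer (H : Set G))
    omega

variable {G : Type*} [Group G] [Finite G] {p : ℕ} [Fact p.Prime]

/-- Membership in the subnormalizer of a `p`-subgroup. -/
theorem isSubnormal_sup_iff {H : Subgroup G} (hH : IsPGroup p H) (g : G) :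
    (H.subgroupOf (H ⊔ Subgroup.zpowers g)).IsSubnormal ↔ Adm p H g := by
  set L := H ⊔ Subgroup.zpowers g with hL
  constructor
  · intro h
    have hle := CfsgLib.PLocal.le_pCore_of_isSubnormal h
      (hH.of_equiv (Subgroup.subgroupOfEquivOfLe le_sup_left).symm)
    refine ⟨(Cfsg.pCore p L).map L.subtype, ?_, (CfsgLib.PLocal.isPGroup_pCore p L).map _, ?_⟩
    · intro x hx
      exact ⟨⟨x, Subgroup.mem_sup_left hx⟩, hle hx, rfl⟩
    · refine Subgroup.le_normalizer_map L.subtype ⟨⟨g, Subgroup.mem_sup_right (Subgroup.mem_zpowers g)⟩, ?_, rfl⟩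
      rw [Subgroup.normalizer_eq_top]
      exact Subgroup.mem_top _
  · rintro ⟨K, hHK, hK, hg⟩
    have hLN : L ≤ Subgroup.normalizer (K : Set G) :=
      sup_le (hHK.trans Subgroup.le_normalizer) ((Subgroup.zpowers_le).2 hg)
    set N := Subgroup.normalizer (K : Set G)
    haveI : Group.IsNilpotent K := hK.isNilpotent
    have hKN : K ≤ N := Subgroup.le_normalizer
    haveI : (K.subgroupOf N).Normal := Subgroup.normal_in_normalizer
    have h2 : ((H.subgroupOf N).subgroupOf (K.subgroupOf N)).IsSubnormal := by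
      haveI : Group.IsNilpotent (K.subgroupOf N) :=
        (hK.of_equiv (Subgroup.subgroupOfEquivOfLe hKN).symm).isNilpotent
      exact isSubnormal_of_isNilpotent _
    have h3 : (H.subgroupOf N).IsSubnormal :=
      Subgroup.IsSubnormal.trans (fun x hx => hHK hx) h2
        (Subgroup.Normal.isSubnormal inferInstance)
    have h4 := h3.comap (Subgroup.inclusion hLN)
    exact h4

omit [Finite G] [Fact p.Prime] in
/-- The least `g`-invariant subgroup above `R`. -/
theorem exists_closure (R : Subgroup G) (g : G) :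
    ∃ C : Subgroup G, R ≤ C ∧ g ∈ Subgroup.normalizer (C : Set G) ∧
      ∀ K : Subgroup G, R ≤ K → g ∈ Subgroup.normalizer (K : Set G) → C ≤ K := by
  refine ⟨sInf {K | R ≤ K ∧ g ∈ Subgroup.normalizer (K : Set G)}, le_sInf fun K hK => hK.1, ?_,
    fun K h1 h2 => sInf_le ⟨h1, h2⟩⟩
  rw [Subgroup.mem_normalizer_iff]
  intro x
  simp only [Subgroup.mem_sInf, Set.mem_setOf_eq]
  exact ⟨fun h K hK => (Subgroup.mem_normalizer_iff.1 hK.2 x).1 (h K hK),
    fun h K hK => (Subgroup.mem_normalizer_iff.1 hK.2 x).2 (h K hK)⟩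

theorem exists_normalizer_gt {R K : Subgroup G} (hK : IsPGroup p K) (h : R < K) :
    R < K ⊓ Subgroup.normalizer (R : Set G) := by
  haveI : Group.IsNilpotent K := hK.isNilpotent
  have hlt : R.subgroupOf K < ⊤ :=
    lt_top_iff_ne_top.2 fun he => h.not_ge (Subgroup.subgroupOf_eq_top.1 he)
  obtain ⟨x, hx, hxR⟩ := SetLike.exists_of_lt (Group.normalizerCondition_of_isNilpotent (G := K) _ hlt)
  rw [← Subgroup.subgroupOf_normalizer_eq h.le] at hx
  exact lt_of_le_of_ne (le_inf h.le Subgroup.le_normalizer)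
    fun he => hxR (he.ge ⟨x.2, hx⟩)

omit [Finite G] [Fact p.Prime] in
/-- Alternating sums cancel under a toggle. -/
theorem alt_sum_eq_zero {X : Type*} [Finite X] (R : Subgroup G) (A : Finset (Subgroup G))
    (Φ : X → Subgroup G → Prop)
    (h : ∀ x : X, (∀ Y, R ≤ Y → ¬ Φ x Y) ∨ ∃ a ∈ A, ∀ Y, R ≤ Y → (Φ x (Y ⊔ a) ↔ Φ x Y)) :
    ∑ T ∈ A.powerset, (-1 : ℤ) ^ T.card * (Nat.card {x // Φ x (R ⊔ T.sup id)} : ℤ) = 0 := by
  classical
  haveI := Fintype.ofFinite X
  have hc : ∀ T : Finset (Subgroup G), (Nat.card {x // Φ x (R ⊔ T.sup id)} : ℤ) =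
      ∑ x : X, if Φ x (R ⊔ T.sup id) then 1 else 0 := fun T => by
    rw [Nat.card_eq_fintype_card, Fintype.card_subtype, Finset.card_filter]
    push_cast
    rfl
  simp only [hc, Finset.mul_sum]
  rw [Finset.sum_comm]
  refine Finset.sum_eq_zero fun x _ => ?_
  rcases h x with h | ⟨a, ha, h⟩
  · exact Finset.sum_eq_zero fun T _ => by rw [if_neg (h _ le_sup_left), mul_zero]
  · conv_lhs => rw [← Finset.insert_erase ha]
    rw [Finset.sum_powerset_insert (Finset.notMem_erase a A), ← Finset.sum_add_distrib]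
    refine Finset.sum_eq_zero fun T hT => ?_
    have hnot : a ∉ T := fun hm => Finset.notMem_erase a A (Finset.mem_powerset.1 hT hm)
    have he : (Φ x (R ⊔ (insert a T).sup id)) ↔ Φ x (R ⊔ T.sup id) := by
      rw [Finset.sup_insert, id_eq, sup_comm a, ← sup_assoc]
      exact h _ le_sup_left
    rw [Finset.card_insert_of_notMem hnot, if_congr he rfl rfl]
    ring

omit [Fact p.Prime] in
theorem card_adm_subgroupOf {M J : Subgroup G} (hJ : J ≤ M) :
    Nat.card {g : M // Adm p (J.subgroupOf M) g} = Nat.card {g : G // g ∈ M ∧ Adm p J g} := by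
  refine Nat.card_congr ((Equiv.subtypeEquivRight fun g => ?_).trans
    (Equiv.subtypeSubtypeEquivSubtypeInter (fun g => g ∈ M) (fun g => Adm p J g)))
  constructor
  · rintro ⟨K, hJK, hK, hg⟩
    exact ⟨K.map M.subtype, fun x hx => ⟨⟨x, hJ hx⟩, hJK hx, rfl⟩, hK.map _,
      Subgroup.le_normalizer_map M.subtype ⟨g, hg, rfl⟩⟩
  · rintro ⟨K, hJK, hK, hg⟩
    refine ⟨K.subgroupOf M, fun x hx => hJK hx, hK.comap_of_injective _ M.subtype_injective, ?_⟩
    rw [Subgroup.mem_normalizer_iff]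
    intro x
    simpa [Subgroup.mem_subgroupOf] using Subgroup.mem_normalizer_iff.1 hg (x : G)

theorem casolo_aux (k : ℕ) : ∀ (G : Type*) [Group G] [Finite G] (R : Subgroup G),
    Nat.card G ≤ Nat.card R + k →
    Nat.card {g : G // Adm p R g} * Nat.card (Sylow p G) =
      Nat.card {Q : Sylow p G // R ≤ Q} * Nat.card G := by
  induction k using Nat.strong_induction_on with
  | _ k ih =>
  intro G _ _ R hk
  classical
  have hp : p.Prime := Fact.out
  by_cases hR : IsPGroup p R
  swap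
  · have h1 : Nat.card {g : G // Adm p R g} = 0 := by
      rw [Nat.card_eq_zero]
      exact Or.inl ⟨fun g => hR (g.2.choose_spec.2.1.to_le g.2.choose_spec.1)⟩
    have h2 : Nat.card {Q : Sylow p G // R ≤ Q} = 0 := by
      rw [Nat.card_eq_zero]
      exact Or.inl ⟨fun Q => hR (Q.1.isPGroup'.to_le Q.2)⟩
    rw [h1, h2, zero_mul, zero_mul]
  by_cases hmax : ∃ Q : Sylow p G, (Q : Subgroup G) = R
  · obtain ⟨Q, rfl⟩ := hmax
    have h2 : Nat.card {Q' : Sylow p G // (Q : Subgroup G) ≤ Q'} = 1 := by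
      rw [Nat.card_eq_one_iff_exists]
      exact ⟨⟨Q, le_rfl⟩, fun Q' => Subtype.ext (Sylow.ext (Q.is_maximal' Q'.1.isPGroup' Q'.2))⟩
    have h1 : Nat.card {g : G // Adm p (Q : Subgroup G) g} =
        Nat.card (Subgroup.normalizer ((Q : Subgroup G) : Set G)) := by
      refine Nat.card_congr (Equiv.subtypeEquivRight fun g => ⟨?_, fun hg => ⟨Q, le_rfl, Q.isPGroup', hg⟩⟩)
      rintro ⟨K, hQK, hK, hg⟩
      rwa [Q.is_maximal' hK hQK] at hg
    rw [h1, h2, one_mul, Sylow.card_eq_index_normalizer Q]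
    exact Subgroup.card_mul_index _
  set M := Subgroup.normalizer (R : Set G) with hM
  haveI := Fintype.ofFinite (Subgroup G)
  let A : Finset (Subgroup G) := Finset.univ.filter fun a => R < a ∧ a ≤ M ∧ IsPGroup p a
  have hatom : ∀ K : Subgroup G, IsPGroup p K → R < K → K ⊓ M ∈ A := fun K hK h =>
    Finset.mem_filter.2 ⟨Finset.mem_univ _, exists_normalizer_gt hK h, inf_le_right, hK.to_le inf_le_left⟩
  have hRM : R ≤ M := Subgroup.le_normalizer
  have hJM : ∀ T ∈ A.powerset, R ⊔ T.sup id ≤ M := fun T hT =>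
    sup_le hRM (Finset.sup_le fun a ha => (Finset.mem_filter.1 (Finset.mem_powerset.1 hT ha)).2.2.1)
  have hgt : ∀ T ∈ A.powerset, T.Nonempty → R < R ⊔ T.sup id := by
    rintro T hT ⟨a, ha⟩
    exact lt_of_lt_of_le (Finset.mem_filter.1 (Finset.mem_powerset.1 hT ha)).2.1
      ((Finset.le_sup (f := id) ha).trans le_sup_right)
  -- elements outside `M` cancel
  have hout : ∑ T ∈ A.powerset, (-1 : ℤ) ^ T.card *
      (Nat.card {g : G // g ∉ M ∧ Adm p (R ⊔ T.sup id) g} : ℤ) = 0 := by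
    refine alt_sum_eq_zero R A (fun g Y => g ∉ M ∧ Adm p Y g) fun g => ?_
    by_cases hg : g ∉ M ∧ Adm p R g
    swap
    · exact Or.inl fun Y hY h => hg ⟨h.1, h.2.imp fun K hK => ⟨hY.trans hK.1, hK.2⟩⟩
    obtain ⟨hgM, K, hRK, hK, hgK⟩ := hg
    obtain ⟨C, hRC, hgC, hC⟩ := exists_closure R g
    have hlt : R < C := lt_of_le_of_ne hRC fun he => hgM (by rw [hM, he]; exact hgC)
    refine Or.inr ⟨C ⊓ M, hatom C (hK.to_le (hC K hRK hgK)) hlt, fun Y hY => ?_⟩
    refine and_congr_right fun _ => ⟨?_, ?_⟩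
    · rintro ⟨K', h1, h2⟩
      exact ⟨K', le_sup_left.trans h1, h2⟩
    · rintro ⟨K', h1, h2, h3⟩
      exact ⟨K', sup_le h1 (inf_le_left.trans (hC K' (hY.trans h1) h3)), h2, h3⟩
  have hsylG : ∑ T ∈ A.powerset, (-1 : ℤ) ^ T.card *
      (Nat.card {Q : Sylow p G // R ⊔ T.sup id ≤ Q} : ℤ) = 0 := by
    refine alt_sum_eq_zero R A (fun (Q : Sylow p G) Y => Y ≤ Q) fun Q => ?_
    by_cases hQ : R ≤ Q
    swap
    · exact Or.inl fun Y hY h => hQ (hY.trans h)
    have hlt : R < Q := lt_of_le_of_ne hQ fun he => hmax ⟨Q, he.symm⟩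
    exact Or.inr ⟨(Q : Subgroup G) ⊓ M, hatom _ Q.isPGroup' hlt, fun Y _ =>
      ⟨fun h => le_sup_left.trans h, fun h => sup_le h inf_le_left⟩⟩
  obtain ⟨P₀, hP₀⟩ := hR.exists_le_sylow
  have hnotM : ∀ Q : Sylow p M, (Q : Subgroup M).map M.subtype ≠ R := by
    intro Q he
    have hlt : R < P₀ := lt_of_le_of_ne hP₀ fun he' => hmax ⟨P₀, he'.symm⟩
    have hgt' := exists_normalizer_gt P₀.isPGroup' hlt
    have hQle : (Q : Subgroup M) ≤ ((P₀ : Subgroup G) ⊓ M).subgroupOf M := by
      intro x hx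
      exact hgt'.le (he ▸ ⟨x, hx, rfl⟩ : (x : G) ∈ R)
    have := Q.is_maximal' ((P₀.isPGroup'.to_le inf_le_left).comap_of_injective _ M.subtype_injective) hQle
    have h5 : (Q : Subgroup M).map M.subtype = (P₀ : Subgroup G) ⊓ M := by
      rw [← this]; exact Subgroup.map_subgroupOf_eq_of_le inf_le_right
    exact hgt'.ne (he.symm.trans h5)
  have hsylM : ∑ T ∈ A.powerset, (-1 : ℤ) ^ T.card *
      (Nat.card {Q : Sylow p M // R ⊔ T.sup id ≤ (Q : Subgroup M).map M.subtype} : ℤ) = 0 := by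
    refine alt_sum_eq_zero R A (fun (Q : Sylow p M) Y => Y ≤ (Q : Subgroup M).map M.subtype) fun Q => ?_
    by_cases hQ : R ≤ (Q : Subgroup M).map M.subtype
    swap
    · exact Or.inl fun Y hY h => hQ (hY.trans h)
    exact Or.inr ⟨_, hatom _ (Q.isPGroup'.map _) (lt_of_le_of_ne hQ (hnotM Q).symm), fun Y _ =>
      ⟨fun h => le_sup_left.trans h, fun h => sup_le h inf_le_left⟩⟩
  -- induction
  have hcard : ∀ J : Subgroup G, R < J → Nat.card R < Nat.card J := fun J hJ => by
    rcases Nat.lt_or_ge (Nat.card R) (Nat.card J) with h | h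
    · exact h
    · exact absurd (Subgroup.eq_of_le_of_card_ge hJ.le h) hJ.ne
  have hcM : ∀ J : Subgroup G, J ≤ M → Nat.card (J.subgroupOf M) = Nat.card J := fun J hJ =>
    Nat.card_congr (Subgroup.subgroupOfEquivOfLe hJ).toEquiv
  set n := Nat.card (Sylow p G) with hn
  set n' := Nat.card (Sylow p M) with hn'
  have hk1 : 1 ≤ k := by
    by_contra hk0
    have hRtop : R = ⊤ := Subgroup.eq_top_of_le_card R (by omega)
    exact hmax ⟨P₀, top_unique (hRtop ▸ hP₀) |>.trans hRtop.symm⟩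
  have ihG : ∀ T ∈ A.powerset, T.Nonempty →
      (Nat.card {g : G // Adm p (R ⊔ T.sup id) g} : ℤ) * n =
        Nat.card {Q : Sylow p G // R ⊔ T.sup id ≤ Q} * Nat.card G := by
    intro T hT hne
    have h2 := hcard _ (hgt T hT hne)
    exact_mod_cast ih (k - 1) (by omega) G (R ⊔ T.sup id) (by omega)
  have ihM : ∀ T ∈ A.powerset, T.Nonempty →
      (Nat.card {g : G // g ∈ M ∧ Adm p (R ⊔ T.sup id) g} : ℤ) * n' =
        Nat.card {Q : Sylow p M // R ⊔ T.sup id ≤ (Q : Subgroup M).map M.subtype} * Nat.card M := by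
    intro T hT hne
    have hle := hJM T hT
    have h2 := hcard _ (hgt T hT hne)
    have hMG := Subgroup.card_le_card_group M
    have h := ih (k - 1) (by omega) M ((R ⊔ T.sup id).subgroupOf M) (by rw [hcM _ hle]; omega)
    rw [card_adm_subgroupOf hle, Nat.card_congr (Equiv.subtypeEquivRight fun Q : Sylow p M =>
      show (R ⊔ T.sup id).subgroupOf M ≤ Q ↔ R ⊔ T.sup id ≤ (Q : Subgroup M).map M.subtype from ?_)] at h
    · exact_mod_cast h
    · constructor
      · intro h' x hx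
        exact ⟨⟨x, hle hx⟩, h' hx, rfl⟩
      · intro h' x hx
        obtain ⟨y, hy, hyx⟩ := h' hx
        rwa [← Subtype.ext (a1 := y) (a2 := x) hyx]
  -- base values in `M`
  have hbaseM : (Nat.card {g : G // g ∈ M ∧ Adm p R g} : ℤ) * n' =
      Nat.card {Q : Sylow p M // R ≤ (Q : Subgroup M).map M.subtype} * Nat.card M := by
    have h1 : Nat.card {g : G // g ∈ M ∧ Adm p R g} = Nat.card M :=
      Nat.card_congr (Equiv.subtypeEquivRight fun g => ⟨fun h => h.1, fun h => ⟨h, R, le_rfl, hR, h⟩⟩)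
    have h2 : Nat.card {Q : Sylow p M // R ≤ (Q : Subgroup M).map M.subtype} = n' := by
      refine Nat.card_congr (Equiv.subtypeUnivEquiv fun Q x hx => ⟨⟨x, hRM hx⟩, ?_, rfl⟩)
      haveI : (R.subgroupOf M).Normal := Subgroup.normal_in_normalizer
      exact (CfsgLib.PLocal.le_pCore (hR.of_equiv (Subgroup.subgroupOfEquivOfLe hRM).symm)).trans
        (CfsgLib.PLocal.pCore_le_sylow Q) hx
    rw [h1, h2, mul_comm]
  have empty_or : ∀ T : Finset (Subgroup G), T = ∅ ∨ T.Nonempty := fun T => T.eq_empty_or_nonempty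
  set E : ℤ := ∑ T ∈ A.powerset, (-1 : ℤ) ^ T.card *
    (Nat.card {g : G // g ∈ M ∧ Adm p (R ⊔ T.sup id) g} : ℤ) with hE
  have hE0 : E = 0 := by
    have h : E * n' = 0 := by
      have hterm : ∀ T ∈ A.powerset, (-1 : ℤ) ^ T.card *
          (Nat.card {g : G // g ∈ M ∧ Adm p (R ⊔ T.sup id) g} : ℤ) * n' =
          (-1 : ℤ) ^ T.card * (Nat.card {Q : Sylow p M // R ⊔ T.sup id ≤ (Q : Subgroup M).map M.subtype} : ℤ) * Nat.card M := by
        intro T hT
        rw [mul_assoc, mul_assoc]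
        congr 1
        rcases empty_or T with rfl | hne
        · simpa using hbaseM
        · exact ihM T hT hne
      rw [hE, Finset.sum_mul, Finset.sum_congr rfl hterm, ← Finset.sum_mul, hsylM, zero_mul]
    exact (mul_eq_zero.1 h).resolve_right (by exact_mod_cast Nat.card_pos.ne')
  have hsumG : ∑ T ∈ A.powerset, (-1 : ℤ) ^ T.card *
      (Nat.card {g : G // Adm p (R ⊔ T.sup id) g} : ℤ) = 0 := by
    have hsplit : ∀ T : Finset (Subgroup G), (Nat.card {g : G // Adm p (R ⊔ T.sup id) g} : ℤ) =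
        Nat.card {g : G // g ∈ M ∧ Adm p (R ⊔ T.sup id) g} +
          Nat.card {g : G // g ∉ M ∧ Adm p (R ⊔ T.sup id) g} := by
      intro T
      rw [← Nat.cast_add, ← Nat.card_sum, Nat.card_congr ((Equiv.sumCongr
        ((Equiv.subtypeEquivRight fun g => and_comm).trans (Equiv.subtypeSubtypeEquivSubtypeInter _ (fun g => g ∈ M)).symm)
        ((Equiv.subtypeEquivRight fun g => and_comm).trans (Equiv.subtypeSubtypeEquivSubtypeInter _ (fun g => g ∉ M)).symm)).trans
        (Equiv.sumCompl fun g : {g : G // Adm p (R ⊔ T.sup id) g} => (g : G) ∈ M))]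
    rw [Finset.sum_congr rfl fun T _ => by rw [hsplit T, mul_add], Finset.sum_add_distrib, hout, ← hE, hE0, add_zero]
  have h0 : ∑ T ∈ A.powerset, (-1 : ℤ) ^ T.card *
      ((Nat.card {g : G // Adm p (R ⊔ T.sup id) g} : ℤ) * n -
        Nat.card {Q : Sylow p G // R ⊔ T.sup id ≤ Q} * Nat.card G) = 0 := by
    simp only [mul_sub, ← mul_assoc]
    rw [Finset.sum_sub_distrib, ← Finset.sum_mul, ← Finset.sum_mul, hsumG, hsylG, zero_mul, zero_mul, sub_zero]
  rw [Finset.sum_eq_single_of_mem ∅ (Finset.empty_mem_powerset A) fun T hT hT0 => by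
    rw [ihG T hT (Finset.nonempty_iff_ne_empty.2 hT0), sub_self, mul_zero]] at h0
  rw [Finset.card_empty, pow_zero, one_mul, Finset.sup_empty, sub_eq_zero, sup_bot_eq] at h0
  exact_mod_cast h0

/-- Casolo's formula. -/
theorem card_adm_mul (R : Subgroup G) :
    Nat.card {g : G // Adm p R g} * Nat.card (Sylow p G) =
      Nat.card {Q : Sylow p G // R ≤ Q} * Nat.card G :=
  casolo_aux (Nat.card G) G R (by omega)

/-- Casolo's formula with a Sylow normalizer. -/
theorem card_adm (R : Subgroup G) (P : Sylow p G) :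
    Nat.card {g : G // Adm p R g} =
      Nat.card {Q : Sylow p G // R ≤ Q} * Nat.card (Subgroup.normalizer ((P : Subgroup G) : Set G)) := by
  refine Nat.eq_of_mul_eq_mul_right (Nat.card_pos (α := Sylow p G)) ?_
  rw [card_adm_mul, mul_assoc]
  congr 1
  rw [Sylow.card_eq_index_normalizer P]
  exact (Subgroup.card_mul_index _).symm

end CfsgLib.FGS.Subnormalizer
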