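import Cfsg.Agent.FGS.Subnormalizer
import Cfsg.Agent.Inv54.SylowLift

/-!
Subnormalizers of `p`-subgroups under a surjection whose kernel is a `p`-group or a `p'`-group.
-/

namespace CfsgLib.FGS.Subnormalizer

open scoped Pointwise

variable {G G' : Type*} [Group G] [Finite G] [Group G'] [Finite G'] {p : ℕ} [Fact p.Prime]

/-- Kernel a `p`-group: the subnormalizer is the full preimage. -/
theorem card_adm_of_ker_pGroup {f : G →* G'} (hf : Function.Surjective f) (hker : IsPGroup p f.ker)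
    (R : Subgroup G) :
    Nat.card {g : G // Adm p R g} = Nat.card f.ker * Nat.card {g : G' // Adm p (R.map f) g} := by
  have hiff : ∀ g : G, Adm p R g ↔ Adm p (R.map f) (f g) := by
    intro g
    constructor
    · rintro ⟨K, h1, h2, h3⟩
      exact ⟨K.map f, Subgroup.map_mono h1, h2.map f, Subgroup.le_normalizer_map f ⟨g, h3, rfl⟩⟩
    · rintro ⟨K, h1, h2, h3⟩
      exact ⟨K.comap f, Subgroup.map_le_iff_le_comap.1 h1, h2.comap_of_ker_isPGroup f hker,
        Subgroup.le_normalizer_comap f h3⟩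
  let s := Function.surjInv hf
  have hs : ∀ y, f (s y) = y := Function.surjInv_eq hf
  rw [← Nat.card_prod]
  refine Nat.card_congr
    { toFun := fun g => (⟨(s (f g.1))⁻¹ * g.1, by rw [MonoidHom.mem_ker, map_mul, map_inv, hs, inv_mul_cancel]⟩,
        ⟨f g.1, (hiff g.1).1 g.2⟩)
      invFun := fun q => ⟨s q.2.1 * q.1.1, (hiff _).2 (by
        rw [map_mul, hs, MonoidHom.mem_ker.1 q.1.2, mul_one]; exact q.2.2)⟩
      left_inv := fun g => Subtype.ext (by simp)
      right_inv := fun q => by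
        have h : f (s q.2.1 * q.1.1) = q.2.1 := by rw [map_mul, hs, MonoidHom.mem_ker.1 q.1.2, mul_one]
        refine Prod.ext (Subtype.ext ?_) (Subtype.ext h)
        show (s (f (s q.2.1 * q.1.1)))⁻¹ * (s q.2.1 * q.1.1) = q.1.1
        rw [h, inv_mul_cancel_left] }

/-- Kernel a `p'`-group: the centralizer of `R` in the kernel splits off. -/
theorem card_adm_of_ker_coprime {f : G →* G'} (hf : Function.Surjective f)
    (hker : (Nat.card f.ker).Coprime p) {R : Subgroup G} (hR : IsPGroup p R) :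
    Nat.card {g : G // Adm p R g} =
      Nat.card {u : G // u ∈ f.ker ∧ ∀ h ∈ R, h * u * h⁻¹ * u⁻¹ = 1} *
        Nat.card {g : G' // Adm p (R.map f) g} := by
  classical
  set C := f.ker ⊓ Subgroup.centralizer (R : Set G) with hC
  have hCcard : Nat.card {u : G // u ∈ f.ker ∧ ∀ h ∈ R, h * u * h⁻¹ * u⁻¹ = 1} = Nat.card C := by
    refine Nat.card_congr (Equiv.subtypeEquivRight fun u => ?_)
    rw [hC, Subgroup.mem_inf, Subgroup.mem_centralizer_iff]
    refine and_congr_right fun _ => forall₂_congr fun h _ => ?_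
    rw [mul_inv_eq_one, mul_inv_eq_iff_eq_mul]
  rw [hCcard]
  haveI := Fintype.ofFinite (Sylow p G')
  have hp : p.Prime := Fact.out
  let π : Sylow p G → Sylow p G' := fun Q => Q.mapSurjective hf
  have hπ : ∀ Q : Sylow p G, ((π Q : Sylow p G') : Subgroup G') = (Q : Subgroup G).map f :=
    fun Q => Sylow.coe_mapSurjective hf Q
  have hdisj : ∀ (Q : Sylow p G) (x : G), x ∈ (Q : Subgroup G) → x ∈ f.ker → x = 1 := by
    intro Q x hx hxk
    obtain ⟨i, hi⟩ := (IsPGroup.iff_orderOf.1 Q.isPGroup') ⟨x, hx⟩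
    rw [Subgroup.orderOf_mk] at hi
    exact orderOf_eq_one_iff.1 (Nat.eq_one_of_dvd_coprimes (hker.symm.pow_left i)
      (dvd_of_eq hi) (f.ker.orderOf_dvd_natCard hxk))
  -- the fibre of `π` through a Sylow subgroup `Q₀`
  have horb : ∀ (Q₀ Q : Sylow p G), π Q = π Q₀ → ∃ x ∈ f.ker, x • Q₀ = Q := by
    intro Q₀ Q hQ
    set T := ((Q₀ : Subgroup G).map f).comap f with hT
    have h0 : (Q₀ : Subgroup G) ≤ T := Subgroup.le_comap_map f _
    have h1 : (Q : Subgroup G) ≤ T := by
      rw [hT, ← hπ Q₀, ← hQ, hπ]; exact Subgroup.le_comap_map f _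
    obtain ⟨t, ht⟩ := MulAction.exists_smul_eq T (Q₀.subtype h0) (Q.subtype h1)
    obtain ⟨q, hq, hqt⟩ : ∃ q ∈ (Q₀ : Subgroup G), f q = f t := t.2
    refine ⟨(t : G) * q⁻¹, by rw [MonoidHom.mem_ker, map_mul, map_inv, hqt, mul_inv_cancel], ?_⟩
    rw [mul_smul, Sylow.smul_eq_iff_mem_normalizer.2 (Subgroup.le_normalizer (Subgroup.inv_mem _ hq))]
    rw [Sylow.smul_subtype h0 t] at ht
    exact Sylow.subtype_injective ht
  have hfib : ∀ (Q₀ : Sylow p G), R ≤ Q₀ →
      Nat.card {Q : Sylow p G // R ≤ Q ∧ π Q = π Q₀} * Nat.card f.ker =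
        Nat.card {Q : Sylow p G // π Q = π Q₀} * Nat.card C := by
    intro Q₀ hQ₀
    -- the `ker`-orbit of `Q₀`
    have hall : Nat.card {Q : Sylow p G // π Q = π Q₀} * Nat.card (MulAction.stabilizer f.ker Q₀) =
        Nat.card f.ker := by
      rw [Subgroup.card_eq_card_quotient_mul_card_subgroup (MulAction.stabilizer f.ker Q₀),
        ← Nat.card_congr (MulAction.orbitEquivQuotientStabilizer f.ker Q₀)]
      congr 1
      refine Nat.card_congr (Equiv.setCongr (s := {Q | π Q = π Q₀}) ?_)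
      ext Q
      constructor
      · intro hQ
        obtain ⟨x, hx, rfl⟩ := horb Q₀ Q hQ
        exact ⟨⟨x, hx⟩, rfl⟩
      · rintro ⟨x, rfl⟩
        refine Sylow.ext ?_
        rw [hπ, hπ]
        show (MulAut.conj (x : G) • (Q₀ : Subgroup G)).map f = _
        ext y
        constructor
        · rintro ⟨_, ⟨z, hz, rfl⟩, rfl⟩
          exact ⟨z, hz, by simp [MonoidHom.mem_ker.1 x.2]⟩
        · rintro ⟨z, hz, rfl⟩
          exact ⟨_, ⟨z, hz, rfl⟩, by simp [MonoidHom.mem_ker.1 x.2]⟩
    -- conjugating elements keeping `R` inside centralize it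
    have hkey : ∀ x ∈ f.ker, R ≤ (x • Q₀ : Sylow p G) → x ∈ C := by
      intro x hx hxR
      refine ⟨hx, Subgroup.mem_centralizer_iff.2 fun h hh => ?_⟩
      obtain ⟨z, hz, hzh⟩ := hxR hh
      have hzh' : x * z * x⁻¹ = h := hzh
      have hk : f z = f h := by rw [← hzh', map_mul, map_mul, map_inv, MonoidHom.mem_ker.1 hx]; group
      have : z = h := by
        rw [← inv_mul_eq_one]
        exact hdisj Q₀ _ (Subgroup.mul_mem _ (Subgroup.inv_mem _ hz) (hQ₀ hh))
          (by rw [MonoidHom.mem_ker, map_mul, map_inv, hk, inv_mul_cancel])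
      rw [this, mul_inv_eq_iff_eq_mul] at hzh'
      exact hzh'.symm
    have hstle : MulAction.stabilizer f.ker Q₀ ≤ C.subgroupOf f.ker := by
      intro x hx
      have hx' : (x : G) • Q₀ = Q₀ := hx
      exact hkey x x.2 (by rw [hx']; exact hQ₀)
    have hsome : Nat.card {Q : Sylow p G // R ≤ Q ∧ π Q = π Q₀} * Nat.card (MulAction.stabilizer f.ker Q₀) =
        Nat.card C := by
      have hst : Nat.card (MulAction.stabilizer f.ker Q₀) = Nat.card (MulAction.stabilizer C Q₀) := by
        refine Nat.card_congr ⟨fun x => ⟨⟨x.1.1, hstle x.2⟩, x.2⟩, fun x => ⟨⟨x.1.1, x.1.2.1⟩, x.2⟩,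
          fun x => rfl, fun x => rfl⟩
      rw [hst, Subgroup.card_eq_card_quotient_mul_card_subgroup (MulAction.stabilizer C Q₀),
        ← Nat.card_congr (MulAction.orbitEquivQuotientStabilizer C Q₀)]
      congr 1
      refine Nat.card_congr (Equiv.setCongr (s := {Q : Sylow p G | R ≤ Q ∧ π Q = π Q₀}) ?_)
      ext Q
      constructor
      · rintro ⟨hRQ, hQ⟩
        obtain ⟨x, hx, rfl⟩ := horb Q₀ Q hQ
        exact ⟨⟨x, hkey x hx hRQ⟩, rfl⟩
      · rintro ⟨⟨x, hx⟩, rfl⟩
        refine ⟨fun h hh => ⟨h, hQ₀ hh, ?_⟩, ?_⟩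
        · show x * h * x⁻¹ = h
          rw [mul_inv_eq_iff_eq_mul]
          exact (Subgroup.mem_centralizer_iff.1 (Subgroup.mem_inf.1 hx).2 h hh).symm
        · refine Sylow.ext ?_
          rw [hπ, hπ]
          show (MulAut.conj x • (Q₀ : Subgroup G)).map f = _
          have hx1 : f x = 1 := MonoidHom.mem_ker.1 (Subgroup.mem_inf.1 hx).1
          ext y
          constructor
          · rintro ⟨_, ⟨z, hz, rfl⟩, rfl⟩
            exact ⟨z, hz, by simp [hx1]⟩
          · rintro ⟨z, hz, rfl⟩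
            exact ⟨_, ⟨z, hz, rfl⟩, by simp [hx1]⟩
    calc _ = Nat.card {Q : Sylow p G // R ≤ Q ∧ π Q = π Q₀} *
          (Nat.card {Q : Sylow p G // π Q = π Q₀} * Nat.card (MulAction.stabilizer f.ker Q₀)) := by rw [hall]
      _ = _ := by rw [← hsome]; ring
  -- all fibres have the same size
  obtain ⟨P⟩ : Nonempty (Sylow p G) := inferInstance
  set k := Nat.card {Q : Sylow p G // π Q = π P}
  have hk : ∀ S : Sylow p G', Nat.card {Q : Sylow p G // π Q = S} = k := by
    intro S
    obtain ⟨y, rfl⟩ := MulAction.exists_smul_eq G' (π P) S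
    obtain ⟨g, rfl⟩ := hf y
    refine (Nat.card_congr (Equiv.subtypeEquiv (MulAction.toPerm g) fun Q => ?_)).symm
    have he : ∀ Q : Sylow p G, π (g • Q) = f g • π Q := fun Q => Sylow.ext (by
      show ((g • Q : Sylow p G) : Subgroup G).map f = MulAut.conj (f g) • (π Q : Subgroup G')
      rw [hπ Q]
      show ((Q : Subgroup G).map (MulAut.conj g).toMonoidHom).map f =
        ((Q : Subgroup G).map f).map (MulAut.conj (f g)).toMonoidHom
      rw [Subgroup.map_map, Subgroup.map_map]
      congr 1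
      ext z
      simp)
    show π Q = π P ↔ π (g • Q) = f g • π P
    rw [he]
    exact (smul_left_cancel_iff _).symm
  have hn : Nat.card (Sylow p G) = Nat.card (Sylow p G') * k := by
    rw [← Nat.card_congr (Equiv.sigmaFiberEquiv π), Nat.card_sigma, Finset.sum_congr rfl fun S _ => hk S,
      Finset.sum_const, smul_eq_mul, Finset.card_univ, ← Nat.card_eq_fintype_card]
  have hlam : Nat.card {Q : Sylow p G // R ≤ Q} * Nat.card f.ker =
      Nat.card {S : Sylow p G' // R.map f ≤ S} * k * Nat.card C := by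
    haveI := Fintype.ofFinite {S : Sylow p G' // R.map f ≤ S}
    let e : {Q : Sylow p G // R ≤ Q} ≃
        Σ S : {S : Sylow p G' // R.map f ≤ S}, {Q : Sylow p G // R ≤ Q ∧ π Q = S.1} :=
      { toFun := fun Q => ⟨⟨π Q.1, by rw [hπ]; exact Subgroup.map_mono Q.2⟩, Q.1, Q.2, rfl⟩
        invFun := fun s => ⟨s.2.1, s.2.2.1⟩
        left_inv := fun Q => rfl
        right_inv := by
          rintro ⟨⟨S, hS⟩, Q, hQ, h⟩
          change π Q = S at h
          subst h
          rfl }
    rw [Nat.card_congr e, Nat.card_sigma, Finset.sum_mul]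
    rw [Finset.sum_congr rfl fun (S : {S : Sylow p G' // R.map f ≤ S}) _ => show
      Nat.card {Q : Sylow p G // R ≤ Q ∧ π Q = S.1} * Nat.card f.ker = k * Nat.card C from ?_,
      Finset.sum_const, smul_eq_mul, Finset.card_univ, ← Nat.card_eq_fintype_card, mul_assoc]
    obtain ⟨S₁, hS₁, hmap⟩ := CfsgLib.Inv54.exists_sylow_ge_map_eq hf S.1 hR S.2
    have hS : π S₁ = S.1 := Sylow.ext (by rw [hπ, hmap])
    rw [← hS, hfib S₁ hS₁, hk]
  have hcardG : Nat.card G = Nat.card f.ker * Nat.card G' := by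
    rw [← Subgroup.card_mul_index f.ker, Subgroup.index_ker, MonoidHom.range_eq_top.2 hf, Subgroup.card_top]
  refine Nat.eq_of_mul_eq_mul_right (Nat.card_pos (α := Sylow p G)) ?_
  calc Nat.card {g : G // Adm p R g} * Nat.card (Sylow p G)
      = Nat.card {Q : Sylow p G // R ≤ Q} * Nat.card G := card_adm_mul R
    _ = (Nat.card {Q : Sylow p G // R ≤ Q} * Nat.card f.ker) * Nat.card G' := by rw [hcardG]; ring
    _ = (Nat.card {S : Sylow p G' // R.map f ≤ S} * Nat.card G') * k * Nat.card C := by rw [hlam]; ring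
    _ = _ := by rw [← card_adm_mul (R.map f), hn]; ring

end CfsgLib.FGS.Subnormalizer
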