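import Mathlib
import Cfsg.Agent.Linear.Basic
import Cfsg.Agent.LinearOrders.Basic

/-!
Sylow `r`-subgroups of `GL_n(q)` and `SL_n(q)` for primes `r > n` not dividing `q`: homocyclic, with
invariants read off the order of `q` modulo `r`.
-/

set_option autoImplicit false
set_option linter.style.haveILetI false

namespace CfsgLib.FGS.SylowGL

open Matrix Finset
open scoped MatrixGroups

section Arith

variable {q r : ℕ} [hr : Fact r.Prime]

/-- `r ∣ q ^ i - 1` exactly when the order of `q` modulo `r` divides `i`. -/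
theorem dvd_pow_sub_one_iff (hq : 1 ≤ q) (i : ℕ) :
    r ∣ q ^ i - 1 ↔ orderOf (q : ZMod r) ∣ i := by
  rw [← ZMod.natCast_eq_zero_iff, orderOf_dvd_iff_pow_eq_one,
    Nat.cast_sub (Nat.one_le_pow _ _ hq), Nat.cast_pow, Nat.cast_one, sub_eq_zero]

theorem order_pos (hrq : ¬ r ∣ q) : 0 < orderOf (q : ZMod r) := by
  have h : (q : ZMod r) ≠ 0 := fun h => hrq ((ZMod.natCast_eq_zero_iff _ _).1 h)
  exact (isOfFinOrder_iff_pow_eq_one.mpr
    ⟨r - 1, Nat.sub_pos_of_lt hr.out.one_lt, ZMod.pow_card_sub_one_eq_one h⟩).orderOf_pos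

/-- The exponent of `r` in `|Φ_d(q)|`. -/
noncomputable def expo (q r : ℕ) : ℕ :=
  padicValNat r ((Polynomial.cyclotomic (orderOf (q : ZMod r)) ℤ).eval (q : ℤ)).natAbs

theorem factorization_top (hq : 2 ≤ q) (hrq : ¬ r ∣ q) :
    (q ^ orderOf (q : ZMod r) - 1).factorization r = expo q r := by
  set d := orderOf (q : ZMod r) with hd
  have hd0 : 0 < d := order_pos hrq
  have h1 : ∀ e : ℕ, 0 < e → ∏ i ∈ e.divisors,
      ((Polynomial.cyclotomic i ℤ).eval (q : ℤ)).natAbs = q ^ e - 1 := by
    intro e he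
    have h := congrArg (fun P => (Polynomial.eval (q : ℤ) P).natAbs)
      (Polynomial.prod_cyclotomic_eq_X_pow_sub_one he ℤ)
    simp only [Polynomial.eval_prod, Polynomial.eval_sub, Polynomial.eval_pow, Polynomial.eval_X,
      Polynomial.eval_one] at h
    rw [show (q : ℤ) ^ e - 1 = ((q ^ e - 1 : ℕ) : ℤ) by
      rw [Nat.cast_sub (Nat.one_le_pow _ _ (by omega))]; push_cast; rfl, Int.natAbs_natCast] at h
    rw [← h]
    exact (map_prod Int.natAbsHom _ _).symm
  have hne : ∀ i ∈ d.divisors, ((Polynomial.cyclotomic i ℤ).eval (q : ℤ)).natAbs ≠ 0 := by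
    intro i hi h0
    have h := h1 d hd0
    rw [Finset.prod_eq_zero hi h0] at h
    have : 2 ≤ q ^ d := hq.trans (Nat.le_self_pow hd0.ne' q)
    omega
  rw [← h1 d hd0, Nat.factorization_prod hne, Finsupp.finsetSum_apply,
    Finset.sum_eq_single d ?_ (fun h => absurd (Nat.mem_divisors_self d hd0.ne') h)]
  · rw [expo, Nat.factorization_def _ hr.out]
  · intro i hi hid
    refine Nat.factorization_eq_zero_of_not_dvd fun hdvd => hid ?_
    have hi0 : 0 < i := Nat.pos_of_mem_divisors hi
    have h3 : r ∣ q ^ i - 1 := by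
      rw [← h1 i hi0]
      exact hdvd.trans (Finset.dvd_prod_of_mem _ (Nat.mem_divisors_self i hi0.ne'))
    exact Nat.dvd_antisymm (Nat.dvd_of_mem_divisors hi) ((dvd_pow_sub_one_iff (by omega) i).1 h3)

theorem factorization_pow_sub_one (hq : 2 ≤ q) (hrq : ¬ r ∣ q) {i : ℕ} (hi : 0 < i) (hir : i < r) :
    (q ^ i - 1).factorization r = if orderOf (q : ZMod r) ∣ i then expo q r else 0 := by
  split_ifs with h
  · obtain ⟨j, hj⟩ := h
    set d := orderOf (q : ZMod r) with hd
    have hd0 : 0 < d := order_pos hrq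
    have hj0 : 0 < j := Nat.pos_of_mul_pos_left (hj ▸ hi)
    have hgs : ¬ r ∣ ∑ l ∈ range j, (q ^ d) ^ l := by
      rw [← ZMod.natCast_eq_zero_iff]
      push_cast
      simp only [hd, pow_orderOf_eq_one, one_pow, Finset.sum_const, Finset.card_range,
        nsmul_eq_mul, mul_one]
      rw [ZMod.natCast_eq_zero_iff]
      exact Nat.not_dvd_of_pos_of_lt hj0 (lt_of_le_of_lt (hj ▸ Nat.le_mul_of_pos_left j hd0) hir)
    have h1 : 1 ≤ q ^ d := Nat.one_le_pow _ _ (by omega)
    have hne : q ^ d - 1 ≠ 0 := by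
      have : 2 ≤ q ^ d := hq.trans (Nat.le_self_pow hd0.ne' q)
      omega
    rw [hj, pow_mul, ← geom_sum_mul_of_one_le h1 j,
      Nat.factorization_mul (fun h0 => hgs (by rw [h0]; exact dvd_zero r)) hne,
      Finsupp.add_apply, Nat.factorization_eq_zero_of_not_dvd hgs, zero_add, factorization_top hq hrq]
  · exact Nat.factorization_eq_zero_of_not_dvd fun hdvd =>
      h ((dvd_pow_sub_one_iff (by omega) i).1 hdvd)

end Arith

variable {F : Type*} [Field F] [Fintype F] {r : ℕ} [hr : Fact r.Prime]

/-- The exponent of `r` in `|GL_n(q)|`. -/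
theorem factorization_card_GL {n : ℕ} (hn : n < r) (hrq : ¬ r ∣ Fintype.card F) :
    (Nat.card (GL (Fin n) F)).factorization r =
      (n / orderOf (Fintype.card F : ZMod r)) * expo (Fintype.card F) r := by
  set q := Fintype.card F
  have hq : 2 ≤ q := Fintype.one_lt_card
  have hne : ∀ i ∈ range n, q ^ (i + 1) - 1 ≠ 0 := by
    intro i _
    have : 2 ≤ q ^ (i + 1) := hq.trans (Nat.le_self_pow (by omega) q)
    omega
  rw [Linear.card_GL, Fintype.card_fin, Linear.prod_pow_sub_pow,
    Nat.factorization_mul (pow_ne_zero _ (by omega)) (Finset.prod_ne_zero_iff.2 hne),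
    Finsupp.add_apply, Nat.factorization_pow, Finsupp.smul_apply,
    Nat.factorization_eq_zero_of_not_dvd hrq, smul_zero, zero_add, Nat.factorization_prod hne,
    Finsupp.finsetSum_apply, Finset.sum_congr rfl fun i hi => factorization_pow_sub_one hq hrq
      (Nat.succ_pos i) (by rw [Finset.mem_range] at hi; omega),
    Finset.sum_ite, Finset.sum_const_zero, add_zero, Finset.sum_const, smul_eq_mul,
    Nat.card_multiples]

/-- A homomorphism of a cyclic group of order `r ^ expo` into `GL_d`, `d` the order of `q`. -/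
theorem exists_cyclic (hrq : ¬ r ∣ Fintype.card F) :
    ∃ φ : Multiplicative (ZMod (r ^ expo (Fintype.card F) r)) →*
      GL (Fin (orderOf (Fintype.card F : ZMod r))) F, Function.Injective φ := by
  obtain ⟨p, hp⟩ := CharP.exists F
  haveI : Fact p.Prime := ⟨CharP.char_is_prime F p⟩
  set q := Fintype.card F
  have hq : 2 ≤ q := Fintype.one_lt_card
  set d := orderOf (q : ZMod r)
  haveI : NeZero d := ⟨(order_pos hrq).ne'⟩
  let K := FiniteField.Extension F p d
  haveI : Finite K := Module.finite_of_finite F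
  let b : Module.Basis (Fin d) F K :=
    Module.finBasisOfFinrankEq F K (FiniteField.finrank_extension F p d)
  have hm : r ^ expo q r ∣ Nat.card Kˣ := by
    rw [Nat.card_units, FiniteField.natCard_extension, Nat.card_eq_fintype_card,
      ← factorization_top hq hrq]
    exact Nat.ordProj_dvd _ _
  obtain ⟨y, hy⟩ := IsCyclic.exists_ofOrder_eq_natCard (α := Kˣ)
  obtain ⟨t, ht⟩ := hm
  have ht0 : 0 < t := Nat.pos_of_mul_pos_left (ht ▸ Nat.card_pos)
  have hord : orderOf (y ^ t) = r ^ expo q r := by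
    rw [orderOf_pow' _ ht0.ne', hy, ht, Nat.gcd_mul_left_left, Nat.mul_div_cancel _ ht0]
  haveI : NeZero (r ^ expo q r) := ⟨pow_ne_zero _ hr.out.ne_zero⟩
  let e : Multiplicative (ZMod (r ^ expo q r)) ≃* Subgroup.zpowers (y ^ t) :=
    mulEquivOfCyclicCardEq (by
      rw [Nat.card_zpowers, hord, Nat.card_congr Multiplicative.toAdd, Nat.card_zmod])
  refine ⟨(LinearOrders.singerGL F b).comp ((Subgroup.zpowers (y ^ t)).subtype.comp e.toMonoidHom),
    (LinearOrders.singerGL_injective F b).comp
      ((Subgroup.subtype_injective _).comp e.injective)⟩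

/-- Block diagonal matrices, padded by an identity block. -/
def padBlock (d k l : ℕ) :
    (Fin k → Matrix (Fin d) (Fin d) F) →*
      Matrix ((Fin d × Fin k) ⊕ Fin l) ((Fin d × Fin k) ⊕ Fin l) F where
  toFun M := fromBlocks (blockDiagonal M) 0 0 1
  map_one' := by simp
  map_mul' M N := by
    rw [fromBlocks_multiply]
    simp [Pi.mul_def, blockDiagonal_mul]

omit [Fintype F] in
theorem padBlock_injective (d k l : ℕ) : Function.Injective (padBlock (F := F) d k l) := by
  intro M N h
  exact blockDiagonal_injective (fromBlocks_inj.1 h).1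

/-- A homocyclic subgroup of `GL_n` of full `r`-power order. -/
theorem exists_homocyclic {n : ℕ} (hrq : ¬ r ∣ Fintype.card F) :
    ∃ φ : (Fin (n / orderOf (Fintype.card F : ZMod r)) →
        Multiplicative (ZMod (r ^ expo (Fintype.card F) r))) →* GL (Fin n) F, Function.Injective φ := by
  set d := orderOf (Fintype.card F : ZMod r) with hd
  obtain ⟨ψ, hψ⟩ : ∃ ψ : Multiplicative (ZMod (r ^ expo (Fintype.card F) r)) →* GL (Fin d) F,
      Function.Injective ψ := exists_cyclic (F := F) hrq
  set k := n / d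
  have hle : d * k ≤ n := Nat.mul_div_le n d
  let e : (Fin d × Fin k) ⊕ Fin (n - d * k) ≃ Fin n :=
    Fintype.equivFinOfCardEq (by simp; omega)
  let g : (Fin k → GL (Fin d) F) →* GL (Fin n) F :=
    (Linear.glReindex (R := F) e).toMonoidHom.comp
      ((Units.map (padBlock d k (n - d * k))).comp MulEquiv.piUnits.symm.toMonoidHom)
  refine ⟨g.comp (MonoidHom.compLeft ψ (Fin k)), ?_⟩
  exact ((Linear.glReindex (R := F) e).injective.comp
    ((Units.map_injective (padBlock_injective d k (n - d * k))).comp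
      MulEquiv.piUnits.symm.injective)).comp fun a b h => funext fun i => hψ (congrFun h i)

/-- A homomorphic injection of a homocyclic group of the full order gives all Sylow subgroups. -/
theorem sylow_equiv {G : Type*} [Group G] [Finite G] {k m : ℕ}
    (φ : (Fin k → Multiplicative (ZMod (r ^ m))) →* G) (hφ : Function.Injective φ)
    (hcard : (Nat.card G).factorization r = k * m) (P : Sylow r G) :
    Nonempty ((P : Subgroup G) ≃* (Fin k → Multiplicative (ZMod (r ^ m)))) := by
  have hc : Nat.card φ.range = r ^ (Nat.card G).factorization r := by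
    rw [← Nat.card_congr (MonoidHom.ofInjective hφ).toEquiv, Nat.card_pi, hcard, mul_comm, pow_mul]
    simp
  exact ⟨(P.equiv (Sylow.ofCard φ.range hc)).trans (MonoidHom.ofInjective hφ).symm⟩

end CfsgLib.FGS.SylowGL
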