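import Cfsg.Agent.FGS.PrimePart
import Cfsg.Prelude.Def_OddOrderLocal

/-!
A TI Hall subgroup `H` contains every subgroup with primes in `π(H)` up to conjugacy.
-/

namespace CfsgLib.FGS

open scoped Pointwise

variable {G : Type*} [Group G] [Finite G]

/-- A `π(H)`-element normalizing a Hall subgroup `H` lies in it. -/
theorem mem_of_normalizes_hall {H : Subgroup G} (hHall : (Nat.card H).Coprime H.index) {u : G}
    (hu : u ∈ Subgroup.normalizer (H : Set G))
    (hπ : ∀ q : ℕ, q.Prime → q ∣ orderOf u → q ∣ Nat.card H) : u ∈ H := by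
  set M := Subgroup.normalizer (H : Set G) with hM
  haveI : (H.subgroupOf M).Normal := Subgroup.normal_in_normalizer
  have hidx : (H.subgroupOf M).index ∣ H.index := H.relIndex_dvd_index_of_le Subgroup.le_normalizer
  by_contra hnot
  obtain ⟨k, p, m, hp, hm, hk, ho⟩ := exists_pow_primePow_not_mem (N := H.subgroupOf M)
    (x := (⟨u, hu⟩ : M)) hnot
  have hpd : p ∣ H.index := (dvd_index_of_not_mem hp hk ho).trans hidx
  have hpu : p ∣ orderOf u := by
    have h1 : orderOf ((⟨u, hu⟩ : M) ^ k) ∣ orderOf u :=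
      (orderOf_pow_dvd k).trans (Subgroup.orderOf_mk u hu).dvd
    exact (ho ▸ dvd_pow_self p hm.ne' : p ∣ orderOf ((⟨u, hu⟩ : M) ^ k)).trans h1
  exact Nat.not_coprime_of_dvd_of_dvd hp.one_lt (hπ p hp hpu) hpd hHall

/-- TI Hall subgroups contain all their `π`-subgroups up to conjugacy. -/
theorem ti_hall_contains {H : Subgroup G} (hHall : (Nat.card H).Coprime H.index)
    (hTI : Cfsg.IsTISubset (H : Set G)) (K : Subgroup G)
    (hK : ∀ q : ℕ, q.Prime → q ∣ Nat.card K → q ∣ Nat.card H) :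
    ∃ g : G, K ≤ MulAut.conj g • H := by
  classical
  rcases eq_or_ne K ⊥ with rfl | hKne
  · exact ⟨1, bot_le⟩
  have hmem : ∀ {g x : G}, x ∈ MulAut.conj g • H ↔ g⁻¹ * x * g ∈ H := by
    intro g x
    rw [Subgroup.mem_pointwise_smul_iff_inv_smul_mem]
    simp [MulAut.smul_def, mul_assoc]
  have hKord : ∀ (u : G), u ∈ K → ∀ q : ℕ, q.Prime → q ∣ orderOf u → q ∣ Nat.card H :=
    fun u hu q hq hqu => hK q hq (hqu.trans (K.orderOf_dvd_natCard hu))
  -- commuting with, or moving into the same conjugate, a nontrivial element forces membership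
  have htrap : ∀ (g v k : G), v ∈ MulAut.conj g • H → v ≠ 1 → k ∈ K →
      k * v * k⁻¹ ∈ MulAut.conj g • H → k ∈ MulAut.conj g • H := by
    intro g v k hv hv1 hk hkv
    rw [hmem] at hv hkv ⊢
    have hN : g⁻¹ * k * g ∈ Subgroup.normalizer (H : Set G) := by
      by_contra hno
      refine hv1 ?_
      have := hTI _ hno _ hv (by
        rw [SetLike.mem_coe, show g⁻¹ * k * g * (g⁻¹ * v * g) * (g⁻¹ * k * g)⁻¹ = g⁻¹ * (k * v * k⁻¹) * g by group]
        exact hkv)
      calc v = g * (g⁻¹ * v * g) * g⁻¹ := by group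
        _ = 1 := by rw [this]; group
    refine mem_of_normalizes_hall hHall hN fun q hq hqd => hKord k hk q hq ?_
    have he : g⁻¹ * k * g = MulAut.conj g⁻¹ k := by simp
    rwa [he, MulEquiv.orderOf_eq] at hqd
  -- every element of `K` lies in a conjugate
  have hcover : ∀ u ∈ K, ∃ g : G, u ∈ MulAut.conj g • H := by
    intro u hu
    rcases eq_or_ne u 1 with rfl | hu1
    · exact ⟨1, Subgroup.one_mem _⟩
    obtain ⟨k, p, m, hp, hm, hk, ho⟩ := exists_pow_primePow_not_mem (N := (⊥ : Subgroup G))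
      (fun h => hu1 (Subgroup.mem_bot.1 h))
    haveI := Fact.mk hp
    have hpH : p ∣ Nat.card H :=
      hKord _ (K.pow_mem hu k) p hp (ho ▸ dvd_pow_self p hm.ne')
    obtain ⟨R⟩ : Nonempty (Sylow p H) := inferInstance
    have hexp : (Nat.card G).factorization p = (Nat.card H).factorization p := by
      rw [← H.card_mul_index, Nat.factorization_mul Nat.card_pos.ne' H.index_ne_zero_of_finite,
        Finsupp.add_apply, Nat.factorization_eq_zero_of_not_dvd (n := H.index), add_zero]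
      exact fun h => Nat.not_coprime_of_dvd_of_dvd hp.one_lt hpH h hHall
    let S : Sylow p G := Sylow.ofCard ((R : Subgroup H).map H.subtype) (by
      rw [Subgroup.card_subtype, R.card_eq_multiplicity, hexp])
    obtain ⟨Q, hQ⟩ := (IsPGroup.of_card (n := m) (by rw [Nat.card_zpowers, ho]) :
      IsPGroup p (Subgroup.zpowers (u ^ k))).exists_le_sylow
    obtain ⟨g, hg⟩ := MulAction.exists_smul_eq G Q S
    have hv : g * u ^ k * g⁻¹ ∈ (S : Subgroup G) := by
      rw [← hg]
      exact ⟨u ^ k, hQ (Subgroup.mem_zpowers _), rfl⟩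
    obtain ⟨r, -, hr⟩ := hv
    refine ⟨g⁻¹, htrap _ (u ^ k) u ?_ (fun h => hk (Subgroup.mem_bot.2 h)) hu ?_⟩
    · rw [hmem, inv_inv]; exact hr ▸ r.2
    · rw [mul_inv_eq_iff_eq_mul.2 ((Commute.self_pow u k).eq), hmem, inv_inv]
      exact hr ▸ r.2
  -- the conjugates meeting `K`
  let Ω := {L : Subgroup G // (∃ g : G, L = (MulAut.conj g • H : Subgroup G)) ∧ L ⊓ K ≠ ⊥}
  haveI := Fintype.ofFinite Ω
  let c : Ω → ℕ := fun L => Nat.card ↥(L.1 ⊓ K)
  have hc2 : ∀ L : Ω, 2 ≤ c L := fun L => (Subgroup.one_lt_card_iff_ne_bot _).2 L.2.2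
  -- they partition the nontrivial elements of `K`
  have hdisj : ∀ (L L' : Ω) (v : G), v ∈ L.1 → v ∈ L'.1 → v ≠ 1 → L = L' := by
    rintro ⟨L, ⟨g, rfl⟩, hL⟩ ⟨L', ⟨g', rfl⟩, hL'⟩ v hv hv' hv1
    refine Subtype.ext ?_
    simp only [hmem] at hv hv'
    have hN : g⁻¹ * g' ∈ Subgroup.normalizer (H : Set G) := by
      by_contra hno
      have := hTI _ hno _ hv' (by
        rw [SetLike.mem_coe, show g⁻¹ * g' * (g'⁻¹ * v * g') * (g⁻¹ * g')⁻¹ = g⁻¹ * v * g by group]
        exact hv)
      refine hv1 ?_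
      calc v = g' * (g'⁻¹ * v * g') * g'⁻¹ := by group
        _ = 1 := by rw [this]; group
    show MulAut.conj g • H = MulAut.conj g' • H
    conv_rhs => rw [show g' = g * (g⁻¹ * g') by group, map_mul, mul_smul]
    congr 1
    ext x
    rw [hmem]
    constructor
    · intro hx
      simpa [mul_assoc] using (Subgroup.mem_normalizer_iff.1 (Subgroup.inv_mem _ hN) x).1 hx
    · intro hx
      exact (Subgroup.mem_normalizer_iff.1 (Subgroup.inv_mem _ hN) x).2 (by simpa [mul_assoc] using hx)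
  let e : (Σ L : Ω, {x : ↥(L.1 ⊓ K) // x ≠ 1}) → {x : K // x ≠ 1} := fun s =>
    ⟨⟨s.2.1, s.2.1.2.2⟩, fun h => s.2.2 (Subtype.ext (congrArg Subtype.val h :))⟩
  have he : Function.Bijective e := by
    constructor
    · rintro ⟨L, x, hx⟩ ⟨L', x', hx'⟩ h
      have hxx : (x : G) = x' := congrArg (fun z => ((z.1 : K) : G)) h
      have hLL : L = L' := hdisj L L' x x.2.1 (hxx ▸ x'.2.1) fun h1 => hx (Subtype.ext h1)
      subst hLL
      have : x = x' := Subtype.ext hxx
      subst this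
      rfl
    · rintro ⟨⟨x, hxK⟩, hx⟩
      obtain ⟨g, hg⟩ := hcover x hxK
      refine ⟨⟨⟨MulAut.conj g • H, ⟨g, rfl⟩, ?_⟩, ⟨x, hg, hxK⟩, ?_⟩, rfl⟩
      · intro hbot
        exact hx (Subtype.ext (Subgroup.mem_bot.1 (hbot ▸ (⟨hg, hxK⟩ : x ∈ MulAut.conj g • H ⊓ K))))
      · exact fun h => hx (Subtype.ext (congrArg Subtype.val h :))
  have hpunct : ∀ (A : Subgroup G), Nat.card {x : A // x ≠ 1} + 1 = Nat.card A := by
    intro A
    have h1 : Nat.card {x : A // x = 1} = 1 := by
      rw [Nat.card_eq_one_iff_exists]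
      exact ⟨⟨1, rfl⟩, fun y => Subtype.ext y.2⟩
    rw [← Nat.card_congr (Equiv.sumCompl fun x : A => x = 1), Nat.card_sum, h1, add_comm]
  have hsum : (∑ L : Ω, (c L - 1)) + 1 = Nat.card K := by
    rw [← hpunct K, ← Nat.card_congr (Equiv.ofBijective e he), Nat.card_sigma]
    congr 1
    exact Finset.sum_congr rfl fun L _ => by have := hpunct (L.1 ⊓ K); simp only [c]; omega
  -- `K` permutes them, with stabilisers the intersections
  have hinK : ∀ (k : K) (L : Ω), (∃ g : G, (MulAut.conj (k : G) • L.1 : Subgroup G) = MulAut.conj g • H) ∧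
      MulAut.conj (k : G) • L.1 ⊓ K ≠ ⊥ := by
    intro k L
    obtain ⟨g, hg⟩ := L.2.1
    refine ⟨⟨k * g, by rw [hg, map_mul, mul_smul]⟩, fun hbot => ?_⟩
    obtain ⟨⟨v, hv⟩, hv1⟩ := Subgroup.ne_bot_iff_exists_ne_one.1 L.2.2
    have hv' : v ≠ 1 := fun h => hv1 (Subtype.ext h)
    have hm : MulAut.conj (k : G) v ∈ MulAut.conj (k : G) • L.1 ⊓ K :=
      ⟨Subgroup.smul_mem_pointwise_smul v _ L.1 hv.1, K.mul_mem (K.mul_mem k.2 hv.2) (K.inv_mem k.2)⟩
    rw [hbot, Subgroup.mem_bot] at hm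
    exact hv' (conj_eq_one_iff.1 hm)
  letI : MulAction K Ω :=
    { smul := fun k L => ⟨MulAut.conj (k : G) • L.1, hinK k L⟩
      one_smul := fun L => Subtype.ext (by
        show MulAut.conj ((1 : K) : G) • L.1 = L.1
        rw [OneMemClass.coe_one, map_one, one_smul])
      mul_smul := fun k k' L => Subtype.ext (by
        show MulAut.conj ((k * k' : K) : G) • L.1 = MulAut.conj (k : G) • MulAut.conj (k' : G) • L.1
        rw [Subgroup.coe_mul, map_mul, mul_smul]) }
  have horb : ∀ L : Ω, Nat.card (MulAction.orbit K L) * c L = Nat.card K := by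
    intro L
    have hst : MulAction.stabilizer K L = (L.1).subgroupOf K := by
      ext k
      rw [MulAction.mem_stabilizer_iff, Subgroup.mem_subgroupOf]
      constructor
      · intro hk
        obtain ⟨g, hg⟩ := L.2.1
        obtain ⟨⟨v, hv⟩, hv1⟩ := Subgroup.ne_bot_iff_exists_ne_one.1 L.2.2
        have hk' : MulAut.conj (k : G) • L.1 = L.1 := congrArg Subtype.val hk
        rw [hg]
        refine htrap g v k (hg ▸ hv.1) (fun h => hv1 (Subtype.ext h)) k.2 (hg ▸ ?_)
        exact hk' ▸ Subgroup.smul_mem_pointwise_smul v _ L.1 hv.1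
      · intro hk
        exact Subtype.ext (Subgroup.conj_smul_eq_self_of_mem hk)
    rw [Nat.card_congr (MulAction.orbitEquivQuotientStabilizer K L), hst,
      show c L = Nat.card ((L.1).subgroupOf K) from ?_, ← Subgroup.card_eq_card_quotient_mul_card_subgroup]
    rw [← Subgroup.card_subtype K ((L.1).subgroupOf K), Subgroup.subgroupOf_map_subtype]
  have hconst : ∀ (L L' : Ω), L' ∈ MulAction.orbit K L → c L' = c L := by
    intro L L' h
    have h1 := horb L'
    rw [MulAction.orbit_eq_iff.2 h, ← horb L] at h1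
    exact Nat.eq_of_mul_eq_mul_left (by
      haveI := (MulAction.nonempty_orbit (M := K) L).to_subtype
      exact Nat.card_pos) h1
  let orb : Ω → Finset Ω := fun L => Finset.univ.filter fun L' => L' ∈ MulAction.orbit K L
  have hpart : ∀ L : Ω, (∑ L' ∈ orb L, (c L' - 1)) + (orb L).card = Nat.card K ∧ 2 * (orb L).card ≤ Nat.card K := by
    intro L
    have hcard : (orb L).card = Nat.card (MulAction.orbit K L) := by
      rw [Nat.card_eq_card_toFinset]
      congr 1
      ext x
      simp [orb]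
    rw [Finset.sum_congr rfl fun L' hL' => by rw [hconst L L' (Finset.mem_filter.1 hL').2],
      Finset.sum_const, smul_eq_mul]
    have h2 := hc2 L
    refine ⟨?_, ?_⟩
    · rw [← Nat.mul_succ, Nat.succ_eq_add_one, Nat.sub_add_cancel (by omega : 1 ≤ c L), hcard]
      exact horb L
    · rw [hcard, ← horb L, mul_comm]
      exact Nat.mul_le_mul le_rfl h2
  obtain ⟨⟨v, hvK⟩, hv1⟩ := Subgroup.ne_bot_iff_exists_ne_one.1 hKne
  obtain ⟨⟨L₀, -⟩, -⟩ := he.2 ⟨⟨v, hvK⟩, hv1⟩
  have hall : ∀ L : Ω, L ∈ orb L₀ := by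
    intro L
    by_contra hL
    have hd : Disjoint (orb L₀) (orb L) := by
      rw [Finset.disjoint_left]
      intro x hx hx'
      refine hL (Finset.mem_filter.2 ⟨Finset.mem_univ _, ?_⟩)
      rw [← MulAction.orbit_eq_iff.2 (Finset.mem_filter.1 hx).2, MulAction.orbit_eq_iff.2 (Finset.mem_filter.1 hx').2]
      exact MulAction.mem_orbit_self L
    have hle : (∑ x ∈ orb L₀, (c x - 1)) + ∑ x ∈ orb L, (c x - 1) ≤ ∑ x : Ω, (c x - 1) := by
      rw [← Finset.sum_union hd]
      exact Finset.sum_le_sum_of_subset (Finset.subset_univ _)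
    obtain ⟨a1, a2⟩ := hpart L₀
    obtain ⟨b1, b2⟩ := hpart L
    omega
  have huniv : orb L₀ = Finset.univ := Finset.eq_univ_of_forall hall
  have h1 := (hpart L₀).1
  have ho := horb L₀
  have hcard1 : Nat.card (MulAction.orbit K L₀) = 1 := by
    have hcard : (orb L₀).card = Nat.card (MulAction.orbit K L₀) := by
      rw [Nat.card_eq_card_toFinset]
      congr 1
      ext x
      simp [orb]
    rw [huniv] at h1 hcard
    omega
  rw [hcard1, one_mul] at ho
  obtain ⟨g, hg⟩ := L₀.2.1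
  refine ⟨g, ?_⟩
  rw [← hg]
  exact (Subgroup.eq_of_le_of_card_ge inf_le_right ho.ge).ge.trans inf_le_left

end CfsgLib.FGS
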